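import Cfsg.Agent.MaxSub.Dickson.Normal
import Cfsg.Agent.PSLTwoSub.Platonic

/-!
`A_4`, `S_4` and `A_5` inside `PGL(2, F)`: conjugacy into subfield subgroups, and overgroups.
-/

set_option autoImplicit false
set_option linter.unusedSectionVars false

open scoped OnePoint MatrixGroups

namespace Cfsg.Agent.MaxSub.Dickson

open Matrix MulAction

namespace Perms

/-- `(0 1)(2 3)`. -/
def a4 : alternatingGroup (Fin 4) :=
  ⟨Equiv.swap 0 1 * Equiv.swap 2 3, Equiv.Perm.mem_alternatingGroup.2 (by decide +kernel)⟩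

/-- `(0 1 2)`. -/
def b4 : alternatingGroup (Fin 4) :=
  ⟨Equiv.swap 0 1 * Equiv.swap 1 2, Equiv.Perm.mem_alternatingGroup.2 (by decide +kernel)⟩

/-- `(0 1)(2 3)`. -/
def a5 : alternatingGroup (Fin 5) :=
  ⟨Equiv.swap 0 1 * Equiv.swap 2 3, Equiv.Perm.mem_alternatingGroup.2 (by decide +kernel)⟩

/-- `(0 1 2)`. -/
def b5 : alternatingGroup (Fin 5) :=
  ⟨Equiv.swap 0 1 * Equiv.swap 1 2, Equiv.Perm.mem_alternatingGroup.2 (by decide +kernel)⟩

/-- `(0 1)(3 4)`. -/
def c5 : alternatingGroup (Fin 5) :=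
  ⟨Equiv.swap 0 1 * Equiv.swap 3 4, Equiv.Perm.mem_alternatingGroup.2 (by decide +kernel)⟩

theorem four_rel : a4 ^ 2 = 1 ∧ a4 ≠ 1 ∧ b4 ^ 3 = 1 ∧ b4 ≠ 1 ∧ (a4 * b4) ^ 3 = 1 ∧ a4 * b4 ≠ 1 := by
  decide +kernel

theorem five_rel : a5 ^ 2 = 1 ∧ a5 ≠ 1 ∧ b5 ^ 3 = 1 ∧ b5 ≠ 1 ∧ (a5 * b5) ^ 3 = 1 ∧ a5 * b5 ≠ 1 ∧
    c5 ^ 2 = 1 ∧ c5 ≠ 1 ∧ (a5 * c5) ^ 3 = 1 ∧ a5 * c5 ≠ 1 ∧ (b5 * c5) ^ 2 = 1 ∧ b5 * c5 ≠ 1 ∧
    (b5 * (a5 * c5)) ^ 5 = 1 ∧ b5 * (a5 * c5) ≠ 1 := by
  decide +kernel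

theorem four_words : ∀ g : alternatingGroup (Fin 4), g = 1 ∨ g = a4 ∨ g = b4 ∨ g = b4 * b4 ∨
    g = a4 * b4 ∨ g = b4 * a4 ∨ g = a4 * (b4 * b4) ∨ g = b4 * b4 * a4 ∨ g = b4 * a4 * (b4 * b4) ∨
    g = b4 * b4 * a4 * b4 ∨ g = a4 * b4 * a4 ∨ g = a4 * (b4 * b4) * a4 := by
  decide +kernel

theorem four_closure : Subgroup.closure ({a4, b4} : Set (alternatingGroup (Fin 4))) = ⊤ := by
  refine eq_top_iff.2 fun g _ => ?_
  have ha : a4 ∈ Subgroup.closure ({a4, b4} : Set (alternatingGroup (Fin 4))) :=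
    Subgroup.subset_closure (Or.inl rfl)
  have hb : b4 ∈ Subgroup.closure ({a4, b4} : Set (alternatingGroup (Fin 4))) :=
    Subgroup.subset_closure (Or.inr rfl)
  rcases four_words g with h | h | h | h | h | h | h | h | h | h | h | h <;> subst h
  · exact one_mem _
  · exact ha
  · exact hb
  · exact mul_mem hb hb
  · exact mul_mem ha hb
  · exact mul_mem hb ha
  · exact mul_mem ha (mul_mem hb hb)
  · exact mul_mem (mul_mem hb hb) ha
  · exact mul_mem (mul_mem hb ha) (mul_mem hb hb)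
  · exact mul_mem (mul_mem (mul_mem hb hb) ha) hb
  · exact mul_mem (mul_mem ha hb) ha
  · exact mul_mem (mul_mem ha (mul_mem hb hb)) ha

theorem five_closure : Subgroup.closure ({a5, b5, c5} : Set (alternatingGroup (Fin 5))) = ⊤ := by
  set K := Subgroup.closure ({a5, b5, c5} : Set (alternatingGroup (Fin 5)))
  have ha : a5 ∈ K := Subgroup.subset_closure (Or.inl rfl)
  have hb : b5 ∈ K := Subgroup.subset_closure (Or.inr (Or.inl rfl))
  have hc : c5 ∈ K := Subgroup.subset_closure (Or.inr (Or.inr rfl))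
  obtain ⟨a2, a1, b3, b1, -, -, -, -, -, -, -, -, f5, f1⟩ := five_rel
  haveI : Fact (Nat.Prime 5) := ⟨Nat.prime_five⟩
  haveI : Fact (Nat.Prime 3) := ⟨Nat.prime_three⟩
  haveI : Fact (Nat.Prime 2) := ⟨Nat.prime_two⟩
  have d2 : 2 ∣ Nat.card K := orderOf_eq_prime a2 a1 ▸ K.orderOf_dvd_natCard ha
  have d3 : 3 ∣ Nat.card K := orderOf_eq_prime b3 b1 ▸ K.orderOf_dvd_natCard hb
  have d5 : 5 ∣ Nat.card K :=
    (orderOf_eq_prime f5 f1).symm.dvd.trans (K.orderOf_dvd_natCard (mul_mem hb (mul_mem ha hc)))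
  have h60 : Nat.card (alternatingGroup (Fin 5)) = 60 := by
    rw [nat_card_alternatingGroup]; simp [Nat.factorial]
  have h30 : 30 ∣ Nat.card K := Nat.Coprime.mul_dvd_of_dvd_of_dvd (m := 6) (n := 5) (by norm_num)
    (Nat.Coprime.mul_dvd_of_dvd_of_dvd (m := 2) (n := 3) (by norm_num) d2 d3) d5
  have hidx := K.index_mul_card
  rw [h60] at hidx
  obtain ⟨c, hc'⟩ := h30
  rw [hc', show K.index * (30 * c) = 30 * (K.index * c) by ring] at hidx
  have hKc : K.index * c = 2 := by omega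
  rcases (Nat.dvd_prime Nat.prime_two).1 ⟨c, hKc.symm⟩ with h | h
  · exact Subgroup.index_eq_one.1 h
  · have hn : K.Normal := Subgroup.normal_of_index_eq_two h
    have : IsSimpleGroup (alternatingGroup (Fin 5)) := alternatingGroup.isSimpleGroup (by simp)
    rcases hn.eq_bot_or_eq_top with hb' | ht
    · exact absurd (Subgroup.mem_bot.1 (hb' ▸ ha)) a1
    · exact ht

/-- The involutions `a4`, its conjugate and their product. -/
def inv4 : List (alternatingGroup (Fin 4)) :=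
  [a4, b4 * a4 * b4⁻¹, a4 * (b4 * a4 * b4⁻¹)]

theorem inv4_conj : ∀ g : alternatingGroup (Fin 4), ∀ x ∈ inv4, g * x * g⁻¹ ∈ inv4 := by
  decide +kernel

theorem inv4_no_swap : ∀ g : alternatingGroup (Fin 4),
    g * a4 * g⁻¹ = b4 * a4 * b4⁻¹ → g * (b4 * a4 * b4⁻¹) * g⁻¹ = a4 → False := by
  decide +kernel

theorem inv4_conj_perm : ∀ g : Equiv.Perm (Fin 4), ∀ x ∈ inv4, ∃ y ∈ inv4,
    g * (x : Equiv.Perm (Fin 4)) * g⁻¹ = (y : Equiv.Perm (Fin 4)) := by
  decide +kernel

theorem inv4_swap_odd : ∀ g : Equiv.Perm (Fin 4),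
    g * (a4 : Equiv.Perm (Fin 4)) * g⁻¹ = ((b4 * a4 * b4⁻¹ : alternatingGroup (Fin 4)) : Equiv.Perm (Fin 4)) →
    g * ((b4 * a4 * b4⁻¹ : alternatingGroup (Fin 4)) : Equiv.Perm (Fin 4)) * g⁻¹ = (a4 : Equiv.Perm (Fin 4)) →
    Equiv.Perm.sign g = -1 := by
  decide +kernel

end Perms

variable {F : Type*} [Field F] [Fintype F] [DecidableEq F]

theorem two_ne_zero_of_odd (hodd : Odd (Fintype.card F)) : (2 : F) ≠ 0 :=
  Ring.two_ne_zero fun h2 => by
    have := FiniteField.even_card_iff_char_two.1 h2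
    rw [Nat.odd_iff] at hodd; omega

/-- The parameters may be taken in the prime field. -/
theorem exists_param (hodd : Odd (Fintype.card F)) :
    ∃ u v : F, u ∈ (⊥ : Subfield F) ∧ v ∈ (⊥ : Subfield F) ∧ u * (1 - u) - v * (v + 1) = 1 := by
  classical
  have h2 := two_ne_zero_of_odd hodd
  have : Fintype (⊥ : Subfield F) := Fintype.ofFinite _
  obtain ⟨r, -, hr⟩ := card_subfield_pow (⊥ : Subfield F)
  have hb : Fintype.card (⊥ : Subfield F) % 2 = 1 := by
    rw [← Nat.card_eq_fintype_card]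
    rw [hr, Nat.odd_iff] at hodd
    by_contra h
    have h0 : Nat.card (⊥ : Subfield F) % 2 = 0 := by omega
    rw [Nat.pow_mod, h0] at hodd
    rcases Nat.eq_zero_or_pos r with rfl | hr0
    · have := Fintype.one_lt_card (α := F)
      rw [hr, pow_zero] at this; omega
    · rw [zero_pow hr0.ne'] at hodd; simp at hodd
  obtain ⟨U, V, hUV⟩ := FiniteField.exists_root_sum_quadratic (R := (⊥ : Subfield F))
    (f := Polynomial.X ^ 2) (g := Polynomial.X ^ 2 + Polynomial.C 2) (Polynomial.degree_X_pow 2)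
    (Polynomial.degree_X_pow_add_C (by norm_num) _) hb
  simp only [Polynomial.eval_pow, Polynomial.eval_X, Polynomial.eval_add, Polynomial.eval_C] at hUV
  have hUV' : (U : F) ^ 2 + ((V : F) ^ 2 + 2) = 0 := by
    have e2 : (((2 : (⊥ : Subfield F))) : F) = 2 := map_ofNat ((⊥ : Subfield F).subtype) 2
    simpa [e2] using congrArg Subtype.val hUV
  have hhalf : (2 : F)⁻¹ ∈ (⊥ : Subfield F) := inv_mem (by simpa using natCast_mem (⊥ : Subfield F) 2)
  refine ⟨((U : F) + 1) * 2⁻¹, ((V : F) - 1) * 2⁻¹, mul_mem (add_mem U.2 (one_mem _)) hhalf,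
    mul_mem (sub_mem V.2 (one_mem _)) hhalf, ?_⟩
  field_simp
  linear_combination -hUV'

theorem pr_mem_subPSL {F₁ : Subfield F} (S : SL(2, F))
    (h : ∀ i j, (S : Matrix (Fin 2) (Fin 2) F) i j ∈ F₁) : pr S ∈ (subPSL F₁).range := by
  rw [range_subPSL]
  have hd := sl_det S
  refine ⟨_, ⟨⟨!![⟨_, h 0 0⟩, ⟨_, h 0 1⟩; ⟨_, h 1 0⟩, ⟨_, h 1 1⟩],
    (by rw [Matrix.det_fin_two_of]; exact Subtype.ext hd)⟩, rfl⟩, ?_⟩
  exact congrArg ProjGenLinGroup.mk (GeneralLinearGroup.ext fun i j => by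
    fin_cases i <;> fin_cases j <;> rfl)

theorem jSL_mem (F₁ : Subfield F) : pr jSL ∈ (subPSL F₁).range :=
  pr_mem_subPSL _ fun i j => by
    fin_cases i <;> fin_cases j <;> simp [jSL, zero_mem, one_mem]

theorem xSL_mem {F₁ : Subfield F} {u v : F} (hu : u ∈ F₁) (hv : v ∈ F₁)
    (h : u * (1 - u) - v * (v + 1) = 1) : pr (xSL u v h) ∈ (subPSL F₁).range :=
  pr_mem_subPSL _ fun i j => by
    fin_cases i <;> fin_cases j <;>
      simp [xSL, hu, hv, add_mem hv (one_mem F₁), sub_mem (one_mem F₁) hu]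

/-- The normal form of an embedded `A_4`. -/
theorem alt_four_frame (hodd : Odd (Fintype.card F)) (ψ : alternatingGroup (Fin 4) →* PGL(2, F))
    (hψ : Function.Injective ψ) (hL : ∀ g, ψ g ∈ lsub F) {u v : F}
    (h : u * (1 - u) - v * (v + 1) = 1) :
    ∃ g : PGL(2, F), g⁻¹ * ψ Perms.a4 * g = pr jSL ∧ g⁻¹ * ψ Perms.b4 * g = pr (xSL u v h) := by
  obtain ⟨e1, e2, e3, e4, e5, e6⟩ := Perms.four_rel
  have hne : ∀ x, x ≠ 1 → ψ x ≠ 1 := fun x hx e => hx (hψ (e.trans (map_one ψ).symm))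
  exact tetra_normal (two_ne_zero_of_odd hodd) (hL _) (hL _) (by rw [← map_pow, e1, map_one])
    (hne _ e2) (by rw [← map_pow, e3, map_one]) (hne _ e4)
    (by rw [← map_mul, ← map_pow, e5, map_one]) (by rw [← map_mul]; exact hne _ e6) h

/-- Conjugating a hom. -/
noncomputable def conjHom {G : Type*} [Group G] (g : PGL(2, F)) (ψ : G →* PGL(2, F)) : G →* PGL(2, F) :=
  (MulAut.conj g⁻¹).toMonoidHom.comp ψ

theorem conjHom_apply {G : Type*} [Group G] (g : PGL(2, F)) (ψ : G →* PGL(2, F)) (x : G) :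
    conjHom g ψ x = g⁻¹ * ψ x * g := by
  simp [conjHom]

/-- An embedded `A_4` is conjugate into `PSL(2, p)`. -/
theorem alt_four_descend (hodd : Odd (Fintype.card F)) {H : Subgroup PGL(2, F)} (hL : H ≤ lsub F)
    (e : H ≃* alternatingGroup (Fin 4)) :
    ∃ g : PGL(2, F), H.map (MulAut.conj g⁻¹).toMonoidHom ≤ (subPSL (⊥ : Subfield F)).range := by
  obtain ⟨u, v, hu, hv, h⟩ := exists_param hodd
  let ψ : alternatingGroup (Fin 4) →* PGL(2, F) := H.subtype.comp e.symm.toMonoidHom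
  obtain ⟨g, g1, g2⟩ := alt_four_frame hodd ψ (Subtype.val_injective.comp e.symm.injective)
    (fun x => hL (e.symm x).2) h
  refine ⟨g, ?_⟩
  have hr : H = ψ.range := by
    ext x
    exact ⟨fun hx => ⟨e ⟨x, hx⟩, by simp [ψ]⟩, by rintro ⟨y, rfl⟩; exact (e.symm y).2⟩
  rw [hr, ← MonoidHom.range_comp]
  show (conjHom g ψ).range ≤ _
  rw [MonoidHom.range_eq_map, ← Perms.four_closure, MonoidHom.map_closure, Subgroup.closure_le]
  rintro _ ⟨x, rfl | rfl, rfl⟩
  · rw [conjHom_apply, g1]; exact jSL_mem _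
  · rw [conjHom_apply, g2]; exact xSL_mem hu hv h

/-- If `5` is a square, every `A_4` in `L` lies in an `A_5` in `L`. -/
theorem alt_four_le_alt_five (hodd : Odd (Fintype.card F)) {s : F} (hs : s * s = 5)
    {H : Subgroup PGL(2, F)} (hL : H ≤ lsub F) (e : H ≃* alternatingGroup (Fin 4)) :
    ∃ M : Subgroup PGL(2, F), H ≤ M ∧ M ≤ lsub F ∧ Nonempty (M ≃* alternatingGroup (Fin 5)) := by
  have h2 := two_ne_zero_of_odd hodd
  obtain ⟨u, v, -, -, h⟩ := exists_param hodd
  let ψ : alternatingGroup (Fin 4) →* PGL(2, F) := H.subtype.comp e.symm.toMonoidHom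
  obtain ⟨g, g1, g2⟩ := alt_four_frame hodd ψ (Subtype.val_injective.comp e.symm.injective)
    (fun x => hL (e.symm x).2) h
  obtain ⟨J, ⟨eJ⟩⟩ := PSLTwoSub.exists_alt_five (F := F) ⟨(s - 1) * 2⁻¹, by
    field_simp
    linear_combination hs⟩
  let χ : alternatingGroup (Fin 5) →* PGL(2, F) :=
    ((Matrix.ProjectiveSpecialLinearGroup.toPGL).comp J.subtype).comp eJ.symm.toMonoidHom
  have hχ : Function.Injective χ :=
    (ProjectiveSpecialLinearGroup.toPGL_injective.comp Subtype.val_injective).comp eJ.symm.injective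
  have hχL : ∀ x, χ x ∈ lsub F := fun x => range_toPGL_eq.le ⟨_, rfl⟩
  obtain ⟨a2, a1, b3, b1, ab3, ab1, -⟩ := Perms.five_rel
  have hne : ∀ x, x ≠ 1 → χ x ≠ 1 := fun x hx e' => hx (hχ (e'.trans (map_one χ).symm))
  obtain ⟨k, k1, k2⟩ := tetra_normal h2 (hχL Perms.a5) (hχL Perms.b5) (by rw [← map_pow, a2, map_one])
    (hne _ a1) (by rw [← map_pow, b3, map_one]) (hne _ b1)
    (by rw [← map_mul, ← map_pow, ab3, map_one]) (by rw [← map_mul]; exact hne _ ab1) h
  let χ' : alternatingGroup (Fin 5) →* PGL(2, F) := (MulAut.conj (g * k⁻¹)).toMonoidHom.comp χ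
  have hχ' : Function.Injective χ' := (MulAut.conj (g * k⁻¹)).injective.comp hχ
  refine ⟨χ'.range, ?_, ?_, ⟨(MonoidHom.ofInjective hχ').symm⟩⟩
  · have hr : H = ψ.range := by
      ext x
      exact ⟨fun hx => ⟨e ⟨x, hx⟩, by simp [ψ]⟩, by rintro ⟨y, rfl⟩; exact (e.symm y).2⟩
    rw [hr, MonoidHom.range_eq_map, ← Perms.four_closure, MonoidHom.map_closure, Subgroup.closure_le]
    rintro _ ⟨x, rfl | rfl, rfl⟩
    · refine ⟨Perms.a5, ?_⟩
      show g * k⁻¹ * χ Perms.a5 * (g * k⁻¹)⁻¹ = ψ Perms.a4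
      calc _ = g * (k⁻¹ * χ Perms.a5 * k) * g⁻¹ := by group
        _ = g * (g⁻¹ * ψ Perms.a4 * g) * g⁻¹ := by rw [k1, g1]
        _ = _ := by group
    · refine ⟨Perms.b5, ?_⟩
      show g * k⁻¹ * χ Perms.b5 * (g * k⁻¹)⁻¹ = ψ Perms.b4
      calc _ = g * (k⁻¹ * χ Perms.b5 * k) * g⁻¹ := by group
        _ = g * (g⁻¹ * ψ Perms.b4 * g) * g⁻¹ := by rw [k2, g2]
        _ = _ := by group
  · rintro _ ⟨x, rfl⟩
    exact lsub_normal.conj_mem _ (hχL x) _

/-- An embedded `A_5` is conjugate into `PSL(2, F₁)` for every subfield containing a root of `5`. -/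
theorem alt_five_descend (hodd : Odd (Fintype.card F)) {H : Subgroup PGL(2, F)} (hL : H ≤ lsub F)
    (e : H ≃* alternatingGroup (Fin 5)) :
    ∃ s : F, s * s = 5 ∧ ∀ F₁ : Subfield F, s ∈ F₁ →
      ∃ g : PGL(2, F), H.map (MulAut.conj g⁻¹).toMonoidHom ≤ (subPSL F₁).range := by
  have h2 := two_ne_zero_of_odd hodd
  obtain ⟨u, v, hu, hv, h⟩ := exists_param hodd
  let ψ : alternatingGroup (Fin 5) →* PGL(2, F) := H.subtype.comp e.symm.toMonoidHom
  have hψ : Function.Injective ψ := Subtype.val_injective.comp e.symm.injective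
  have hψL : ∀ x, ψ x ∈ lsub F := fun x => hL (e.symm x).2
  obtain ⟨a2, a1, b3, b1, ab3, ab1, c2, c1, ac3, ac1, bc2, bc1, -⟩ := Perms.five_rel
  have hne : ∀ x, x ≠ 1 → ψ x ≠ 1 := fun x hx e' => hx (hψ (e'.trans (map_one ψ).symm))
  obtain ⟨g, g1, g2⟩ := tetra_normal h2 (hψL Perms.a5) (hψL Perms.b5) (by rw [← map_pow, a2, map_one])
    (hne _ a1) (by rw [← map_pow, b3, map_one]) (hne _ b1)
    (by rw [← map_mul, ← map_pow, ab3, map_one]) (by rw [← map_mul]; exact hne _ ab1) h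
  have hne' : ∀ x, x ≠ 1 → conjHom g ψ x ≠ 1 := fun x hx e' => hne x hx (by
    have h' : g⁻¹ * ψ x * (g⁻¹)⁻¹ = 1 := by rw [inv_inv, ← conjHom_apply]; exact e'
    exact conj_eq_one_iff.1 h')
  have hcL : conjHom g ψ Perms.c5 ∈ lsub F := by
    rw [conjHom_apply]
    have := lsub_normal.conj_mem _ (hψL Perms.c5) g⁻¹
    rwa [inv_inv] at this
  have g1' : conjHom g ψ Perms.a5 = pr jSL := by rw [conjHom_apply, g1]
  have g2' : conjHom g ψ Perms.b5 = pr (xSL u v h) := by rw [conjHom_apply, g2]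
  obtain ⟨s, C, hs, hC, hF⟩ := icosa_normal h2 h hcL
    (by rw [← map_pow, c2, map_one]) (hne' _ c1)
    (by rw [← g1', ← map_mul, ← map_pow, ac3, map_one]) (by rw [← g1', ← map_mul]; exact hne' _ ac1)
    (by rw [← g2', ← map_mul, ← map_pow, bc2, map_one]) (by rw [← g2', ← map_mul]; exact hne' _ bc1)
  refine ⟨s, hs, fun F₁ hs₁ => ⟨g, ?_⟩⟩
  have hbot : (⊥ : Subfield F) ≤ F₁ := bot_le
  have hr : H = ψ.range := by
    ext x
    exact ⟨fun hx => ⟨e ⟨x, hx⟩, by simp [ψ]⟩, by rintro ⟨y, rfl⟩; exact (e.symm y).2⟩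
  rw [hr, ← MonoidHom.range_comp]
  show (conjHom g ψ).range ≤ _
  rw [MonoidHom.range_eq_map, ← Perms.five_closure, MonoidHom.map_closure, Subgroup.closure_le]
  rintro _ ⟨x, rfl | rfl | rfl, rfl⟩
  · rw [g1']; exact jSL_mem _
  · rw [g2']; exact xSL_mem (hbot hu) (hbot hv) h
  · rw [← hC]; exact pr_mem_subPSL _ (hF F₁ (hbot hu) (hbot hv) hs₁)

/-- A root of `5` lies in the subfield of order dividing `p ^ 2`. -/
theorem exists_small_subfield (p : ℕ) [Fact p.Prime] [CharP F p] {s : F} (hs : s * s = 5) :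
    ∃ F₁ : Subfield F, s ∈ F₁ ∧ Nat.card F₁ ≤ p ^ 2 := by
  classical
  refine ⟨(iterateFrobenius F p 2).eqLocusField (RingHom.id F), ?_, ?_⟩
  · show s ^ p ^ 2 = s
    have h5 : (5 : F) ^ p = 5 := by
      have := map_natCast (frobenius F p) 5
      simpa [frobenius_def] using this
    have h : (s ^ p) * (s ^ p) = 5 := by rw [← mul_pow, hs, h5]
    have hsq : (s ^ p - s) * (s ^ p + s) = 0 := by linear_combination h - hs
    rw [pow_two, pow_mul]
    rcases mul_eq_zero.1 hsq with e | e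
    · rw [sub_eq_zero.1 e, sub_eq_zero.1 e]
    · have e' : s ^ p = -s := eq_neg_of_add_eq_zero_left e
      have hn : (-s) ^ p = -(s ^ p) := by
        have := map_neg (frobenius F p) s
        simpa [frobenius_def] using this
      rw [e', hn, e', neg_neg]
  · rw [← SetLike.coe_sort_coe, Nat.card_coe_set_eq]
    let P : Polynomial F := Polynomial.X ^ (p ^ 2) - Polynomial.X
    have hp1 : 1 < p ^ 2 := Nat.one_lt_pow two_ne_zero (Fact.out : p.Prime).one_lt
    have hP : P ≠ 0 := FiniteField.X_pow_card_sub_X_ne_zero F hp1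
    have hsub : ((((iterateFrobenius F p 2).eqLocusField (RingHom.id F) : Subfield F) : Set F))
        ⊆ (P.roots.toFinset : Set F) := by
      intro y hy
      rw [Finset.mem_coe, Multiset.mem_toFinset, Polynomial.mem_roots hP]
      have hy' : y ^ p ^ 2 = y := hy
      simp [P, hy']
    refine (Set.ncard_le_ncard hsub (Finset.finite_toSet _)).trans ?_
    rw [Set.ncard_coe_finset]
    exact ((Multiset.toFinset_card_le P.roots).trans (Polynomial.card_roots' P)).trans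
      (FiniteField.X_pow_card_sub_X_natDegree_eq F hp1).le

section Klein

variable {K : Type*} [Field K] [DecidableEq K] [Algebra F K] [IsAlgClosed K]

/-- The centraliser of a four-group of `PGL(2, F)` in odd characteristic is itself. -/
theorem klein_centralizer (K : Type*) [Field K] [DecidableEq K] [Algebra F K] [IsAlgClosed K]
    (hodd : Odd (Fintype.card F)) {a b g : PGL(2, F)} (ha : a ^ 2 = 1) (ha1 : a ≠ 1) (hb : b ^ 2 = 1)
    (hb1 : b ≠ 1) (hab : a ≠ b) (hc : a * b = b * a) (hga : g * a = a * g) (hgb : g * b = b * g) :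
    g = 1 ∨ g = a ∨ g = b ∨ g = a * b := by
  have h2 := two_ne_zero_of_odd hodd
  obtain ⟨n, hp, hq⟩ := FiniteField.card F (ringChar F)
  haveI : Fact (ringChar F).Prime := ⟨hp⟩
  haveI : CharP F (ringChar F) := ringChar.charP F
  haveI : CharP K (ringChar F) := charP_of_injective_algebraMap (algebraMap F K).injective _
  have hp2 : ringChar F ≠ 2 := fun e => by
    have := FiniteField.even_card_iff_char_two.1 e
    rw [Nat.odd_iff] at hodd; omega
  have inj := emb_injective (F := F) (K := K)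
  -- two fixed points of an involution
  have two : ∀ x : PGL(2, F), x ^ 2 = 1 → x ≠ 1 → ∃ y z : OnePoint K, y ≠ z ∧
      emb K x • y = y ∧ emb K x • z = z := by
    intro x hx hx1
    obtain ⟨y, hy⟩ := exists_fixed (emb K x)
    have hxp : emb K x ^ ringChar F ≠ 1 := by
      rw [← map_pow]
      intro e
      have e' : x ^ ringChar F = 1 := inj (e.trans (map_one _).symm)
      haveI : Fact (Nat.Prime 2) := ⟨Nat.prime_two⟩
      have : orderOf x = 2 := orderOf_eq_prime hx hx1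
      have := (Nat.prime_dvd_prime_iff_eq Nat.prime_two hp).1 (this ▸ orderOf_dvd_of_pow_eq_one e')
      exact hp2 this.symm
    obtain ⟨z, hz, hz'⟩ := exists_second_fixed hxp hy
    exact ⟨y, z, hz.symm, hy, hz'⟩
  obtain ⟨a₁, a₂, ane, fa₁, fa₂⟩ := two a ha ha1
  obtain ⟨b₁, b₂, bne, fb₁, fb₂⟩ := two b hb hb1
  have only : ∀ (x : PGL(2, F)), x ≠ 1 → ∀ y z : OnePoint K, y ≠ z → emb K x • y = y → emb K x • z = z →
      ∀ t, emb K x • t = t → t = y ∨ t = z := by
    intro x hx y z hyz hy hz t ht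
    by_contra hh
    push Not at hh
    exact hx (inj ((eq_one_of_three hyz hh.1.symm hh.2.symm hy hz ht).trans (map_one _).symm))
  -- two involutions with the same fixed points coincide
  have same : ∀ y z : OnePoint K, y ≠ z → ∀ x x' : PGL(2, F), x ^ 2 = 1 → x ≠ 1 → x' ^ 2 = 1 → x' ≠ 1 →
      emb K x • y = y → emb K x • z = z → emb K x' • y = y → emb K x' • z = z → x = x' := by
    intro y z hyz x x' hx hx1 hx' hx1' f1 f2 f3 f4
    obtain ⟨h, h1, h2'⟩ := exists_move_two hyz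
    have aux : ∀ w : PGL(2, F), w ^ 2 = 1 → w ≠ 1 → emb K w • y = y → emb K w • z = z →
        h⁻¹ * emb K w * h = aff (-1) 0 := by
      intro w hw hw1 g1 g2
      obtain ⟨r, t, hrt⟩ := exists_aff (fixed_conj (g := emb K w) (x := ∞) (by rw [h1]; exact g1))
      have ht := fixed_conj (g := emb K w) (h := h) (x := ((0 : K) : OnePoint K)) (by rw [h2']; exact g2)
      rw [hrt, aff_coe, OnePoint.coe_eq_coe, mul_zero, zero_add] at ht
      subst ht
      have hsq : aff r (0 : K) * aff r 0 = 1 := by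
        calc aff r (0 : K) * aff r 0 = h⁻¹ * emb K (w * w) * h := by rw [← hrt, map_mul]; group
          _ = 1 := by rw [← pow_two, hw, map_one]; group
      rw [aff_mul, aff_eq_one_iff] at hsq
      have hr1 : r ≠ 1 := fun e => hw1 (inj (by
        rw [e, aff_one] at hrt
        rw [map_one]
        calc emb K w = h * (h⁻¹ * emb K w * h) * h⁻¹ := by group
          _ = 1 := by rw [hrt]; group))
      have hr : r = -1 := by
        have h' : ((r : K) - 1) * ((r : K) + 1) = 0 := by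
          have := congrArg Units.val hsq.1
          push_cast at this
          linear_combination this
        rcases mul_eq_zero.1 h' with e | e
        · exact absurd (Units.ext (sub_eq_zero.1 e)) hr1
        · exact Units.ext (by push_cast; exact eq_neg_of_add_eq_zero_left e)
      rw [hrt, hr]
    have e := (aux x hx hx1 f1 f2).trans (aux x' hx' hx1' f3 f4).symm
    exact inj (mul_left_cancel (mul_right_cancel e))
  -- each of `a`, `b` swaps the fixed points of the other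
  have swaps : ∀ x w : PGL(2, F), x ^ 2 = 1 → x ≠ 1 → w ^ 2 = 1 → w ≠ 1 → x ≠ w → x * w = w * x →
      ∀ y z : OnePoint K, y ≠ z → emb K x • y = y → emb K x • z = z → emb K w • y = z ∧ emb K w • z = y := by
    intro x w hx hx1 hw hw1 hxw hxc y z hyz fy fz
    have c1 : ∀ t, emb K x • t = t → emb K x • (emb K w • t) = emb K w • t := fun (t : OnePoint K) ht => by
      rw [smul_smul, ← map_mul, hxc, map_mul, mul_smul, ht]
    rcases only x hx1 y z hyz fy fz _ (c1 y fy) with e | e <;>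
      rcases only x hx1 y z hyz fy fz _ (c1 z fz) with e' | e'
    · exact absurd (MulAction.injective _ (e.trans e'.symm)) hyz
    · exact absurd (same y z hyz x w hx hx1 hw hw1 fy fz e e') hxw
    · exact ⟨e, e'⟩
    · exact absurd (MulAction.injective _ (e.trans e'.symm)) hyz
  obtain ⟨sb1, sb2⟩ := swaps a b ha ha1 hb hb1 hab hc a₁ a₂ ane fa₁ fa₂
  obtain ⟨sa1, sa2⟩ := swaps b a hb hb1 ha ha1 hab.symm hc.symm b₁ b₂ bne fb₁ fb₂
  -- after multiplying by elements of the four-group, `g` fixes four points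
  have step : ∀ x : PGL(2, F), x * a = a * x → x * b = b * x → emb K x • a₁ = a₁ → x = 1 ∨ x = a := by
    intro x hxa hxb hx1
    have hx2 : emb K x • a₂ = a₂ := by
      rw [← sb1, smul_smul, ← map_mul, hxb, map_mul, mul_smul, hx1]
    have hne : a₁ ≠ b₁ := fun e => bne (by rw [← sa1, ← e, fa₁])
    have hne' : a₂ ≠ b₁ := fun e => bne (by rw [← sa1, ← e, fa₂])
    have cb : emb K b • (emb K x • b₁) = emb K x • b₁ := by
      rw [smul_smul, ← map_mul, ← hxb, map_mul, mul_smul, fb₁]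
    rcases only b hb1 b₁ b₂ bne fb₁ fb₂ _ cb with e | e
    · exact Or.inl (inj ((eq_one_of_three ane hne hne' hx1 hx2 e).trans (map_one _).symm))
    · refine Or.inr (inj ?_)
      refine eq_of_three ane hne hne' (by rw [hx1, fa₁]) (by rw [hx2, fa₂]) (by rw [e, sa1])
  have ca : emb K a • (emb K g • a₁) = emb K g • a₁ := by
    rw [smul_smul, ← map_mul, ← hga, map_mul, mul_smul, fa₁]
  rcases only a ha1 a₁ a₂ ane fa₁ fa₂ _ ca with e | e
  · rcases step g hga hgb e with r | r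
    · exact Or.inl r
    · exact Or.inr (Or.inl r)
  · have e' : emb K (b * g) • a₁ = a₁ := by rw [map_mul, mul_smul, e, sb2]
    have c1 : b * g * a = a * (b * g) := by rw [mul_assoc, hga, ← mul_assoc, ← hc, mul_assoc]
    have c2 : b * g * b = b * (b * g) := by rw [mul_assoc, hgb]
    have hbb : b * b = 1 := by rw [← pow_two]; exact hb
    rcases step _ c1 c2 e' with r | r
    · refine Or.inr (Or.inr (Or.inl ?_))
      calc g = b * (b * g) := by rw [← mul_assoc, hbb, one_mul]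
        _ = b := by rw [r, mul_one]
    · refine Or.inr (Or.inr (Or.inr ?_))
      calc g = b * (b * g) := by rw [← mul_assoc, hbb, one_mul]
        _ = a * b := by rw [r, hc]

end Klein

/-- The involutions of an embedded `A_4`. -/
def klein (ψ : alternatingGroup (Fin 4) →* PGL(2, F)) : Set PGL(2, F) :=
  ψ '' {x | x ∈ Perms.inv4}

/-- The normaliser of the four-group has order at most `24`. -/
theorem card_klein_normalizer (hodd : Odd (Fintype.card F)) (ψ : alternatingGroup (Fin 4) →* PGL(2, F))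
    (hψ : Function.Injective ψ) : Nat.card (Subgroup.normalizer (klein ψ)) ≤ 24 := by
  classical
  set A := ψ Perms.a4 with hA
  set B := ψ (Perms.b4 * Perms.a4 * Perms.b4⁻¹) with hB
  set S := klein ψ with hS
  set N := Subgroup.normalizer S
  have hfin : S.Finite := (Set.toFinite _).image _
  have hAS : A ∈ S := ⟨_, by simp [Perms.inv4], rfl⟩
  have hBS : B ∈ S := ⟨_, by simp [Perms.inv4], rfl⟩
  haveI : Finite S := hfin.to_subtype
  let φ : N → Equiv.Perm S := fun g =>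
    { toFun := fun x => ⟨(g : PGL(2, F)) * x * (g : PGL(2, F))⁻¹, (Subgroup.mem_set_normalizer_iff.1 g.2 _).1 x.2⟩
      invFun := fun x => ⟨(g : PGL(2, F))⁻¹ * x * (g : PGL(2, F)), by
        refine (Subgroup.mem_set_normalizer_iff.1 g.2 _).2 ?_
        rw [show (g : PGL(2, F)) * ((g : PGL(2, F))⁻¹ * x * g) * (g : PGL(2, F))⁻¹ = x by group]
        exact x.2⟩
      left_inv := fun x => Subtype.ext (by group)
      right_inv := fun x => Subtype.ext (by group) }
  have hS3 : Nat.card (Equiv.Perm S) ≤ 6 := by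
    rw [Nat.card_perm]
    refine (Nat.factorial_le ?_).trans (le_of_eq (by rfl : Nat.factorial 3 = 6))
    rw [Nat.card_coe_set_eq]
    refine (Set.ncard_image_le (Set.toFinite _)).trans ?_
    have : {x | x ∈ Perms.inv4} = (Perms.inv4.toFinset : Set _) := by simp
    rw [this, Set.ncard_coe_finset]
    exact (List.toFinset_card_le _).trans (by simp [Perms.inv4])
  -- fibres have at most four elements
  have hfib : ∀ g g' : N, φ g = φ g' → (g' : PGL(2, F))⁻¹ * g ∈ ({1, A, B, A * B} : Set PGL(2, F)) := by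
    intro g g' e
    have key : ∀ x ∈ S, (g' : PGL(2, F))⁻¹ * g * x = x * ((g' : PGL(2, F))⁻¹ * g) := by
      intro x hx
      have h := congrArg (fun f : Equiv.Perm S => ((f ⟨x, hx⟩ : S) : PGL(2, F))) e
      simp only [φ, Equiv.coe_fn_mk] at h
      calc (g' : PGL(2, F))⁻¹ * g * x = (g' : PGL(2, F))⁻¹ * ((g : PGL(2, F)) * x * (g : PGL(2, F))⁻¹) * g := by group
        _ = (g' : PGL(2, F))⁻¹ * ((g' : PGL(2, F)) * x * (g' : PGL(2, F))⁻¹) * g := by rw [h]
        _ = _ := by group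
    have hr : Perms.a4 ^ 2 = 1 ∧ Perms.a4 ≠ 1 ∧ (Perms.b4 * Perms.a4 * Perms.b4⁻¹) ^ 2 = 1 ∧
        Perms.b4 * Perms.a4 * Perms.b4⁻¹ ≠ 1 ∧ Perms.a4 ≠ Perms.b4 * Perms.a4 * Perms.b4⁻¹ ∧
        Perms.a4 * (Perms.b4 * Perms.a4 * Perms.b4⁻¹) = Perms.b4 * Perms.a4 * Perms.b4⁻¹ * Perms.a4 := by
      decide +kernel
    obtain ⟨r1, r2, r3, r4, r5, r6⟩ := hr
    have hne : ∀ x, x ≠ 1 → ψ x ≠ 1 := fun x hx e => hx (hψ (e.trans (map_one ψ).symm))
    have := klein_centralizer (AlgebraicClosure F) hodd (a := A) (b := B)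
      (g := (g' : PGL(2, F))⁻¹ * g) (by rw [hA, ← map_pow, r1, map_one]) (hne _ r2)
      (by rw [hB, ← map_pow, r3, map_one]) (hne _ r4) (fun e' => r5 (hψ e'))
      (by rw [hA, hB, ← map_mul, r6, map_mul]) (key A hAS) (key B hBS)
    simpa using this
  let f : N → Equiv.Perm S × ({1, A, B, A * B} : Set PGL(2, F)) := fun g =>
    (φ g, ⟨((Function.invFun φ (φ g) : N) : PGL(2, F))⁻¹ * g,
      hfib g _ (Function.invFun_eq (f := φ) ⟨g, rfl⟩).symm⟩)
  have hf : Function.Injective f := fun g g' e => by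
    have e1 : φ g = φ g' := congrArg Prod.fst e
    have e2 := congrArg (fun z => (z.2 : PGL(2, F))) e
    simp only [f, e1] at e2
    exact Subtype.ext (mul_left_cancel e2)
  haveI : Finite ({1, A, B, A * B} : Set PGL(2, F)) := (Set.toFinite _).to_subtype
  refine (Nat.card_le_card_of_injective f hf).trans ?_
  rw [Nat.card_prod, Nat.card_coe_set_eq]
  have h4 : ({1, A, B, A * B} : Set PGL(2, F)).ncard ≤ 4 := by
    refine (Set.ncard_insert_le _ _).trans ?_
    refine Nat.succ_le_succ ((Set.ncard_insert_le _ _).trans ?_)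
    refine Nat.succ_le_succ ((Set.ncard_insert_le _ _).trans ?_)
    simp
  exact (Nat.mul_le_mul hS3 h4).trans (by norm_num)

/-- The extra element normalising the standard four-group. -/
theorem exists_swap (hodd : Odd (Fintype.card F)) {u v : F} (h : u * (1 - u) - v * (v + 1) = 1)
    (hu : u ∈ (⊥ : Subfield F)) (hv : v ∈ (⊥ : Subfield F)) :
    ∃ g : PGL(2, F), g ∈ (subPGL (⊥ : Subfield F)).range ∧ (g ∈ lsub F ↔ IsSquare (2 : F)) ∧
      g * pr jSL * g⁻¹ = pr (xSL u v h) * pr jSL * (pr (xSL u v h))⁻¹ ∧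
      g * (pr (xSL u v h) * pr jSL * (pr (xSL u v h))⁻¹) * g⁻¹ = pr jSL := by
  have h2 := two_ne_zero_of_odd hodd
  have hdT : (!![-(u + v), u - v - 1; u - v - 1, u + v] : Matrix (Fin 2) (Fin 2) F).det = 1 := by
    rw [Matrix.det_fin_two_of]; linear_combination 2 * h
  set T : SL(2, F) := ⟨_, hdT⟩ with hT
  have hTe : pr (xSL u v h) * pr jSL * (pr (xSL u v h))⁻¹ = pr T := by
    rw [mul_inv_eq_iff_eq_mul, ← map_mul, ← map_mul]
    refine congrArg pr (Subtype.ext ?_)
    rw [Matrix.SpecialLinearGroup.coe_mul, Matrix.SpecialLinearGroup.coe_mul]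
    ext i j
    fin_cases i <;> fin_cases j <;> simp [hT, xSL, jSL, Matrix.mul_apply]
    all_goals first
      | linear_combination h | linear_combination -h
      | linear_combination (0 : F) * h
  have hdet : (!![u + v, 1 - (u - v - 1); -1 - (u - v - 1), -(u + v)] : Matrix (Fin 2) (Fin 2) F).det = 2 := by
    rw [Matrix.det_fin_two_of]; linear_combination 2 * h
  set G := GeneralLinearGroup.mkOfDetNeZero
    (!![u + v, 1 - (u - v - 1); -1 - (u - v - 1), -(u + v)] : Matrix (Fin 2) (Fin 2) F)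
    (by rw [hdet]; exact h2) with hG
  refine ⟨ProjGenLinGroup.mk G, ?_, ?_, ?_, ?_⟩
  · have hw : u - v - 1 ∈ (⊥ : Subfield F) := sub_mem (sub_mem hu hv) (one_mem _)
    let m : Matrix (Fin 2) (Fin 2) (⊥ : Subfield F) :=
      !![⟨_, add_mem hu hv⟩, ⟨_, sub_mem (one_mem _) hw⟩;
        ⟨_, sub_mem (neg_mem (one_mem _)) hw⟩, ⟨_, neg_mem (add_mem hu hv)⟩]
    refine ⟨ProjGenLinGroup.mk (GeneralLinearGroup.mkOfDetNeZero m ?_), ?_⟩
    · intro e
      have e' := congrArg Subtype.val e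
      rw [Matrix.det_fin_two_of] at e'
      rw [Matrix.det_fin_two_of] at hdet
      refine h2 ?_
      rw [← hdet]
      simpa using e'
    · rw [subPGL, ProjGenLinGroup.map_mk]
      exact congrArg ProjGenLinGroup.mk (GeneralLinearGroup.ext fun i j => by
        fin_cases i <;> fin_cases j <;> rfl)
  · rw [mk_mem_lsub_iff]
    rw [show (G : Matrix (Fin 2) (Fin 2) F).det = 2 from hdet]
  · rw [hTe, mul_inv_eq_iff_eq_mul, ← pr_neg T, pr, MonoidHom.comp_apply, MonoidHom.comp_apply, ← map_mul, ← map_mul]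
    refine congrArg ProjGenLinGroup.mk (Units.ext ?_)
    rw [Units.val_mul, Units.val_mul]
    show (G : Matrix (Fin 2) (Fin 2) F) * (jSL : SL(2, F)).1 = (-T.1) * (G : Matrix (Fin 2) (Fin 2) F)
    ext i j
    fin_cases i <;> fin_cases j <;>
      simp [hG, hT, jSL, GeneralLinearGroup.mkOfDetNeZero, Matrix.mul_apply]
    all_goals first
      | linear_combination 2 * h | linear_combination -2 * h | linear_combination (0 : F) * h
  · rw [hTe, mul_inv_eq_iff_eq_mul, ← pr_neg jSL, pr, MonoidHom.comp_apply, MonoidHom.comp_apply, ← map_mul, ← map_mul]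
    refine congrArg ProjGenLinGroup.mk (Units.ext ?_)
    rw [Units.val_mul, Units.val_mul]
    show (G : Matrix (Fin 2) (Fin 2) F) * T.1 = (-(jSL : SL(2, F)).1) * (G : Matrix (Fin 2) (Fin 2) F)
    ext i j
    fin_cases i <;> fin_cases j <;>
      simp [hG, hT, jSL, GeneralLinearGroup.mkOfDetNeZero, Matrix.mul_apply]
    all_goals first
      | linear_combination 2 * h | linear_combination -2 * h | linear_combination (0 : F) * h

/-- If `2` is a square, every `A_4` in `L` is properly contained in a subgroup of order `24` of `L`. -/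
theorem alt_four_le_sym_four (hodd : Odd (Fintype.card F)) (hsq : IsSquare (2 : F))
    {H : Subgroup PGL(2, F)} (hL : H ≤ lsub F) (e : H ≃* alternatingGroup (Fin 4)) :
    ∃ M : Subgroup PGL(2, F), H < M ∧ M ≤ lsub F ∧ Nat.card M ≤ 24 := by
  obtain ⟨u, v, hu, hv, h⟩ := exists_param hodd
  let ψ : alternatingGroup (Fin 4) →* PGL(2, F) := H.subtype.comp e.symm.toMonoidHom
  have hψ : Function.Injective ψ := Subtype.val_injective.comp e.symm.injective
  obtain ⟨g, g1, g2⟩ := alt_four_frame hodd ψ hψ (fun x => hL (e.symm x).2) h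
  obtain ⟨w, -, hwL, w1, w2⟩ := exists_swap hodd h hu hv
  have hw : w ∈ lsub F := hwL.2 hsq
  set w' := g * w * g⁻¹ with hw'
  have hr : H = ψ.range := by
    ext x
    exact ⟨fun hx => ⟨e ⟨x, hx⟩, by simp [ψ]⟩, by rintro ⟨y, rfl⟩; exact (e.symm y).2⟩
  set S := klein ψ
  have eA : ψ Perms.a4 = g * pr jSL * g⁻¹ := by rw [← g1]; group
  have eB : ψ (Perms.b4 * Perms.a4 * Perms.b4⁻¹)
      = g * (pr (xSL u v h) * pr jSL * (pr (xSL u v h))⁻¹) * g⁻¹ := by
    rw [map_mul, map_mul, map_inv, eA, ← g2]; group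
  have f1 : w' * ψ Perms.a4 * w'⁻¹ = ψ (Perms.b4 * Perms.a4 * Perms.b4⁻¹) := by
    rw [eA, eB, ← w1, hw']; group
  have f2 : w' * ψ (Perms.b4 * Perms.a4 * Perms.b4⁻¹) * w'⁻¹ = ψ Perms.a4 := by
    rw [eA, eB, hw']
    calc _ = g * (w * (pr (xSL u v h) * pr jSL * (pr (xSL u v h))⁻¹) * w⁻¹) * g⁻¹ := by group
      _ = _ := by rw [w2]
  have mem_N : ∀ x : PGL(2, F), (∀ y ∈ Perms.inv4, ∃ z ∈ Perms.inv4, x * ψ y * x⁻¹ = ψ z) →
      x ∈ Subgroup.normalizer S := by
    intro x hx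
    have hfin : S.Finite := (Set.toFinite _).image _
    have hmaps : Set.MapsTo (fun t => x * t * x⁻¹) S S := by
      rintro _ ⟨y, hy, rfl⟩
      obtain ⟨z, hz, e'⟩ := hx y hy
      exact ⟨z, hz, e'.symm⟩
    have himg : (fun t => x * t * x⁻¹) '' S = S :=
      Set.eq_of_subset_of_ncard_le hmaps.image_subset (by
        rw [Set.ncard_image_of_injective _ (fun a b h => by simpa using h)]) hfin
    rw [Subgroup.mem_set_normalizer_iff]
    intro t
    refine ⟨fun ht => hmaps ht, fun ht => ?_⟩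
    rw [← himg] at ht
    obtain ⟨t', ht', e'⟩ := ht
    rwa [show t = t' by simpa using e'.symm]
  refine ⟨Subgroup.normalizer S ⊓ lsub F, lt_of_le_of_ne ?_ ?_, inf_le_right,
    (Subgroup.card_le_of_le inf_le_left).trans (card_klein_normalizer hodd ψ hψ)⟩
  · refine le_inf ?_ hL
    rw [hr]
    rintro _ ⟨y, rfl⟩
    refine mem_N _ fun z hz => ⟨y * z * y⁻¹, Perms.inv4_conj y z hz, ?_⟩
    rw [map_mul, map_mul, map_inv]
  · intro heq
    have hwm : w' ∈ H := by
      rw [heq]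
      refine ⟨mem_N _ fun y hy => ?_, lsub_normal.conj_mem _ hw g⟩
      simp only [Perms.inv4, List.mem_cons, List.not_mem_nil, or_false] at hy
      rcases hy with rfl | rfl | rfl
      · exact ⟨_, by simp [Perms.inv4], f1⟩
      · exact ⟨_, by simp [Perms.inv4], f2⟩
      · refine ⟨Perms.a4 * (Perms.b4 * Perms.a4 * Perms.b4⁻¹), by simp [Perms.inv4], ?_⟩
        have hcomm : Perms.b4 * Perms.a4 * Perms.b4⁻¹ * Perms.a4
            = Perms.a4 * (Perms.b4 * Perms.a4 * Perms.b4⁻¹) := by decide +kernel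
        calc w' * ψ (Perms.a4 * (Perms.b4 * Perms.a4 * Perms.b4⁻¹)) * w'⁻¹
            = (w' * ψ Perms.a4 * w'⁻¹) * (w' * ψ (Perms.b4 * Perms.a4 * Perms.b4⁻¹) * w'⁻¹) := by
              rw [map_mul]; group
          _ = _ := by rw [f1, f2, ← map_mul, hcomm]
    rw [hr] at hwm
    obtain ⟨y, hy⟩ := hwm
    refine Perms.inv4_no_swap y (hψ ?_) (hψ ?_)
    · rw [map_mul ψ _ y⁻¹, map_mul ψ y, map_inv, hy, f1]
    · rw [map_mul ψ _ y⁻¹, map_mul ψ y, map_inv, hy, f2]

/-- An embedded `S_4`: it is conjugate into `PGL(2, p)`, and lies in `L` iff `2` is a square. -/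
theorem sym_four_data (hodd : Odd (Fintype.card F)) {H : Subgroup PGL(2, F)}
    (e : H ≃* Equiv.Perm (Fin 4)) :
    (H ≤ lsub F ↔ IsSquare (2 : F)) ∧
      ∃ g : PGL(2, F), H.map (MulAut.conj g⁻¹).toMonoidHom ≤ (subPGL (⊥ : Subfield F)).range := by
  obtain ⟨u, v, hu, hv, h⟩ := exists_param hodd
  let φ : Equiv.Perm (Fin 4) →* PGL(2, F) := H.subtype.comp e.symm.toMonoidHom
  have hφ : Function.Injective φ := Subtype.val_injective.comp e.symm.injective
  have hr : H = φ.range := by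
    ext x
    exact ⟨fun hx => ⟨e ⟨x, hx⟩, by simp [φ]⟩, by rintro ⟨y, rfl⟩; exact (e.symm y).2⟩
  let ψ : alternatingGroup (Fin 4) →* PGL(2, F) := φ.comp (alternatingGroup (Fin 4)).subtype
  have hψ : Function.Injective ψ := hφ.comp Subtype.val_injective
  have hψL : ∀ x, ψ x ∈ lsub F := by
    have hn : (lsub F).Normal := lsub_normal
    have hle := le_of_iso_alt (lsub_index_two hodd) (M := ψ.range) (MonoidHom.ofInjective hψ).symm
    exact fun x => hle ⟨x, rfl⟩
  obtain ⟨g, g1, g2⟩ := alt_four_frame hodd ψ hψ hψL h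
  obtain ⟨w, hwF, hwL, w1, w2⟩ := exists_swap hodd h hu hv
  set w' := g * w * g⁻¹ with hw'
  set S := klein ψ with hS
  have eA : ψ Perms.a4 = g * pr jSL * g⁻¹ := by rw [← g1]; group
  have eB : ψ (Perms.b4 * Perms.a4 * Perms.b4⁻¹)
      = g * (pr (xSL u v h) * pr jSL * (pr (xSL u v h))⁻¹) * g⁻¹ := by
    rw [map_mul, map_mul, map_inv, eA, ← g2]; group
  have f1 : w' * ψ Perms.a4 * w'⁻¹ = ψ (Perms.b4 * Perms.a4 * Perms.b4⁻¹) := by
    rw [eA, eB, ← w1, hw']; group
  have f2 : w' * ψ (Perms.b4 * Perms.a4 * Perms.b4⁻¹) * w'⁻¹ = ψ Perms.a4 := by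
    rw [eA, eB, hw']
    calc _ = g * (w * (pr (xSL u v h) * pr jSL * (pr (xSL u v h))⁻¹) * w⁻¹) * g⁻¹ := by group
      _ = _ := by rw [w2]
  have mem_N : ∀ x : PGL(2, F), (∀ y ∈ Perms.inv4, ∃ z ∈ Perms.inv4, x * ψ y * x⁻¹ = ψ z) →
      x ∈ Subgroup.normalizer S := by
    intro x hx
    have hfin : S.Finite := (Set.toFinite _).image _
    have hmaps : Set.MapsTo (fun t => x * t * x⁻¹) S S := by
      rintro _ ⟨y, hy, rfl⟩
      obtain ⟨z, hz, e'⟩ := hx y hy
      exact ⟨z, hz, e'.symm⟩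
    have himg : (fun t => x * t * x⁻¹) '' S = S :=
      Set.eq_of_subset_of_ncard_le hmaps.image_subset (by
        rw [Set.ncard_image_of_injective _ (fun a b h => by simpa using h)]) hfin
    rw [Subgroup.mem_set_normalizer_iff]
    intro t
    refine ⟨fun ht => hmaps ht, fun ht => ?_⟩
    rw [← himg] at ht
    obtain ⟨t', ht', e'⟩ := ht
    rwa [show t = t' by simpa using e'.symm]
  have hHN : H = Subgroup.normalizer S := by
    refine Subgroup.eq_of_le_of_card_ge ?_ ?_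
    · rw [hr]
      rintro _ ⟨τ, rfl⟩
      refine mem_N _ fun y hy => ?_
      obtain ⟨z, hz, e'⟩ := Perms.inv4_conj_perm τ y hy
      refine ⟨z, hz, ?_⟩
      show φ τ * φ (y : Equiv.Perm (Fin 4)) * (φ τ)⁻¹ = φ (z : Equiv.Perm (Fin 4))
      rw [← e', map_mul, map_mul, map_inv]
    · rw [Nat.card_congr e.toEquiv, Nat.card_perm, Nat.card_fin]
      exact (card_klein_normalizer hodd ψ hψ).trans (le_of_eq rfl)
  have hwm : w' ∈ H := by
    rw [hHN]
    refine mem_N _ fun y hy => ?_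
    simp only [Perms.inv4, List.mem_cons, List.not_mem_nil, or_false] at hy
    rcases hy with rfl | rfl | rfl
    · exact ⟨_, by simp [Perms.inv4], f1⟩
    · exact ⟨_, by simp [Perms.inv4], f2⟩
    · refine ⟨Perms.a4 * (Perms.b4 * Perms.a4 * Perms.b4⁻¹), by simp [Perms.inv4], ?_⟩
      have hcomm : Perms.b4 * Perms.a4 * Perms.b4⁻¹ * Perms.a4
          = Perms.a4 * (Perms.b4 * Perms.a4 * Perms.b4⁻¹) := by decide +kernel
      calc w' * ψ (Perms.a4 * (Perms.b4 * Perms.a4 * Perms.b4⁻¹)) * w'⁻¹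
          = (w' * ψ Perms.a4 * w'⁻¹) * (w' * ψ (Perms.b4 * Perms.a4 * Perms.b4⁻¹) * w'⁻¹) := by
            rw [map_mul]; group
        _ = _ := by rw [f1, f2, ← map_mul, hcomm]
  obtain ⟨τ₀, hτ₀⟩ : ∃ τ₀, φ τ₀ = w' := by rwa [hr] at hwm
  have hodd₀ : Equiv.Perm.sign τ₀ = -1 := by
    refine Perms.inv4_swap_odd τ₀ (hφ ?_) (hφ ?_)
    · rw [map_mul φ _ τ₀⁻¹, map_mul φ τ₀, map_inv, hτ₀]; exact f1
    · rw [map_mul φ _ τ₀⁻¹, map_mul φ τ₀, map_inv, hτ₀]; exact f2
  -- every element is in the image of `A_4`, or of its translate by `τ₀`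
  have split : ∀ τ, (∃ y, φ τ = ψ y) ∨ (∃ y, φ τ = ψ y * w') := by
    intro τ
    rcases Int.units_eq_one_or (Equiv.Perm.sign τ) with s | s
    · exact Or.inl ⟨⟨τ, Equiv.Perm.mem_alternatingGroup.2 s⟩, rfl⟩
    · refine Or.inr ⟨⟨τ * τ₀⁻¹, Equiv.Perm.mem_alternatingGroup.2 (by
        rw [map_mul, map_inv, s, hodd₀]; rfl)⟩, ?_⟩
      show φ τ = φ (τ * τ₀⁻¹) * w'
      rw [map_mul, map_inv, hτ₀, inv_mul_cancel_right]
  refine ⟨⟨fun hle => ?_, fun hsq => ?_⟩, g, ?_⟩
  · have h1 := lsub_normal.conj_mem _ (hle hwm) g⁻¹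
    refine hwL.1 ?_
    rwa [hw', show g⁻¹ * (g * w * g⁻¹) * g⁻¹⁻¹ = w by group] at h1
  · rw [hr]
    rintro _ ⟨τ, rfl⟩
    rcases split τ with ⟨y, hy⟩ | ⟨y, hy⟩ <;> rw [hy]
    · exact hψL y
    · exact mul_mem (hψL y) (lsub_normal.conj_mem _ (hwL.2 hsq) g)
  · rw [hr, ← MonoidHom.range_comp]
    have hT : (conjHom g ψ).range ≤ (subPGL (⊥ : Subfield F)).range := by
      rw [MonoidHom.range_eq_map, ← Perms.four_closure, MonoidHom.map_closure, Subgroup.closure_le]
      rintro _ ⟨x, rfl | rfl, rfl⟩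
      · rw [conjHom_apply, g1]; exact subPSL_le_subPGL _ (jSL_mem _)
      · rw [conjHom_apply, g2]; exact subPSL_le_subPGL _ (xSL_mem hu hv h)
    rintro _ ⟨τ, rfl⟩
    show conjHom g φ τ ∈ _
    rcases split τ with ⟨y, hy⟩ | ⟨y, hy⟩
    · rw [conjHom_apply, hy, ← conjHom_apply]; exact hT ⟨y, rfl⟩
    · rw [conjHom_apply, hy, show g⁻¹ * (ψ y * w') * g = (g⁻¹ * ψ y * g) * w by rw [hw']; group,
        ← conjHom_apply]
      exact mul_mem (hT ⟨y, rfl⟩) hwF

end Cfsg.Agent.MaxSub.Dickson
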