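import Cfsg.Agent.MaxSub.Dickson.Maximal

/-!
The stabiliser of a pair inside `L`, and small overgroups of it by Sylow's theorems.
-/

set_option autoImplicit false
set_option linter.unusedSectionVars false

open scoped OnePoint MatrixGroups

namespace Cfsg.Agent.MaxSub.Dickson

open Matrix MulAction

variable {F : Type*} [Field F] [Fintype F] [DecidableEq F]
variable {K : Type*} [Field K] [DecidableEq K] [Algebra F K]

theorem mul_mem_lsub_iff (hodd : Odd (Fintype.card F)) {x y : PGL(2, F)} :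
    x * y ∈ lsub F ↔ (x ∈ lsub F ↔ y ∈ lsub F) :=
  Subgroup.mul_mem_iff_of_index_two (lsub_index_two hodd)

/-- In odd characteristic the stabiliser of a pair meets `L` in a dihedral group of order `m`. -/
theorem IsPair.stab_lsub {a b : OnePoint K} {m : ℕ} (hm : IsPair F a b m)
    (hodd : Odd (Fintype.card F)) :
    ∃ k, 2 * k = m ∧ Nat.card (tor (F := F) a b ⊓ lsub F : Subgroup PGL(2, F)) = k ∧
      Nat.card (pairStab (F := F) a b ⊓ lsub F : Subgroup PGL(2, F)) = 2 * k ∧
      Nonempty ((pairStab (F := F) a b ⊓ lsub F : Subgroup PGL(2, F)) ≃* DihedralGroup k) := by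
  obtain ⟨hcard, ⟨w₀, hw1, hw2⟩, hnle⟩ := hm.props
  obtain ⟨t, ht, htL⟩ := SetLike.not_le_iff_exists.1 (hnle hodd)
  obtain ⟨w, hwL, w1, w2⟩ : ∃ w ∈ lsub F, emb K w • a = b ∧ emb K w • b = a := by
    by_cases h : w₀ ∈ lsub F
    · exact ⟨w₀, h, hw1, hw2⟩
    · exact ⟨w₀ * t, (mul_mem_lsub_iff hodd).2 (iff_of_false h htL),
        by rw [map_mul, mul_smul, ht.1, hw1], by rw [map_mul, mul_smul, ht.2, hw2]⟩
  set T : Subgroup PGL(2, F) := tor a b ⊓ lsub F with hT
  have hk : 2 * Nat.card T = m := by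
    have : (lsub F).Normal := lsub_normal
    have h2 : (lsub F).relIndex (tor a b) = 2 := by
      have h := Subgroup.relIndex_dvd_index_of_normal (lsub F) (tor (F := F) a b)
      rw [lsub_index_two hodd] at h
      rcases (Nat.dvd_prime Nat.prime_two).1 h with h' | h'
      · exact absurd (Subgroup.relIndex_eq_one.1 h') (hnle hodd)
      · exact h'
    have := Subgroup.card_mul_index ((lsub F).subgroupOf (tor a b))
    rw [show ((lsub F).subgroupOf (tor a b)).index = 2 from h2, hcard, ← Subgroup.inf_subgroupOf_left,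
      Nat.card_congr (Subgroup.subgroupOfEquivOfLe inf_le_left).toEquiv] at this
    rw [mul_comm]; exact this
  let D : Subgroup PGL(2, F) := pairStab a b ⊓ lsub F
  have : Finite (D.map (emb K)) :=
    Finite.of_equiv _ (D.equivMapOfInjective _ emb_injective).toEquiv
  have horb : orbit (D.map (emb K)) a = {a, b} := by
    ext x
    constructor
    · rintro ⟨⟨_, g, ⟨hg, -⟩, rfl⟩, rfl⟩
      rcases hg with ⟨h1, -⟩ | ⟨h1, -⟩
      · exact Or.inl h1
      · exact Or.inr h1
    · rintro (rfl | rfl)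
      · exact mem_orbit_self _
      · exact ⟨⟨emb K w, w, ⟨Or.inr ⟨w1, w2⟩, hwL⟩, rfl⟩, w1⟩
  have hst : Nat.card (stabilizer (D.map (emb K)) a) = Nat.card T := by
    refine (Nat.card_eq_of_bijective (fun g : T =>
      (⟨⟨emb K (g : PGL(2, F)), ⟨(g : PGL(2, F)), ⟨Or.inl g.2.1, g.2.2⟩, rfl⟩⟩,
        (mem_tor.1 g.2.1).1⟩ : stabilizer (D.map (emb K)) a)) ⟨?_, ?_⟩).symm
    · intro g g' e'
      exact Subtype.ext (emb_injective (K := K) (congrArg (fun x => (x.1 : PGL(2, K))) e'))
    · rintro ⟨⟨_, g, ⟨hg, hgL⟩, rfl⟩, hx⟩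
      rcases hg with h' | ⟨h', -⟩
      · exact ⟨⟨g, h', hgL⟩, rfl⟩
      · exact absurd (hx.symm.trans h') hm.1
  have hc : Nat.card (D.map (emb K)) = 2 * Nat.card (stabilizer (D.map (emb K)) a) := by
    rw [← card_orbit_mul a, horb, Set.ncard_pair hm.1]
  have e : D ≃* D.map (emb K) := D.equivMapOfInjective _ emb_injective
  obtain ⟨iso⟩ := dihedral_of_pair _ hm.1 horb hc
  rw [hst] at hc iso
  exact ⟨Nat.card T, hk, rfl, (Nat.card_congr e.toEquiv).trans hc, ⟨e.trans iso⟩⟩

/-- The normaliser of a non-trivial subgroup of a torus stabilises the pair. -/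
theorem normalizer_le_pairStab {a b : OnePoint K} (hab : a ≠ b) {C : Subgroup PGL(2, F)}
    (hC : C ≤ tor a b) (hne : C ≠ ⊥) {g : PGL(2, F)} (hg : ∀ c ∈ C, g * c * g⁻¹ ∈ C) :
    g ∈ pairStab a b := by
  obtain ⟨c, hc, hc1⟩ := (Subgroup.bot_or_exists_ne_one C).resolve_left hne
  obtain ⟨ca, cb⟩ := hC hc
  obtain ⟨ga, gb⟩ := hC (hg c hc)
  have fixed : ∀ x, emb K (g * c * g⁻¹) • x = x → x = emb K g • a ∨ x = emb K g • b := by
    intro x hx
    rw [map_mul, map_mul, map_inv, mul_smul, mul_smul, smul_eq_iff_eq_inv_smul] at hx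
    by_contra hh
    push Not at hh
    refine hc1 (emb_injective (K := K) ?_)
    rw [map_one]
    refine eq_one_of_three hab ?_ ?_ ca cb (c := (emb K g)⁻¹ • x) hx
    · rintro rfl; exact hh.1 (smul_inv_smul _ _).symm
    · rintro rfl; exact hh.2 (smul_inv_smul _ _).symm
  rcases fixed a ga with h1 | h1 <;> rcases fixed b gb with h2 | h2
  · exact absurd (h1.trans h2.symm) hab
  · exact Or.inl ⟨h1.symm, h2.symm⟩
  · exact Or.inr ⟨h2.symm, h1.symm⟩
  · exact absurd (h1.trans h2.symm) hab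

/-- A Sylow `r`-subgroup `C` of `L` is a Sylow `r`-subgroup of a copy in `L` of every subgroup of
`PSL(2, F)` whose order is divisible by `|C|`. -/
theorem exists_embedding_sylow {r : ℕ} [Fact r.Prime] {C : Subgroup PGL(2, F)} (hCL : C ≤ lsub F)
    {n : ℕ} (hC : Nat.card C = r ^ n) (hdvd : ¬ r ^ (n + 1) ∣ Nat.card (lsub F))
    (H₀ : Subgroup (Matrix.ProjectiveSpecialLinearGroup (Fin 2) F)) (hh : r ^ n ∣ Nat.card H₀) :
    ∃ (ψ : H₀ →* PGL(2, F)) (S : Sylow r H₀), Function.Injective ψ ∧ ψ.range ≤ lsub F ∧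
      (S : Subgroup H₀).map ψ = C := by
  let G := lsub F
  let C' : Subgroup G := C.subgroupOf G
  have hC' : Nat.card C' = r ^ n := by
    rw [← hC]; exact Nat.card_congr (Subgroup.subgroupOfEquivOfLe hCL).toEquiv
  have hidx : ¬ r ∣ C'.index := fun hd => hdvd (by
    rw [← C'.card_mul_index, hC', pow_succ]; exact Nat.mul_dvd_mul_left _ hd)
  let CS : Sylow r G := (IsPGroup.of_card hC').toSylow hidx
  obtain ⟨S⟩ : Nonempty (Sylow r H₀) := inferInstance
  let emap : H₀ →* G := (pslEquiv (F := F)).toMonoidHom.comp H₀.subtype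
  have hemap : Function.Injective emap := (pslEquiv (F := F)).injective.comp Subtype.val_injective
  let S' : Subgroup G := (S : Subgroup H₀).map emap
  have hS' : Nat.card S' = r ^ n := by
    rw [← Nat.card_congr ((S : Subgroup H₀).equivMapOfInjective _ hemap).toEquiv]
    have hr : r.Prime := Fact.out
    refine Nat.dvd_antisymm ?_ (S.pow_dvd_card_of_pow_dvd_card hh)
    obtain ⟨k, hk⟩ := S.isPGroup'.exists_card_eq
    rw [hk]
    refine (Nat.pow_dvd_pow_iff_le_right hr.one_lt).2 ?_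
    by_contra hlt
    refine hdvd ((Nat.pow_dvd_pow r (by omega : n + 1 ≤ k)).trans ?_)
    rw [← hk, ← Nat.card_congr (pslEquiv (F := F)).toEquiv]
    exact (Subgroup.card_subgroup_dvd_card (S : Subgroup H₀)).trans (Subgroup.card_subgroup_dvd_card H₀)
  have hidx' : ¬ r ∣ S'.index := fun hd => hdvd (by
    rw [← S'.card_mul_index, hS', pow_succ]; exact Nat.mul_dvd_mul_left _ hd)
  let SS : Sylow r G := (IsPGroup.of_card hS').toSylow hidx'
  obtain ⟨g, hg⟩ := MulAction.exists_smul_eq G SS CS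
  have hCg : C' = S'.map (MulAut.conj g).toMonoidHom :=
    (congrArg (fun T : Sylow r G => (T : Subgroup G)) hg).symm
  refine ⟨G.subtype.comp ((MulAut.conj g).toMonoidHom.comp emap), S,
    Subtype.val_injective.comp ((MulAut.conj g).injective.comp hemap), ?_, ?_⟩
  · rintro _ ⟨y, rfl⟩
    exact ((MulAut.conj g) (emap y)).2
  · rw [← Subgroup.map_map, ← Subgroup.map_map, ← hCg]
    exact Subgroup.map_subgroupOf_eq_of_le hCL

/-- If the normaliser in `L` of a Sylow subgroup `C` lies in `P`, and a subgroup of order `h` of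
`PSL(2, F)` has Sylow normalisers of order at least `|P|`, then `P` lies in a subgroup of order `h`. -/
theorem exists_overgroup {r : ℕ} [Fact r.Prime] {C P : Subgroup PGL(2, F)} (hCP : C ≤ P)
    (hPL : P ≤ lsub F) {n : ℕ} (hC : Nat.card C = r ^ n)
    (hdvd : ¬ r ^ (n + 1) ∣ Nat.card (lsub F))
    (hN : ∀ g ∈ lsub F, (∀ c ∈ C, g * c * g⁻¹ ∈ C) → g ∈ P)
    (H₀ : Subgroup (Matrix.ProjectiveSpecialLinearGroup (Fin 2) F)) (hh : r ^ n ∣ Nat.card H₀)
    (hbound : ∀ S : Sylow r H₀, Nat.card P ≤ Nat.card (Subgroup.normalizer ((S : Subgroup H₀) : Set H₀))) :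
    ∃ N : Subgroup PGL(2, F), P ≤ N ∧ N ≤ lsub F ∧ Nat.card N = Nat.card H₀ := by
  obtain ⟨ψ, S, hψ, hψL, hS⟩ := exists_embedding_sylow (hCP.trans hPL) hC hdvd H₀ hh
  refine ⟨ψ.range, ?_, hψL, (Nat.card_congr (MonoidHom.ofInjective hψ).toEquiv).symm⟩
  set N := Subgroup.normalizer ((S : Subgroup H₀) : Set H₀) with hNdef
  have hsub : N.map ψ ≤ P := by
    rintro _ ⟨y, hy, rfl⟩
    refine hN _ (hψL ⟨y, rfl⟩) fun c hc => ?_
    rw [← hS] at hc ⊢
    obtain ⟨s, hs, rfl⟩ := hc
    exact ⟨y * s * y⁻¹, (Subgroup.mem_normalizer_iff.1 hy s).1 hs, by simp⟩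
  have heq : N.map ψ = P := Subgroup.eq_of_le_of_card_ge hsub (by
    rw [← Nat.card_congr (N.equivMapOfInjective _ hψ).toEquiv]
    exact hbound S)
  rw [← heq]
  exact Subgroup.map_le_range _ _

/-- Normalisers of Sylow `3`-subgroups of groups of order `24` have order at least `6`, those of
Sylow `5`-subgroups of groups of order `60` at least `10`. -/
theorem card_sylow_normalizer_ge {G : Type*} [Group G] [Finite G] {r h k : ℕ} [Fact r.Prime]
    (hG : Nat.card G = h) (hk : (r, h, k) = (3, 24, 6) ∨ (r, h, k) = (5, 60, 10)) (S : Sylow r G) :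
    k ≤ Nat.card (Subgroup.normalizer ((S : Subgroup G) : Set G)) := by
  have h1 := card_sylow_modEq_one r G
  have h2 : Nat.card (Sylow r G) = (Subgroup.normalizer ((S : Subgroup G) : Set G)).index :=
    S.card_eq_index_normalizer
  have h3 := (Subgroup.normalizer ((S : Subgroup G) : Set G)).card_mul_index
  have hS : r ∣ Nat.card (S : Subgroup G) := by
    have := S.pow_dvd_card_of_pow_dvd_card (n := 1) (by
      rw [pow_one, hG]
      rcases hk with h' | h' <;> simp only [Prod.mk.injEq] at h' <;> obtain ⟨rfl, rfl, rfl⟩ := h' <;>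
        norm_num)
    rwa [pow_one] at this
  have h4 : r ∣ Nat.card (Subgroup.normalizer ((S : Subgroup G) : Set G)) :=
    hS.trans (Subgroup.card_dvd_of_le Subgroup.le_normalizer)
  rw [← h2] at h3
  rw [hG] at h3
  unfold Nat.ModEq at h1
  generalize Nat.card (Subgroup.normalizer ((S : Subgroup G) : Set G)) = N at h3 h4
  obtain ⟨N', rfl⟩ := h4
  generalize Nat.card (Sylow r G) = s at h1 h3
  rcases hk with h' | h' <;> simp only [Prod.mk.injEq] at h' <;> obtain ⟨rfl, rfl, rfl⟩ := h'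
  · have hs : N' * s = 8 := by nlinarith
    have : s ≤ 8 := Nat.le_of_dvd (by norm_num) ⟨N', by linarith⟩
    interval_cases s <;> omega
  · have hs : N' * s = 12 := by nlinarith
    have : s ≤ 12 := Nat.le_of_dvd (by norm_num) ⟨N', by linarith⟩
    interval_cases s <;> omega

end Cfsg.Agent.MaxSub.Dickson
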