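import Cfsg.Agent.MaxSub.Dickson.Maximal

/-!
Overgroups of the stabiliser of a rational pair when the torus has exponent dividing four.
-/

set_option autoImplicit false
set_option linter.unusedSectionVars false

open scoped OnePoint MatrixGroups

namespace Cfsg.Agent.MaxSub.Dickson

open Matrix MulAction

variable {F : Type*} [Field F] [Fintype F] [DecidableEq F]
variable {K : Type*} [Field K] [DecidableEq K] [Algebra F K]

theorem recipP_sq : (recipP : PGL(2, F)) * recipP = 1 := ext_smul fun x => by
  rw [mul_smul, one_smul]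
  induction x using OnePoint.rec with
  | infty => rw [recipP_infty, recipP_zero]
  | coe x =>
    by_cases hx : x = 0
    · subst hx; rw [recipP_zero, recipP_infty]
    · rw [recipP_coe, if_neg hx, recipP_coe, if_neg (inv_ne_zero hx), inv_inv]

theorem recipP_conj (r : Fˣ) : (recipP : PGL(2, F)) * aff r 0 * recipP = aff r⁻¹ 0 :=
  ext_smul fun x => by
    rw [mul_smul, mul_smul]
    induction x using OnePoint.rec with
    | infty => rw [recipP_infty, aff_coe, aff_infty]; simp [recipP_zero]
    | coe x =>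
      by_cases hx : x = 0
      · subst hx; rw [recipP_zero, aff_infty, recipP_infty, aff_coe]; simp
      · rw [recipP_coe, if_neg hx, aff_coe, recipP_coe, if_neg (by simp [hx]), aff_coe]
        simp [mul_comm]

theorem mem_lsub_recipP (hi : IsSquare (-1 : F)) : (recipP : PGL(2, F)) ∈ lsub F := by
  rw [recipP, mk_mem_lsub_iff]
  simpa [GeneralLinearGroup.mkOfDetNeZero, Matrix.det_fin_two] using hi

/-- A rational pair stabiliser, cut by a subgroup on which the multipliers have exponent `4`, lies
in a subgroup which does not contain `L` and is bigger. -/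
theorem split_pair_supergroup (h2 : (2 : F) ≠ 0) {i : F} (hi : i * i = -1) {x y : OnePoint F}
    (hxy : x ≠ y) (S : Subgroup PGL(2, F)) (hS : S ≤ pairStab (pt₀ K x) (pt₀ K y))
    (hexp : ∀ h : PGL(2, F), h • (∞ : OnePoint F) = x → h • ((0 : F) : OnePoint F) = y → ∀ u : Fˣ,
      (h * aff u 0 * h⁻¹ ∈ S ∨ h * (aff u 0 * recipP) * h⁻¹ ∈ S) → u ^ 4 = 1) :
    ∃ (N : Subgroup PGL(2, F)) (t : PGL(2, F)), S ≤ N ∧ ¬ lsub F ≤ N ∧ t ∈ N ∧
      t ∉ pairStab (pt₀ K x) (pt₀ K y) ∧ (IsSquare (-(2 * i)) → t ∈ lsub F) := by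
  obtain ⟨h, h1, h2'⟩ := exists_move_two hxy
  set A : PGL(2, F) := aff (-1) 0 with hA
  set R : PGL(2, F) := recipP with hR
  set T : Set PGL(2, F) := {A, R, A * R} with hT
  have hfin : T.Finite := Set.toFinite _
  have mem_N : ∀ g : PGL(2, F), (∀ z ∈ T, g * z * g⁻¹ ∈ T) → g ∈ Subgroup.normalizer T := by
    intro g hg
    have himg : (fun z => g * z * g⁻¹) '' T = T :=
      Set.eq_of_subset_of_ncard_le (Set.image_subset_iff.2 hg) (by
        rw [Set.ncard_image_of_injective _ (fun a b h => by simpa using h)]) hfin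
    rw [Subgroup.mem_set_normalizer_iff]
    intro z
    refine ⟨fun hz => hg z hz, fun hz => ?_⟩
    rw [← himg] at hz
    obtain ⟨z', hz', e'⟩ := hz
    rwa [show z = z' by simpa using e'.symm]
  have hAA : A * A = 1 := by rw [hA, aff_mul, aff_eq_one_iff]; exact ⟨by simp, by simp⟩
  have hRR : R * R = 1 := recipP_sq
  have hRA : R * A = A * R := by
    have e := recipP_conj (-1 : Fˣ)
    rw [show ((-1 : Fˣ))⁻¹ = -1 from inv_eq_of_mul_eq_one_right (by simp)] at e
    calc R * A = R * A * R * R := by rw [mul_assoc (R * A), hRR, mul_one]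
      _ = A * R := by rw [hA, hR, e]
  have hdiag : ∀ u : Fˣ, u ^ 4 = 1 → aff u 0 ∈ Subgroup.normalizer T := by
    intro u hu
    have eA : aff u 0 * A * (aff u 0)⁻¹ = A := by
      rw [mul_inv_eq_iff_eq_mul, hA, aff_mul, aff_mul]; simp [mul_comm]
    have eR : aff u 0 * R * (aff u 0)⁻¹ = aff (u * u) 0 * R := by
      rw [mul_inv_eq_iff_eq_mul]
      calc aff u 0 * R = aff u 0 * (R * aff u 0 * R) * (R * (aff u 0)⁻¹ * R)* R := by
            rw [show aff u 0 * (R * aff u 0 * R) * (R * (aff u 0)⁻¹ * R) * R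
              = aff u 0 * R * aff u 0 * (R * R) * (aff u 0)⁻¹ * (R * R) by group, hRR]
            group
        _ = aff (u * u) 0 * R * aff u 0 := by
          rw [hR, recipP_conj]
          have e3 : recipP * (aff u 0)⁻¹ * recipP = (recipP * aff u 0 * recipP : PGL(2, F))⁻¹ := by
            have e4 : (recipP : PGL(2, F))⁻¹ = recipP := inv_eq_of_mul_eq_one_right recipP_sq
            rw [_root_.mul_inv_rev, _root_.mul_inv_rev, e4, mul_assoc]
          have e5 : aff (u⁻¹) (0 : F) = recipP * aff u 0 * recipP := (recipP_conj u).symm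
          rw [e3, recipP_conj]
          have e6 : (aff (u⁻¹) (0 : F))⁻¹ = aff u 0 := by
            refine inv_eq_of_mul_eq_one_right ?_
            rw [aff_mul, aff_eq_one_iff]; simp
          rw [e6, show aff (u * u) (0 : F) * recipP * aff u 0
            = aff (u * u) 0 * (recipP * aff u 0 * recipP) * (recipP : PGL(2, F))⁻¹ by group,
            recipP_conj, inv_eq_of_mul_eq_one_right recipP_sq, aff_mul, aff_mul, aff_mul]
          congr 1
          simp [mul_comm, mul_assoc]
    have huu : u * u = 1 ∨ u * u = -1 := by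
      have h' : ((u : F) * u - 1) * ((u : F) * u + 1) = 0 := by
        have := congrArg Units.val hu
        push_cast at this
        linear_combination this
      rcases mul_eq_zero.1 h' with e | e
      · exact Or.inl (Units.ext (by push_cast; exact sub_eq_zero.1 e))
      · exact Or.inr (Units.ext (by push_cast; exact eq_neg_of_add_eq_zero_left e))
    refine mem_N _ fun z hz => ?_
    have eAR : aff u 0 * (A * R) * (aff u 0)⁻¹ = A * (aff (u * u) 0 * R) := by
      calc _ = (aff u 0 * A * (aff u 0)⁻¹) * (aff u 0 * R * (aff u 0)⁻¹) := by group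
        _ = _ := by rw [eA, eR]
    rcases hz with rfl | rfl | rfl
    · rw [eA]; exact Or.inl rfl
    · rw [eR]
      rcases huu with e | e <;> rw [e]
      · rw [aff_one, one_mul]; exact Or.inr (Or.inl rfl)
      · exact Or.inr (Or.inr rfl)
    · rw [eAR]
      rcases huu with e | e <;> rw [e]
      · rw [aff_one, one_mul]; exact Or.inr (Or.inr rfl)
      · rw [← hA, ← mul_assoc, hAA, one_mul]; exact Or.inr (Or.inl rfl)
  have hRN : R ∈ Subgroup.normalizer T := by
    have hinv : R⁻¹ = R := inv_eq_of_mul_eq_one_right hRR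
    refine mem_N _ fun z hz => ?_
    rw [hinv]
    rcases hz with rfl | rfl | rfl
    · rw [hRA, mul_assoc, hRR, mul_one]; exact Or.inl rfl
    · rw [hRR, one_mul]; exact Or.inr (Or.inl rfl)
    · rw [← mul_assoc, hRA, mul_assoc A R R, hRR, mul_one]; exact Or.inr (Or.inr rfl)
  -- the element of order three
  set Tm : Matrix (Fin 2) (Fin 2) F := !![i, i; 1, -1] with hTm
  have hdet : Tm.det = -(2 * i) := by rw [hTm, Matrix.det_fin_two_of]; ring
  have hi0 : i ≠ 0 := fun e => by rw [e, mul_zero] at hi; exact one_ne_zero (neg_eq_zero.1 hi.symm)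
  set TG := GeneralLinearGroup.mkOfDetNeZero Tm (by
    rw [hdet]; exact neg_ne_zero.2 (mul_ne_zero h2 hi0)) with hTG
  set t : PGL(2, F) := ProjGenLinGroup.mk TG with ht
  have t1 : t * A = A * R * t := by
    rw [ht, hA, hR, aff, recipP, ← map_mul, ← map_mul, ← map_mul, ProjGenLinGroup.mk_eq_mk_iff]
    refine ⟨Units.mk0 (-i) (neg_ne_zero.2 hi0), GeneralLinearGroup.ext fun a b => ?_⟩
    fin_cases a <;> fin_cases b <;>
      simp [hTG, hTm, GeneralLinearGroup.mkOfDetNeZero, Matrix.mul_apply, Matrix.diagonal]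
    all_goals first
      | linear_combination hi | linear_combination -hi | linear_combination (0 : F) * hi
  have t2 : t * R = A * t := by
    rw [ht, hA, hR, aff, recipP, ← map_mul, ← map_mul, ProjGenLinGroup.mk_eq_mk_iff]
    refine ⟨-1, GeneralLinearGroup.ext fun a b => ?_⟩
    fin_cases a <;> fin_cases b <;>
      simp [hTG, hTm, GeneralLinearGroup.mkOfDetNeZero, Matrix.mul_apply, Matrix.diagonal]
  have t3 : t * (A * R) = R * t := by
    calc t * (A * R) = (t * A) * R := by group
      _ = A * R * (t * R) := by rw [t1]; group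
      _ = A * (R * A) * t := by rw [t2]; group
      _ = A * A * R * t := by rw [hRA]; group
      _ = R * t := by rw [hAA, one_mul]
  have htN : t ∈ Subgroup.normalizer T := by
    refine mem_N _ fun z hz => ?_
    rcases hz with rfl | rfl | rfl
    · rw [t1, mul_inv_cancel_right]; exact Or.inr (Or.inr rfl)
    · rw [t2, mul_inv_cancel_right]; exact Or.inl rfl
    · rw [t3, mul_inv_cancel_right]; exact Or.inr (Or.inl rfl)
  refine ⟨(Subgroup.normalizer T).map (MulAut.conj h).toMonoidHom, h * t * h⁻¹, ?_, ?_,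
    ⟨t, htN, rfl⟩, ?_, ?_⟩
  · intro g hg
    refine ⟨h⁻¹ * g * h, ?_, by simp [mul_assoc]⟩
    have hconj : ∀ v : PGL(2, F), h⁻¹ * g * h = v → h * v * h⁻¹ ∈ S := fun v e => by
      rw [← e]; simpa [mul_assoc] using hg
    have hge : ∀ a b : OnePoint F, emb K g • pt₀ K a = pt₀ K b → g • a = b := fun a b e =>
      pt₀_injective (K := K) (by rw [← emb_pt, e])
    rcases hS hg with ⟨gx, gy⟩ | ⟨gx, gy⟩
    · obtain ⟨u, v, huv⟩ := exists_aff (fixed_conj (g := g) (x := ∞) (by rw [h1]; exact hge x x gx))
      have hv := fixed_conj (g := g) (h := h) (x := ((0 : F) : OnePoint F)) (by rw [h2']; exact hge y y gy)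
      rw [huv, aff_coe, OnePoint.coe_eq_coe, mul_zero, zero_add] at hv
      subst hv
      rw [huv]
      exact hdiag u (hexp h h1 h2' u (Or.inl (hconj _ huv)))
    · set W := h⁻¹ * g * h with hW
      have hW1 : W • (∞ : OnePoint F) = ((0 : F) : OnePoint F) := by
        rw [hW, mul_smul, mul_smul, h1, inv_smul_eq_iff, h2']; exact hge x y gx
      have hW2 : W • ((0 : F) : OnePoint F) = ∞ := by
        rw [hW, mul_smul, mul_smul, h2', inv_smul_eq_iff, h1]; exact hge y x gy
      obtain ⟨u, v, huv⟩ := exists_aff (g := W * recipP) (by rw [mul_smul, recipP_infty, hW2])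
      have hv : (W * recipP) • ((0 : F) : OnePoint F) = ((0 : F) : OnePoint F) := by
        rw [mul_smul, recipP_zero, hW1]
      rw [huv, aff_coe, OnePoint.coe_eq_coe, mul_zero, zero_add] at hv
      subst hv
      have hWe : W = aff u 0 * recipP := by rw [← huv, mul_assoc, recipP_sq, mul_one]
      rw [hWe]
      exact mul_mem (hdiag u (hexp h h1 h2' u (Or.inr (hconj _ hWe)))) hRN
  · intro hle
    have hu : h * aff 1 1 * h⁻¹ ∈ lsub F :=
      lsub_normal.conj_mem _ ((aff_mem_lsub_iff 1 _).2 (by simp)) h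
    obtain ⟨n, hn, e⟩ := hle hu
    have hne : n = aff (1 : Fˣ) (1 : F) := (MulAut.conj h).injective e
    subst hne
    have hm := (Subgroup.mem_set_normalizer_iff.1 hn A).1 (Or.inl rfl)
    have e1 : aff (1 : Fˣ) (1 : F) * A * (aff 1 1)⁻¹ = aff (-1) 2 := by
      rw [mul_inv_eq_iff_eq_mul, hA, aff_mul, aff_mul]
      congr 1
      · simp
      · push_cast; ring
    rw [e1] at hm
    rcases hm with e' | e' | e'
    · exact h2 (aff_inj (e'.trans hA)).2
    · have := congrArg (· • (∞ : OnePoint F)) e'
      simp only [aff_infty, hR, recipP_infty] at this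
      exact OnePoint.infty_ne_coe _ this
    · rw [Set.mem_singleton_iff] at e'
      have := congrArg (· • (∞ : OnePoint F)) e'
      simp only [aff_infty, hA, hR, mul_smul, recipP_infty, aff_coe] at this
      exact OnePoint.infty_ne_coe _ this
  · intro hmem
    have e : t • (∞ : OnePoint F) = ((i : F) : OnePoint F) := by
      rw [ht, mk_smul, OnePoint.smul_infty_eq_ite]
      simp [hTG, hTm, GeneralLinearGroup.mkOfDetNeZero]
    have hx : (h * t * h⁻¹) • x = h • ((i : F) : OnePoint F) := by
      rw [← h1, mul_smul, mul_smul, inv_smul_smul, e]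
    rcases hmem with ⟨gx, -⟩ | ⟨gx, -⟩ <;> rw [emb_pt] at gx
    · have := pt₀_injective gx
      rw [hx, ← h1] at this
      exact OnePoint.coe_ne_infty _ (MulAction.injective h this)
    · have := pt₀_injective gx
      rw [hx, ← h2'] at this
      exact hi0 (OnePoint.coe_eq_coe.1 (MulAction.injective h this))
  · intro hsq
    refine lsub_normal.conj_mem _ ?_ h
    rw [ht, mk_mem_lsub_iff]
    show IsSquare Tm.det
    rwa [hdet]

end Cfsg.Agent.MaxSub.Dickson
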