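import Cfsg.Agent.MaxSub.Dickson.Finite
import Mathlib.FieldTheory.Finite.GaloisField
import Cfsg.Agent.GeoClasses.Descent
import Cfsg.Agent.Linear.PermIso

/-!
Shared facts for the maximal subgroups of `PGL(2, F)` and `PSL(2, F)`: orders, the subgroup `L`,
subfield subgroups, and the exclusion of the perfect cases outside `L`.
-/

set_option autoImplicit false
set_option linter.unusedSectionVars false

open scoped OnePoint MatrixGroups

namespace Cfsg.Agent.MaxSub.Dickson

open Matrix MulAction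

section

variable {F : Type*} [Field F]

theorem lsub_normal : (lsub F).Normal := by
  classical
  refine ⟨fun n hn g => ?_⟩
  induction g using ProjGenLinGroup.induction_on with | mk A =>
  obtain ⟨S, rfl⟩ := hn
  have hd : (A.1 * (S : Matrix (Fin 2) (Fin 2) F) * (A⁻¹).1).det = 1 := by
    rw [Matrix.det_units_conj, S.2]
  refine ⟨⟨_, hd⟩, ?_⟩
  show _ = ProjGenLinGroup.mk A * ProjGenLinGroup.mk (SpecialLinearGroup.toGL S) * (ProjGenLinGroup.mk A)⁻¹
  rw [← map_inv, ← map_mul, ← map_mul]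
  exact congrArg ProjGenLinGroup.mk (Units.ext rfl)

theorem range_toPGL_eq :
    (ProjectiveSpecialLinearGroup.toPGL (n := Fin 2) (R := F)).range = lsub F := by
  ext g
  constructor
  · rintro ⟨x, rfl⟩
    induction x using QuotientGroup.induction_on with | H S =>
    exact ⟨S, rfl⟩
  · rintro ⟨S, rfl⟩
    exact ⟨QuotientGroup.mk S, rfl⟩

/-- `PSL(2, F)` is `L`. -/
noncomputable def pslEquiv : Matrix.ProjectiveSpecialLinearGroup (Fin 2) F ≃* lsub F :=
  (MonoidHom.ofInjective ProjectiveSpecialLinearGroup.toPGL_injective).trans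
    (MulEquiv.subgroupCongr range_toPGL_eq)

/-- Conjugation preserves `L`. -/
theorem map_conj_lsub (h : PGL(2, F)) : (lsub F).map (MulAut.conj h).toMonoidHom = lsub F := by
  ext g
  constructor
  · rintro ⟨l, hl, rfl⟩
    exact lsub_normal.conj_mem l hl h
  · intro hg
    exact ⟨h⁻¹ * g * h, by simpa using lsub_normal.conj_mem g hg h⁻¹, by simp [mul_assoc]⟩

theorem le_lsub_of_conj_le {H : Subgroup PGL(2, F)} {h : PGL(2, F)}
    (hle : H.map (MulAut.conj h⁻¹).toMonoidHom ≤ lsub F) : H ≤ lsub F := by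
  intro x hx
  have h1 := lsub_normal.conj_mem _ (hle ⟨x, hx, rfl⟩) h
  simpa [mul_assoc] using h1

theorem subPGL_mono [DecidableEq F] {F₀ F₁ : Subfield F} (h : F₀ ≤ F₁) :
    (subPGL F₀).range ≤ (subPGL F₁).range := by
  rintro _ ⟨g, rfl⟩
  refine ⟨ProjGenLinGroup.map (Subfield.inclusion h) g, ?_⟩
  show ((subPGL F₁).comp (ProjGenLinGroup.map (Subfield.inclusion h))) g = _
  rw [subPGL, ← ProjGenLinGroup.map_comp]
  rfl

theorem subPSL_le_lsub [DecidableEq F] (F₀ : Subfield F) : (subPSL F₀).range ≤ lsub F := by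
  rw [range_subPSL]
  rintro _ ⟨_, ⟨S, rfl⟩, rfl⟩
  exact ⟨Matrix.SpecialLinearGroup.map F₀.subtype S, congrArg ProjGenLinGroup.mk (Units.ext rfl)⟩

theorem subPSL_le_subPGL [DecidableEq F] (F₀ : Subfield F) :
    (subPSL F₀).range ≤ (subPGL F₀).range := by
  rw [range_subPSL]
  exact Subgroup.map_le_range _ _

theorem subPSL_mono [DecidableEq F] {F₀ F₁ : Subfield F} (h : F₀ ≤ F₁) :
    (subPSL F₀).range ≤ (subPSL F₁).range := by
  rw [range_subPSL, range_subPSL]
  rintro _ ⟨_, ⟨S, rfl⟩, rfl⟩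
  exact ⟨_, ⟨Matrix.SpecialLinearGroup.map (Subfield.inclusion h) S, rfl⟩,
    congrArg ProjGenLinGroup.mk (Units.ext rfl)⟩

/-- A subgroup isomorphic to an alternating group lies in `L` as soon as `L` contains all
squares. -/
theorem le_of_iso_alt {G : Type*} [Group G] {L M : Subgroup G} [L.Normal] (hL : L.index = 2) {n : ℕ}
    (e : M ≃* alternatingGroup (Fin n)) : M ≤ L := by
  let f : alternatingGroup (Fin n) →* G ⧸ L :=
    ((QuotientGroup.mk' L).comp M.subtype).comp e.symm.toMonoidHom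
  have h3 : ∀ σ : alternatingGroup (Fin n), (σ : Equiv.Perm (Fin n)).IsThreeCycle → f σ = 1 := by
    intro σ hσ
    have h2 : f σ ^ 2 = 1 := by
      have : Nat.card (G ⧸ L) = 2 := hL
      rw [← this]
      exact pow_card_eq_one'
    have h3' : f σ ^ 3 = 1 := by
      rw [← map_pow, show σ ^ 3 = 1 from Subtype.ext (by
        rw [Subgroup.coe_pow, ← hσ.orderOf, pow_orderOf_eq_one]; rfl), map_one]
    calc f σ = f σ ^ 3 * (f σ ^ 2)⁻¹ := by group
      _ = 1 := by rw [h2, h3']; group
  have hker : ∀ σ, f σ = 1 := by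
    intro σ
    obtain ⟨σ, hσ⟩ := σ
    have hmem : σ ∈ f.ker.map (alternatingGroup (Fin n)).subtype := by
      have hle : Subgroup.closure {σ : Equiv.Perm (Fin n) | σ.IsThreeCycle}
          ≤ f.ker.map (alternatingGroup (Fin n)).subtype := by
        rw [Subgroup.closure_le]
        intro τ hτ
        exact ⟨⟨τ, hτ.mem_alternatingGroup⟩, h3 _ hτ, rfl⟩
      rw [Equiv.Perm.closure_three_cycles_eq_alternating] at hle
      exact hle hσ
    obtain ⟨τ, hτ, he⟩ := hmem
    rw [show (⟨σ, hσ⟩ : alternatingGroup (Fin n)) = τ from Subtype.ext he.symm]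
    exact hτ
  intro x hx
  have := hker (e ⟨x, hx⟩)
  simpa [f, QuotientGroup.eq_one_iff] using this

end

variable {F : Type*} [Field F] [Fintype F] [DecidableEq F]

theorem card_pgl :
    Nat.card PGL(2, F) = Fintype.card F * (Fintype.card F - 1) * (Fintype.card F + 1) := by
  rw [Linear.card_PGL_eq_card_SL, Linear.card_SL_two]

theorem card_lsub_mul :
    Nat.gcd 2 (Fintype.card F - 1) * Nat.card (lsub F) =
      Fintype.card F * (Fintype.card F - 1) * (Fintype.card F + 1) := by
  rw [← Nat.card_congr (pslEquiv (F := F)).toEquiv, Linear.card_PSL_two_mul]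

theorem lsub_index_two (hodd : Odd (Fintype.card F)) : (lsub F).index = 2 := by
  have h1 := card_lsub_mul (F := F)
  have hg : Nat.gcd 2 (Fintype.card F - 1) = 2 :=
    Nat.gcd_eq_left (by rw [Nat.odd_iff] at hodd; omega)
  rw [hg, ← card_pgl, ← (lsub F).index_mul_card] at h1
  exact (Nat.eq_of_mul_eq_mul_right Nat.card_pos h1).symm

theorem lsub_eq_top (heven : Even (Fintype.card F)) : lsub F = ⊤ := by
  have h1 := card_lsub_mul (F := F)
  have hg : Nat.gcd 2 (Fintype.card F - 1) = 1 := by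
    have h2 : ¬ 2 ∣ Fintype.card F - 1 := by
      rw [Nat.even_iff] at heven
      have := Fintype.card_pos (α := F)
      omega
    exact (Nat.prime_two.coprime_iff_not_dvd).2 h2
  rw [hg, one_mul] at h1
  exact Subgroup.eq_top_of_card_eq _ (h1.trans card_pgl.symm)

theorem card_stab (x : OnePoint F) :
    Nat.card (stabilizer PGL(2, F) x) = Fintype.card F * (Fintype.card F - 1) := by
  have h1 := card_orbit_mul (G := PGL(2, F)) x
  have h2 : orbit PGL(2, F) x = Set.univ := by
    refine Set.eq_univ_of_forall fun y => ?_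
    obtain ⟨a, ha⟩ := exists_move x
    obtain ⟨b, hb⟩ := exists_move y
    exact ⟨b * a⁻¹, by show (b * a⁻¹) • x = y; rw [← ha, mul_smul, inv_smul_smul, hb]⟩
  have h3 : Nat.card (OnePoint F) = Fintype.card F + 1 := by
    show Nat.card (Option F) = _
    rw [Nat.card_eq_fintype_card, Fintype.card_option]
  rw [h2, Set.ncard_univ, h3, card_pgl, mul_comm] at h1
  exact Nat.eq_of_mul_eq_mul_right (Nat.succ_pos _) h1

theorem card_subfield_pow (F₀ : Subfield F) :
    ∃ r, 1 ≤ r ∧ Fintype.card F = Nat.card F₀ ^ r := by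
  refine ⟨Module.finrank F₀ F, Module.finrank_pos, ?_⟩
  rw [← Nat.card_eq_fintype_card]
  exact Module.natCard_eq_pow_finrank

theorem subfield_eq_top_iff (F₀ : Subfield F) : F₀ = ⊤ ↔ Nat.card F₀ = Fintype.card F := by
  constructor
  · rintro rfl
    rw [Nat.card_congr Subfield.topEquiv.toEquiv, Nat.card_eq_fintype_card]
  · intro h
    refine SetLike.coe_injective (Set.eq_univ_of_forall fun x => ?_)
    have : (F₀ : Set F) = Set.univ := by
      refine Set.eq_of_subset_of_ncard_le (Set.subset_univ _) ?_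
      rw [Set.ncard_univ, ← Nat.card_coe_set_eq, SetLike.coe_sort_coe, h, Nat.card_eq_fintype_card]
    rw [this]
    trivial

theorem card_subPGL_range (F₀ : Subfield F) : Nat.card (subPGL F₀).range =
    Nat.card F₀ * (Nat.card F₀ - 1) * (Nat.card F₀ + 1) := by
  have : Fintype F₀ := Fintype.ofFinite _
  rw [← Nat.card_congr (MonoidHom.ofInjective (subPGL_injective F₀)).toEquiv, card_pgl,
    Nat.card_eq_fintype_card]

theorem card_subPSL_range (F₀ : Subfield F) : Nat.gcd 2 (Nat.card F₀ - 1) * Nat.card (subPSL F₀).range =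
    Nat.card F₀ * (Nat.card F₀ - 1) * (Nat.card F₀ + 1) := by
  have : Fintype F₀ := Fintype.ofFinite _
  rw [← Nat.card_congr (MonoidHom.ofInjective (subPSL_injective F₀)).toEquiv,
    Nat.card_eq_fintype_card (α := F₀), Linear.card_PSL_two_mul]

theorem exists_prime_index_subfield {F₀ : Subfield F} (h : F₀ ≠ ⊤) :
    ∃ (F₁ : Subfield F) (r : ℕ), r.Prime ∧ F₀ ≤ F₁ ∧ Fintype.card F = Nat.card F₁ ^ r := by
  obtain ⟨F₁, r, hr, hle, hc⟩ := GeoClasses.exists_subfield_prime_index h
  exact ⟨F₁, r, hr, hle, by rw [← hc, Nat.card_eq_fintype_card]⟩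

/-- The elements of a subfield of even degree are squares. -/
theorem isSquare_of_even_degree {F₁ : Subfield F} {r : ℕ} (hr : Even r)
    (hodd : Odd (Fintype.card F)) (hc : Fintype.card F = Nat.card F₁ ^ r) (c : F) (hcF : c ∈ F₁) :
    IsSquare c := by
  by_cases hc0 : c = 0
  · rw [hc0]; exact IsSquare.zero
  rw [FiniteField.isSquare_iff (fun h2 => by
    have := FiniteField.even_card_iff_char_two.1 h2
    rw [Nat.odd_iff] at hodd; omega) hc0]
  have : Fintype F₁ := Fintype.ofFinite _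
  set a := Nat.card F₁ with ha
  have ha1 : 1 < a := by rw [ha]; exact Finite.one_lt_card
  obtain ⟨t, rfl⟩ := hr
  have hoa : Odd a := by
    have := hc ▸ hodd
    exact (Nat.odd_pow_iff (by
      intro h0; rw [h0, pow_zero] at hc; exact Fintype.one_lt_card.ne' hc)).1 this
  have hdvd : a - 1 ∣ Fintype.card F / 2 := by
    have h1 : a ^ 2 - 1 ∣ Fintype.card F - 1 := by
      rw [hc, ← two_mul, pow_mul]
      exact nat_sub_dvd_pow_sub_pow' (a ^ 2) t
    have h2 : 2 * (a - 1) ∣ a ^ 2 - 1 := by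
      obtain ⟨b, hb⟩ := hoa
      refine ⟨b + 1, ?_⟩
      rw [hb]
      have : (2 * b + 1) ^ 2 = 2 * (2 * b + 1 - 1) * (b + 1) + 1 := by
        rw [Nat.add_sub_cancel]; ring
      omega
    obtain ⟨d, hd⟩ := h2.trans h1
    refine ⟨d, ?_⟩
    rw [Nat.odd_iff] at hodd
    rw [mul_assoc] at hd
    omega
  obtain ⟨d, hd⟩ := hdvd
  have h1 : (⟨c, hcF⟩ : F₁) ^ (a - 1) = 1 := by
    rw [ha, Nat.card_eq_fintype_card]
    exact FiniteField.pow_card_sub_one_eq_one _ (fun e => hc0 (congrArg Subtype.val e))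
  have h1' : c ^ (a - 1) = 1 := congrArg Subtype.val h1
  rw [hd, pow_mul, h1', one_pow]
  where
  nat_sub_dvd_pow_sub_pow' (x n : ℕ) : x - 1 ∣ x ^ n - 1 := by
    simpa using Nat.sub_dvd_pow_sub_pow x 1 n

theorem subPGL_le_lsub_of_even {F₁ : Subfield F} {r : ℕ} (hr : Even r)
    (hodd : Odd (Fintype.card F)) (hc : Fintype.card F = Nat.card F₁ ^ r) :
    (subPGL F₁).range ≤ lsub F := by
  rintro _ ⟨g, rfl⟩
  induction g using ProjGenLinGroup.induction_on with | mk A =>
  rw [subPGL, ProjGenLinGroup.map_mk, mk_mem_lsub_iff]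
  refine isSquare_of_even_degree hr hodd hc _ ?_
  have : ((Matrix.GeneralLinearGroup.map F₁.subtype A : GL (Fin 2) F) : Matrix (Fin 2) (Fin 2) F).det
      = F₁.subtype (A : Matrix (Fin 2) (Fin 2) F₁).det := (RingHom.map_det F₁.subtype _).symm
  rw [this]
  exact ((A : Matrix (Fin 2) (Fin 2) F₁).det).2

/-- A model of a subfield in `Type`. -/
theorem exists_small_model (F₀ : Subfield F) :
    ∃ (E : Type) (_ : Field E) (_ : Fintype E), Fintype.card E = Nat.card F₀ ∧
      Nonempty (PGL(2, F₀) ≃* PGL(2, E)) ∧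
      Nonempty (Matrix.ProjectiveSpecialLinearGroup (Fin 2) F₀ ≃*
        Matrix.ProjectiveSpecialLinearGroup (Fin 2) E) := by
  have : Fintype F₀ := Fintype.ofFinite _
  haveI : CharP F₀ (ringChar F₀) := ringChar.charP _
  obtain ⟨n, hp, hc⟩ := FiniteField.card F₀ (ringChar F₀)
  have : Fact (Nat.Prime (ringChar F₀)) := ⟨hp⟩
  have : Fintype (GaloisField (ringChar F₀) n) := Fintype.ofFinite _
  have hE : Fintype.card (GaloisField (ringChar F₀) n) = Fintype.card F₀ := by
    rw [← Nat.card_eq_fintype_card, GaloisField.card _ _ n.ne_zero, hc]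
  let e : F₀ ≃+* GaloisField (ringChar F₀) n := FiniteField.ringEquivOfCardEq hE.symm
  refine ⟨_, inferInstance, inferInstance, by rw [hE, Nat.card_eq_fintype_card], ⟨?_⟩, ?_⟩
  · refine MonoidHom.toMulEquiv (ProjGenLinGroup.map e.toRingHom) (ProjGenLinGroup.map e.symm.toRingHom) ?_ ?_
    · rw [← ProjGenLinGroup.map_comp, show e.symm.toRingHom.comp e.toRingHom = RingHom.id _ from
        RingHom.ext fun x => e.symm_apply_apply x, ProjGenLinGroup.map_id]
    · rw [← ProjGenLinGroup.map_comp, show e.toRingHom.comp e.symm.toRingHom = RingHom.id _ from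
        RingHom.ext fun x => e.apply_symm_apply x, ProjGenLinGroup.map_id]
  · exact Linear.psl_congr e (Fin 2)

/-- A subgroup containing a subfield subgroup and of the same order comes from the same field. -/
theorem subfield_card_inj {F₀ F₁ : Subfield F}
    (h : Nat.card F₀ * (Nat.card F₀ - 1) * (Nat.card F₀ + 1)
      = Nat.card F₁ * (Nat.card F₁ - 1) * (Nat.card F₁ + 1)) : Nat.card F₀ = Nat.card F₁ := by
  have h0 : 1 < Nat.card F₀ := Finite.one_lt_card
  have h1 : 1 < Nat.card F₁ := Finite.one_lt_card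
  by_contra hne
  rcases Nat.lt_or_ge (Nat.card F₀) (Nat.card F₁) with hlt | hge
  · have : Nat.card F₀ * (Nat.card F₀ - 1) * (Nat.card F₀ + 1)
        < Nat.card F₁ * (Nat.card F₁ - 1) * (Nat.card F₁ + 1) := by
      apply Nat.mul_lt_mul_of_lt_of_le _ (by omega) (by omega)
      exact Nat.mul_lt_mul_of_lt_of_le hlt (by omega) (by omega)
    omega
  · have hlt : Nat.card F₁ < Nat.card F₀ := by omega
    have : Nat.card F₁ * (Nat.card F₁ - 1) * (Nat.card F₁ + 1)
        < Nat.card F₀ * (Nat.card F₀ - 1) * (Nat.card F₀ + 1) := by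
      apply Nat.mul_lt_mul_of_lt_of_le _ (by omega) (by omega)
      exact Nat.mul_lt_mul_of_lt_of_le hlt (by omega) (by omega)
    omega

variable {K : Type*} [Field K] [DecidableEq K] [Algebra F K]

theorem IsPair.le_q_add_one {a b : OnePoint K} {m : ℕ} (hm : IsPair F a b m) :
    m ≤ Fintype.card F + 1 := by
  obtain ⟨-, ⟨-, -, rfl⟩ | ⟨-, -, rfl⟩⟩ := hm <;> omega

/-- The setwise stabiliser of a pair does not contain `L`. -/
theorem IsPair.not_lsub_le {a b : OnePoint K} {m : ℕ} (hm : IsPair F a b m)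
    (h4 : 4 ≤ Fintype.card F) : ¬ lsub F ≤ pairStab a b := by
  intro hle
  have h1 := Subgroup.card_le_of_le hle
  rw [hm.stab.1] at h1
  have h2 := card_lsub_mul (F := F)
  have h3 : Nat.gcd 2 (Fintype.card F - 1) ≤ 2 := Nat.gcd_le_left _ (by norm_num)
  have h4' := hm.le_q_add_one
  have h5 : Nat.gcd 2 (Fintype.card F - 1) * Nat.card (lsub F) ≤ 2 * (2 * (Fintype.card F + 1)) :=
    Nat.mul_le_mul h3 (h1.trans (by omega))
  rw [h2] at h5
  have h6 : 4 * 3 ≤ Fintype.card F * (Fintype.card F - 1) := Nat.mul_le_mul h4 (by omega)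
  have h7 : 4 * 3 * (Fintype.card F + 1) ≤
      Fintype.card F * (Fintype.card F - 1) * (Fintype.card F + 1) := Nat.mul_le_mul_right _ h6
  omega

/-- A point stabiliser does not contain `L`. -/
theorem not_lsub_le_stab (h4 : 4 ≤ Fintype.card F) (x : OnePoint F) :
    ¬ lsub F ≤ stabilizer PGL(2, F) x := by
  intro hle
  have h1 := Subgroup.card_le_of_le hle
  rw [card_stab] at h1
  have h2 := card_lsub_mul (F := F)
  have h3 : Nat.gcd 2 (Fintype.card F - 1) ≤ 2 := Nat.gcd_le_left _ (by norm_num)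
  have h5 : Nat.gcd 2 (Fintype.card F - 1) * Nat.card (lsub F) ≤
      2 * (Fintype.card F * (Fintype.card F - 1)) := Nat.mul_le_mul h3 h1
  rw [h2] at h5
  have hpos : 0 < Fintype.card F * (Fintype.card F - 1) := Nat.mul_pos (by omega) (by omega)
  have : Fintype.card F * (Fintype.card F - 1) * 3 ≤
      Fintype.card F * (Fintype.card F - 1) * (Fintype.card F + 1) := Nat.mul_le_mul_left _ (by omega)
  omega

/-- A proper subfield subgroup does not contain `L`. -/
theorem not_lsub_le_subPGL (h4 : 4 ≤ Fintype.card F) {F₁ : Subfield F} {r : ℕ} (hr : 2 ≤ r)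
    (hc : Fintype.card F = Nat.card F₁ ^ r) (h : PGL(2, F)) :
    ¬ lsub F ≤ (subPGL F₁).range.map (MulAut.conj h).toMonoidHom := by
  intro hle
  have h1 := Subgroup.card_le_of_le hle
  rw [← Nat.card_congr (((subPGL F₁).range).equivMapOfInjective _ (MulAut.conj h).injective).toEquiv,
    card_subPGL_range] at h1
  have h2 := card_lsub_mul (F := F)
  have h3 : Nat.gcd 2 (Fintype.card F - 1) ≤ 2 := Nat.gcd_le_left _ (by norm_num)
  have h5 : Nat.gcd 2 (Fintype.card F - 1) * Nat.card (lsub F) ≤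
      2 * (Nat.card F₁ * (Nat.card F₁ - 1) * (Nat.card F₁ + 1)) := Nat.mul_le_mul h3 h1
  rw [h2] at h5
  have ha : 2 ≤ Nat.card F₁ := Finite.one_lt_card
  have hsq : Nat.card F₁ * Nat.card F₁ ≤ Fintype.card F := by
    rw [hc, ← sq]; exact Nat.pow_le_pow_right (by omega) hr
  set a := Nat.card F₁
  set q := Fintype.card F
  have haq : 2 * a ≤ q := le_trans (Nat.mul_le_mul_right a ha) hsq
  have h6 : 2 * a * (a - 1) * (a + 1) < q * (q - 1) * (q + 1) :=
    Nat.mul_lt_mul_of_le_of_lt (Nat.mul_le_mul haq (by omega)) (by omega)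
      (Nat.mul_pos (by omega) (by omega))
  have : 2 * (a * (a - 1) * (a + 1)) = 2 * a * (a - 1) * (a + 1) := by ring
  omega

/-- The form of a maximal subgroup (among those not containing `L`) of subfield type. -/
theorem subfield_of_maximal {M : Subgroup PGL(2, F)} (hM : ∀ N, M ≤ N → ¬ lsub F ≤ N → M = N)
    (h4 : 4 ≤ Fintype.card F) {F₀ : Subfield F} (hne : F₀ ≠ ⊤) {h : PGL(2, F)}
    (he : M.map (MulAut.conj h⁻¹).toMonoidHom = (subPGL F₀).range) :
    ∃ r : ℕ, r.Prime ∧ Fintype.card F = Nat.card F₀ ^ r := by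
  obtain ⟨F₁, r, hr, hle, hc⟩ := exists_prime_index_subfield hne
  have hle' : M ≤ (subPGL F₁).range.map (MulAut.conj h).toMonoidHom := by
    intro x hx
    refine ⟨h⁻¹ * x * h, subPGL_mono hle (he ▸ ⟨x, hx, by simp⟩), by simp [mul_assoc]⟩
  have heq := hM _ hle' (not_lsub_le_subPGL h4 hr.two_le hc h)
  refine ⟨r, hr, ?_⟩
  rw [hc]
  congr 1
  refine (subfield_card_inj ?_).symm
  rw [← card_subPGL_range, ← card_subPGL_range, ← he, heq,
    ← Nat.card_congr (Subgroup.equivMapOfInjective _ _ (MulAut.conj h⁻¹).injective).toEquiv,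
    ← Nat.card_congr (Subgroup.equivMapOfInjective _ _ (MulAut.conj h).injective).toEquiv]

end Cfsg.Agent.MaxSub.Dickson
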