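import Mathlib.GroupTheory.Sylow
import Mathlib.GroupTheory.Transfer
import Mathlib.GroupTheory.SpecificGroups.Alternating

/-!
Recognition of `A_4`, `S_4`, `A_5` from the order and the absence of elements of order `6`
(resp. `6`, `10`, `15`).
-/

set_option autoImplicit false

namespace Cfsg.Agent.MaxSub.Dickson

variable {G : Type*} [Group G] [Finite G]

open Subgroup

theorem card_sylow_of_pow {p n : ℕ} [hp : Fact p.Prime] (hn : Nat.card G = p * n) (hpn : ¬ p ∣ n)
    (P : Sylow p G) : Nat.card P = p := by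
  have hn0 : n ≠ 0 := by rintro rfl; exact hpn (dvd_zero p)
  rw [P.card_eq_multiplicity, hn, Nat.factorization_mul hp.out.ne_zero hn0]
  simp [hp.out.factorization_self, Nat.factorization_eq_zero_of_not_dvd hpn]

omit [Finite G] in
/-- An element of prime order `r` and one of prime order `s` which commute give order `r s`. -/
theorem orderOf_mul_primes {a b : G} {r s : ℕ} (hr : r.Prime) (hs : s.Prime) (hrs : r ≠ s)
    (ha : orderOf a = r) (hb : orderOf b = s) (hc : Commute a b) : orderOf (a * b) = r * s := by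
  rw [hc.orderOf_mul_eq_mul_orderOf_of_coprime (by rw [ha, hb]; exact (Nat.coprime_primes hr hs).2 hrs),
    ha, hb]

/-- If a subgroup `N` of prime order `r` is normalised by `b` of prime order `s` not dividing
`r - 1`, then they commute. -/
theorem commute_of_normalizes {N : Subgroup G} {r s : ℕ} (hr : r.Prime) (hs : s.Prime)
    (hN : Nat.card N = r) (hsr : ¬ s ∣ r - 1) {a b : G} (ha : a ∈ N) (hb : orderOf b = s)
    (hn : b ∈ normalizer (N : Set G)) : Commute a b := by
  haveI : Fact r.Prime := ⟨hr⟩
  haveI : IsCyclic N := isCyclic_of_prime_card hN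
  let φ : normalizer (N : Set G) →* MulAut N := N.normalizerMonoidHom
  have h1 : orderOf (φ ⟨b, hn⟩) ∣ s := by
    have := orderOf_map_dvd φ ⟨b, hn⟩
    rwa [Subgroup.orderOf_mk, hb] at this
  have h2 : orderOf (φ ⟨b, hn⟩) ∣ r - 1 := by
    refine (_root_.orderOf_dvd_natCard _).trans ?_
    rw [IsCyclic.card_mulAut, hN, Nat.totient_prime hr]
  have h3 : φ ⟨b, hn⟩ = 1 := by
    rcases (Nat.dvd_prime hs).1 h1 with h | h
    · exact orderOf_eq_one_iff.1 h
    · exact absurd (h ▸ h2) hsr
  have := congrArg (fun e : MulAut N => ((e ⟨a, ha⟩ : N) : G)) h3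
  simp [φ] at this
  show a * b = b * a
  exact (mul_inv_eq_iff_eq_mul.1 this).symm

theorem exists_orderOf_sylow {p : ℕ} [hp : Fact p.Prime] (P : Sylow p G) (h : Nat.card P = p) :
    ∃ a ∈ (P : Subgroup G), orderOf a = p := by
  obtain ⟨a, ha⟩ := exists_prime_orderOf_dvd_card' (G := P) p (dvd_of_eq h.symm)
  exact ⟨a, a.2, by rw [Subgroup.orderOf_coe]; exact ha⟩

/-- In a group of order `12` or `24` without elements of order `6` the conjugation action on the
Sylow `3`-subgroups is faithful, and there are four of them. -/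
theorem sylow_three_data {m : ℕ} (hm : m = 4 ∨ m = 8) (hc : Nat.card G = 3 * m)
    (h6 : ∀ g : G, orderOf g ≠ 6) :
    Nat.card (Sylow 3 G) = 4 ∧
      Function.Injective (MulAction.toPermHom G (Sylow 3 G)) := by
  have h3 : ∀ P : Sylow 3 G, Nat.card P = 3 :=
    card_sylow_of_pow hc (by rcases hm with rfl | rfl <;> norm_num)
  have nocomm : ∀ a b : G, orderOf a = 3 → orderOf b = 2 → ¬ Commute a b := fun a b ha hb hab =>
    h6 _ (orderOf_mul_primes Nat.prime_three Nat.prime_two (by norm_num) ha hb hab)
  obtain ⟨P⟩ : Nonempty (Sylow 3 G) := inferInstance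
  have hdvd : Nat.card (Sylow 3 G) ∣ 3 * m := hc ▸ P.card_dvd_index.trans (index_dvd_card _)
  have hmod := card_sylow_modEq_one 3 G
  have hidx : Nat.card (Sylow 3 G) * Nat.card (normalizer (P : Set G)) = 3 * m := by
    rw [P.card_eq_index_normalizer, Subgroup.index_mul_card, hc]
  -- the number of Sylow 3-subgroups is not 1
  have hne : Nat.card (Sylow 3 G) ≠ 1 := by
    intro h1
    obtain ⟨a, ha, hao⟩ := exists_orderOf_sylow P (h3 P)
    have : IsCyclic (P : Subgroup G) := isCyclic_of_prime_card (h3 P)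
    have : Subsingleton (Sylow 3 G) := (Nat.card_eq_one_iff_unique.1 h1).1
    have hn : (P : Subgroup G).Normal := inferInstance
    let φ : G →* MulAut (P : Subgroup G) := MulAut.conjNormal
    have hker : 2 ∣ Nat.card φ.ker := by
      have h := φ.ker.index_mul_card
      rw [hc, Subgroup.index_ker] at h
      have hle : Nat.card φ.range ∣ 2 := by
        refine (Subgroup.card_subgroup_dvd_card _).trans ?_
        rw [IsCyclic.card_mulAut, h3 P]
        rfl
      rcases (Nat.dvd_prime Nat.prime_two).1 hle with e | e <;> rw [e] at h <;>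
        rcases hm with rfl | rfl <;> omega
    obtain ⟨b, hb⟩ := exists_prime_orderOf_dvd_card' (G := φ.ker) 2 hker
    refine nocomm a b hao (by rw [Subgroup.orderOf_coe]; exact hb) ?_
    have := congrArg (fun e : MulAut (P : Subgroup G) => ((e ⟨a, ha⟩ : (P : Subgroup G)) : G))
      (MonoidHom.mem_ker.1 b.2)
    simp [φ, MulAut.conjNormal_apply] at this
    exact (mul_inv_eq_iff_eq_mul.1 this).symm
  have h4 : Nat.card (Sylow 3 G) = 4 := by
    have hle : Nat.card (Sylow 3 G) ≤ m := by
      have : 3 ≤ Nat.card (normalizer (P : Set G)) :=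
        (h3 P).symm.le.trans (Subgroup.card_le_of_le (Subgroup.le_normalizer))
      by_contra hh
      push Not at hh
      nlinarith
    unfold Nat.ModEq at hmod
    rcases hm with rfl | rfl
    · interval_cases h : Nat.card (Sylow 3 G) <;> omega
    · interval_cases h : Nat.card (Sylow 3 G) <;> omega
  refine ⟨h4, ?_⟩
  rw [← MonoidHom.ker_eq_bot_iff, Subgroup.eq_bot_iff_forall]
  have hker : ∀ x ∈ (MulAction.toPermHom G (Sylow 3 G)).ker, ∀ Q : Sylow 3 G,
      x ∈ normalizer (Q : Set G) := fun x hx Q => by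
    rw [← Sylow.smul_eq_iff_mem_normalizer]
    exact Equiv.Perm.ext_iff.1 (MonoidHom.mem_ker.1 hx) Q
  -- no element of order 3 acts trivially
  have no3 : ∀ j ∈ (MulAction.toPermHom G (Sylow 3 G)).ker, orderOf j ≠ 3 := by
    intro j hj hjo
    have hin : ∀ Q : Sylow 3 G, Subgroup.zpowers j = (Q : Subgroup G) := by
      intro Q
      have hle : Subgroup.zpowers j ≤ normalizer (Q : Set G) :=
        Subgroup.zpowers_le.2 (hker j hj Q)
      have hp : IsPGroup 3 (Subgroup.zpowers j) :=
        IsPGroup.of_card (n := 1) (by rw [Nat.card_zpowers, hjo, pow_one])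
      have := Q.3 (IsPGroup.to_sup_of_normal_right' hp Q.2 hle) le_sup_right
      refine Subgroup.eq_of_le_of_card_ge (le_sup_left.trans this.le) ?_
      rw [Nat.card_zpowers, hjo, h3 Q]
    have : Nat.card (Sylow 3 G) = 1 :=
      Nat.card_eq_one_iff_unique.2 ⟨⟨fun Q R => Sylow.ext ((hin Q).symm.trans (hin R))⟩,
        inferInstance⟩
    omega
  intro k hk
  by_contra hk1
  obtain ⟨r, hr, hrk⟩ := Nat.exists_prime_and_dvd (n := orderOf k)
    (fun h => hk1 (orderOf_eq_one_iff.1 h))
  set j : G := k ^ (orderOf k / r) with hj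
  have hjo : orderOf j = r := orderOf_pow_orderOf_div (orderOf_pos k).ne' hrk
  have hjk : j ∈ (MulAction.toPermHom G (Sylow 3 G)).ker := pow_mem hk _
  have hr23 : r = 2 ∨ r = 3 := by
    have : r ∣ 3 * m := hc ▸ hrk.trans (_root_.orderOf_dvd_natCard k)
    rcases (hr.dvd_mul).1 this with h | h
    · exact Or.inr ((Nat.prime_dvd_prime_iff_eq hr Nat.prime_three).1 h)
    · have : r ∣ 2 ^ 3 := h.trans (by rcases hm with rfl | rfl <;> norm_num)
      exact Or.inl ((Nat.prime_dvd_prime_iff_eq hr Nat.prime_two).1 (hr.dvd_of_dvd_pow this))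
  rcases hr23 with h | h
  · obtain ⟨a, ha, hao⟩ := exists_orderOf_sylow P (h3 P)
    have hc1 : a * j * a⁻¹ * j⁻¹ ∈ (MulAction.toPermHom G (Sylow 3 G)).ker :=
      mul_mem ((MonoidHom.normal_ker _).conj_mem _ hjk a) (inv_mem hjk)
    have hc2 : a * j * a⁻¹ * j⁻¹ ∈ (P : Subgroup G) := by
      rw [show a * j * a⁻¹ * j⁻¹ = a * (j * a⁻¹ * j⁻¹) by group]
      exact mul_mem ha ((Subgroup.mem_normalizer_iff.1 (hker j hjk P) _).1 (inv_mem ha))
    have hd : orderOf (a * j * a⁻¹ * j⁻¹) ∣ 3 := h3 P ▸ Subgroup.orderOf_dvd_natCard _ hc2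
    rcases (Nat.dvd_prime Nat.prime_three).1 hd with e | e
    · refine nocomm a j hao (hjo.trans h) ?_
      have e' : a * j * a⁻¹ * j⁻¹ = 1 := orderOf_eq_one_iff.1 e
      rw [mul_inv_eq_one, mul_inv_eq_iff_eq_mul] at e'
      exact e'
    · exact no3 _ hc1 e
  · exact no3 j hjk (hjo.trans h)

theorem equiv_alt_four (hc : Nat.card G = 12) (h6 : ∀ g : G, orderOf g ≠ 6) :
    Nonempty (G ≃* alternatingGroup (Fin 4)) := by
  obtain ⟨h4, hinj⟩ := sylow_three_data (G := G) (m := 4) (Or.inl rfl) hc h6
  let e : Sylow 3 G ≃ Fin 4 := Finite.equivFinOfCardEq h4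
  let ρ : G →* Equiv.Perm (Fin 4) :=
    e.permCongrHom.toMonoidHom.comp (MulAction.toPermHom G (Sylow 3 G))
  have hρ : Function.Injective ρ := e.permCongrHom.injective.comp hinj
  have hi : ρ.range.index = 2 := by
    have h := ρ.range.index_mul_card
    rw [← Nat.card_congr (MonoidHom.ofInjective hρ).toEquiv, Nat.card_perm, Nat.card_fin, hc] at h
    exact Nat.eq_of_mul_eq_mul_right (by norm_num : 0 < 12) h
  exact ⟨(MonoidHom.ofInjective hρ).trans
    (MulEquiv.subgroupCongr (Equiv.Perm.eq_alternatingGroup_of_index_eq_two hi))⟩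

theorem equiv_perm_four (hc : Nat.card G = 24) (h6 : ∀ g : G, orderOf g ≠ 6) :
    Nonempty (G ≃* Equiv.Perm (Fin 4)) := by
  obtain ⟨h4, hinj⟩ := sylow_three_data (G := G) (m := 8) (Or.inr rfl) hc h6
  let e : Sylow 3 G ≃ Fin 4 := Finite.equivFinOfCardEq h4
  exact ⟨MulEquiv.ofBijective (e.permCongrHom.toMonoidHom.comp (MulAction.toPermHom G (Sylow 3 G)))
    ((e.permCongrHom.injective.comp hinj).bijective_of_nat_card_le (by
      rw [hc, Nat.card_perm, Nat.card_fin]; rfl))⟩

/-- The five Sylow `2`-subgroups of a group of order `60` without elements of order `6`, `10`,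
`15`. -/
theorem equiv_alt_five (hc : Nat.card G = 60) (h : ∀ g : G, orderOf g ∉ ({6, 10, 15} : Finset ℕ)) :
    Nonempty (G ≃* alternatingGroup (Fin 5)) := by
  classical
  have : Fintype G := Fintype.ofFinite G
  haveI : Fact (Nat.Prime 5) := ⟨Nat.prime_five⟩
  have n6 : ∀ g : G, orderOf g ≠ 6 := fun g e => h g (by rw [e]; decide)
  have n10 : ∀ g : G, orderOf g ≠ 10 := fun g e => h g (by rw [e]; decide)
  have n15 : ∀ g : G, orderOf g ≠ 15 := fun g e => h g (by rw [e]; decide)
  have c3 : ∀ P : Sylow 3 G, Nat.card P = 3 :=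
    card_sylow_of_pow (n := 20) hc (by norm_num)
  have c5 : ∀ P : Sylow 5 G, Nat.card P = 5 :=
    card_sylow_of_pow (n := 12) hc (by norm_num)
  have c2 : ∀ P : Sylow 2 G, Nat.card P = 4 := fun P => by
    rw [P.card_eq_multiplicity, hc, show (60 : ℕ) = 2 ^ 2 * 15 from rfl,
      Nat.factorization_mul (by norm_num) (by norm_num)]
    simp [Nat.prime_two.factorization_self, Nat.factorization_eq_zero_of_not_dvd]
    rw [show (4 : ℕ) = 2 ^ 2 from rfl, Nat.prime_two.factorization_pow]; simp
  -- involutions only commute with 2-elements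
  have hC : ∀ i x : G, orderOf i = 2 → Commute i x → ∀ r, r.Prime → r ∣ orderOf x → r = 2 := by
    intro i x hi hix r hr hrx
    have hr' : r ∣ 2 ^ 2 * 3 * 5 := by
      have := hrx.trans (_root_.orderOf_dvd_natCard x)
      rwa [hc] at this
    rcases hr.dvd_mul.1 hr' with h' | h'
    · rcases hr.dvd_mul.1 h' with h'' | h''
      · exact (Nat.prime_dvd_prime_iff_eq hr Nat.prime_two).1 (hr.dvd_of_dvd_pow h'')
      · obtain rfl := (Nat.prime_dvd_prime_iff_eq hr Nat.prime_three).1 h''
        exact absurd (orderOf_mul_primes Nat.prime_two Nat.prime_three (by norm_num) hi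
          (orderOf_pow_orderOf_div (orderOf_pos x).ne' hrx) (hix.pow_right _)) (n6 _)
    · obtain rfl := (Nat.prime_dvd_prime_iff_eq hr Nat.prime_five).1 h'
      exact absurd (orderOf_mul_primes Nat.prime_two Nat.prime_five (by norm_num) hi
        (orderOf_pow_orderOf_div (orderOf_pos x).ne' hrx) (hix.pow_right _)) (n10 _)
  -- two Sylow 2-subgroups meet trivially
  have hTI : ∀ P Q : Sylow 2 G, ∀ x ∈ (P : Subgroup G), x ∈ (Q : Subgroup G) → x ≠ 1 → P = Q := by
    intro P Q x hxP hxQ hx
    set i := x ^ (orderOf x / 2) with hi'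
    have h2 : 2 ∣ orderOf x := by
      obtain ⟨k, hk⟩ := (Nat.dvd_prime_pow Nat.prime_two).1
        (show orderOf x ∣ 2 ^ 2 by
          have := Subgroup.orderOf_dvd_natCard _ hxP; rwa [c2 P] at this)
      rcases Nat.eq_zero_or_pos k with rfl | hk0
      · exact absurd (orderOf_eq_one_iff.1 (by simpa using hk.2)) hx
      · exact hk.2 ▸ dvd_pow_self 2 hk0.ne'
    have hio : orderOf i = 2 := orderOf_pow_orderOf_div (orderOf_pos x).ne' h2
    have hiP : i ∈ (P : Subgroup G) := pow_mem hxP _
    have hiQ : i ∈ (Q : Subgroup G) := pow_mem hxQ _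
    have hC2 : IsPGroup 2 (Subgroup.centralizer ({i} : Set G)) := by
      intro g
      have := hC i g hio (Subgroup.mem_centralizer_singleton_iff.1 g.2).symm
      refine ⟨(orderOf (g : G)).primeFactorsList.length, Subtype.ext ?_⟩
      rw [Subgroup.coe_pow, Subgroup.coe_one, ← orderOf_dvd_iff_pow_eq_one]
      exact dvd_of_eq (Nat.eq_prime_pow_of_unique_prime_dvd (orderOf_pos _).ne' fun {d} hd hdd =>
        this d hd hdd)
    have hle : ∀ R : Sylow 2 G, i ∈ (R : Subgroup G) →
        (R : Subgroup G) ≤ Subgroup.centralizer ({i} : Set G) := fun R hiR r hr => by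
      have : IsMulCommutative (R : Subgroup G) := by
        exact IsPGroup.isMulCommutative_of_card_eq_prime_sq (p := 2) (G := (R : Subgroup G))
          (by rw [c2 R]; rfl)
      exact Subgroup.mem_centralizer_singleton_iff.2
        (congrArg Subtype.val (mul_comm' (⟨r, hr⟩ : (R : Subgroup G)) ⟨i, hiR⟩))
    exact Sylow.ext ((P.3 hC2 (hle P hiP)).symm.trans (Q.3 hC2 (hle Q hiQ)))
  obtain ⟨P⟩ : Nonempty (Sylow 2 G) := inferInstance
  have hidx : Nat.card (Sylow 2 G) * Nat.card (normalizer (P : Set G)) = 60 := by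
    rw [P.card_eq_index_normalizer, ← hc]
    exact Subgroup.index_mul_card _
  obtain ⟨f5, hf5⟩ := exists_prime_orderOf_dvd_card' (G := G) 5 (by rw [hc]; norm_num)
  obtain ⟨t3, ht3⟩ := exists_prime_orderOf_dvd_card' (G := G) 3 (by rw [hc]; norm_num)
  -- an element of order 5 fixes no Sylow 2-subgroup
  have hfix5 : ∀ R : Sylow 2 G, ∀ f : G, orderOf f = 5 → f ∉ normalizer (R : Set G) := by
    intro R f hf hfn
    let φ : normalizer (R : Set G) →* MulAut (R : Subgroup G) :=
      (R : Subgroup G).normalizerMonoidHom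
    obtain ⟨a, ha, hao⟩ : ∃ a ∈ (R : Subgroup G), orderOf a = 2 := by
      obtain ⟨a, ha⟩ := exists_prime_orderOf_dvd_card' (G := R) 2 (by
        show 2 ∣ Nat.card R
        rw [c2 R]; norm_num)
      exact ⟨a, a.2, by rw [Subgroup.orderOf_coe]; exact ha⟩
    -- an automorphism of a group of order 4 of order 5 is trivial
    have h1 : φ ⟨f, hfn⟩ = 1 := by
      have hd : orderOf (φ ⟨f, hfn⟩) ∣ 5 := by
        have := orderOf_map_dvd φ ⟨f, hfn⟩
        rwa [Subgroup.orderOf_mk, hf] at this
      rcases (Nat.dvd_prime Nat.prime_five).1 hd with e | e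
      · exact orderOf_eq_one_iff.1 e
      · exfalso
        let π : MulAut (R : Subgroup G) →* Equiv.Perm (R : Subgroup G) := MulAut.toPerm _
        have hπ : Function.Injective π := fun a b hab => MulEquiv.ext fun x =>
          Equiv.Perm.ext_iff.1 hab x
        have := _root_.orderOf_dvd_natCard (π (φ ⟨f, hfn⟩))
        rw [orderOf_injective π hπ, e, Nat.card_perm] at this
        rw [show Nat.card (R : Subgroup G) = 4 from c2 R] at this
        norm_num [Nat.factorial] at this
    have := congrArg (fun e : MulAut (R : Subgroup G) => ((e ⟨a, ha⟩ : (R : Subgroup G)) : G)) h1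
    simp [φ] at this
    have hcm : Commute a f := (mul_inv_eq_iff_eq_mul.1 this).symm
    exact n10 _ (orderOf_mul_primes Nat.prime_two Nat.prime_five (by norm_num) hao hf hcm)
  -- hence five divides the number of Sylow 2-subgroups
  have h5 : 5 ∣ Nat.card (Sylow 2 G) := by
    have hP5 : IsPGroup 5 (Subgroup.zpowers f5) :=
      IsPGroup.of_card (n := 1) (by rw [Nat.card_zpowers, hf5, pow_one])
    have := hP5.card_modEq_card_fixedPoints (α := Sylow 2 G)
    have h0 : Nat.card (MulAction.fixedPoints (Subgroup.zpowers f5) (Sylow 2 G)) = 0 := by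
      rw [Nat.card_eq_zero]
      refine Or.inl ⟨fun R => hfix5 R.1 f5 hf5 ?_⟩
      rw [← Sylow.smul_eq_iff_mem_normalizer]
      exact R.2 ⟨f5, Subgroup.mem_zpowers _⟩
    rw [h0] at this
    exact (Nat.modEq_zero_iff_dvd).1 this
  have hdvd15 : Nat.card (Sylow 2 G) ∣ 15 := by
    have h1 := P.card_dvd_index
    have h2 : (P : Subgroup G).index = 15 := by
      have := (P : Subgroup G).index_mul_card
      rw [hc, show Nat.card (P : Subgroup G) = 4 from c2 P] at this
      omega
    rwa [h2] at h1
  have h5' : Nat.card (Sylow 2 G) = 5 := by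
    have h15 : Nat.card (Sylow 2 G) ≠ 15 := by
      intro h15
      have hN : normalizer (P : Set G) = (P : Subgroup G) := by
        refine (Subgroup.eq_of_le_of_card_ge Subgroup.le_normalizer ?_).symm
        have e1 : Nat.card (normalizer (P : Set G)) = 4 := by
          have := hidx
          rw [h15] at this
          omega
        exact le_of_eq (e1.trans (c2 P).symm)
      have hPc : IsMulCommutative (P : Subgroup G) :=
        IsPGroup.isMulCommutative_of_card_eq_prime_sq (p := 2) (G := (P : Subgroup G))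
          (by rw [c2 P]; rfl)
      have hle : normalizer (P : Set G) ≤ Subgroup.centralizer (P : Set G) := by
        rw [hN]
        intro x hx y hy
        exact congrArg Subtype.val (mul_comm' (⟨y, hy⟩ : (P : Subgroup G)) ⟨x, hx⟩)
      set K := (MonoidHom.transferSylow P hle).ker
      have hK := MonoidHom.ker_transferSylow_isComplement' P hle
      have hK15 : Nat.card K = 15 := by
        have e := hK.card_mul
        have e4 := c2 P
        change Nat.card K * _ = _ at e
        rw [hc] at e
        generalize Nat.card K = a at e ⊢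
        have : a * 4 = 60 := by rw [← e4]; exact e
        omega
      obtain ⟨R⟩ : Nonempty (Sylow 5 K) := inferInstance
      have hR : Nat.card R = 5 := card_sylow_of_pow (n := 3) hK15 (by norm_num) R
      have hR1 : Nat.card (Sylow 5 K) = 1 := by
        have h3' : Nat.card (Sylow 5 K) ∣ 3 := by
          have h1 := R.card_dvd_index
          have := (R : Subgroup K).index_mul_card
          rw [show Nat.card (R : Subgroup K) = 5 from hR, hK15] at this
          rwa [show (R : Subgroup K).index = 3 by omega] at h1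
        have hm := card_sylow_modEq_one 5 K
        rcases (Nat.dvd_prime Nat.prime_three).1 h3' with e | e
        · exact e
        · rw [e] at hm; exact absurd hm (by decide)
      have : Subsingleton (Sylow 5 K) := (Nat.card_eq_one_iff_unique.1 hR1).1
      have : (R : Subgroup K).Normal := inferInstance
      obtain ⟨a, ha, hao⟩ := exists_orderOf_sylow R hR
      obtain ⟨b, hb⟩ := exists_prime_orderOf_dvd_card' (G := K) 3 (by rw [hK15]; norm_num)
      have hcm := commute_of_normalizes (r := 5) (s := 3) Nat.prime_five Nat.prime_three hR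
        (by norm_num) ha hb (by rw [Subgroup.normalizer_eq_top]; trivial)
      refine n15 ((a * b : K) : G) ?_
      rw [Subgroup.orderOf_coe]
      exact orderOf_mul_primes (r := 5) (s := 3) Nat.prime_five Nat.prime_three (by norm_num) hao hb hcm
    have hle15 := Nat.le_of_dvd (by norm_num) hdvd15
    obtain ⟨c, hc'⟩ := h5
    have h0 : 0 < Nat.card (Sylow 2 G) := Nat.card_pos
    rcases (show c = 1 ∨ c = 2 ∨ c = 3 by omega) with rfl | rfl | rfl
    · exact hc'
    · rw [hc'] at hdvd15; norm_num at hdvd15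
    · exact absurd hc' h15
  let e : Sylow 2 G ≃ Fin 5 := Finite.equivFinOfCardEq h5'
  let ρ : G →* Equiv.Perm (Fin 5) :=
    e.permCongrHom.toMonoidHom.comp (MulAction.toPermHom G (Sylow 2 G))
  have hρ : Function.Injective ρ := by
    refine e.permCongrHom.injective.comp ?_
    rw [← MonoidHom.ker_eq_bot_iff, Subgroup.eq_bot_iff_forall]
    intro k hk
    have hker : ∀ x ∈ (MulAction.toPermHom G (Sylow 2 G)).ker, ∀ Q : Sylow 2 G,
        x ∈ normalizer (Q : Set G) := fun x hx Q => by
      rw [← Sylow.smul_eq_iff_mem_normalizer]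
      exact Equiv.Perm.ext_iff.1 (MonoidHom.mem_ker.1 hx) Q
    set N := (MulAction.toPermHom G (Sylow 2 G)).ker with hNdef
    have hno : ∀ j ∈ N, orderOf j ≠ 2 ∧ orderOf j ≠ 5 := by
      refine fun j hj => ⟨fun hjo => ?_, fun hjo => hfix5 P j hjo (hker j hj P)⟩
      have hin : ∀ R : Sylow 2 G, j ∈ (R : Subgroup G) := by
        intro R
        have hle : Subgroup.zpowers j ≤ normalizer (R : Set G) :=
          Subgroup.zpowers_le.2 (hker j hj R)
        have hp : IsPGroup 2 (Subgroup.zpowers j) :=
          IsPGroup.of_card (n := 1) (by rw [Nat.card_zpowers, hjo, pow_one])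
        have := R.3 (IsPGroup.to_sup_of_normal_right' hp R.2 hle) le_sup_right
        exact (le_sup_left.trans this.le) (Subgroup.mem_zpowers j)
      have hj1 : j ≠ 1 := fun e => by rw [e, orderOf_one] at hjo; norm_num at hjo
      have : Nat.card (Sylow 2 G) = 1 := Nat.card_eq_one_iff_unique.2
        ⟨⟨fun Q R => hTI Q R j (hin Q) (hin R) hj1⟩, inferInstance⟩
      omega
    have hN3 : IsPGroup 3 N := by
      intro g
      refine ⟨(orderOf (g : G)).primeFactorsList.length, Subtype.ext ?_⟩
      rw [Subgroup.coe_pow, Subgroup.coe_one, ← orderOf_dvd_iff_pow_eq_one]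
      refine dvd_of_eq (Nat.eq_prime_pow_of_unique_prime_dvd (orderOf_pos _).ne' fun {d} hd hdd => ?_)
      have hj := hno _ (pow_mem g.2 (orderOf (g : G) / d))
      rw [orderOf_pow_orderOf_div (orderOf_pos _).ne' hdd] at hj
      have hd' : d ∣ 2 ^ 2 * 3 * 5 := by
        have := hdd.trans (_root_.orderOf_dvd_natCard (g : G))
        rwa [hc] at this
      rcases hd.dvd_mul.1 hd' with h' | h'
      · rcases hd.dvd_mul.1 h' with h'' | h''
        · exact absurd ((Nat.prime_dvd_prime_iff_eq hd Nat.prime_two).1 (hd.dvd_of_dvd_pow h'')) hj.1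
        · exact (Nat.prime_dvd_prime_iff_eq hd Nat.prime_three).1 h''
      · exact absurd ((Nat.prime_dvd_prime_iff_eq hd Nat.prime_five).1 h') hj.2
    by_contra hk1
    obtain ⟨T, hT⟩ := hN3.exists_le_sylow
    have hN : Nat.card N = 3 := by
      have h1 := Subgroup.card_dvd_of_le hT
      rw [show Nat.card (T : Subgroup G) = 3 from c3 T] at h1
      rcases (Nat.dvd_prime Nat.prime_three).1 h1 with e | e
      · rw [Subgroup.card_eq_one] at e
        exact absurd (show k ∈ (⊥ : Subgroup G) from e ▸ hk) (by simpa using hk1)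
      · exact e
    obtain ⟨j, hj⟩ := exists_prime_orderOf_dvd_card' (G := N) 3 (dvd_of_eq hN.symm)
    have hnn : N.Normal := MonoidHom.normal_ker _
    have hcm := commute_of_normalizes (r := 3) (s := 5) Nat.prime_three Nat.prime_five hN
      (by norm_num) j.2 hf5 (by rw [Subgroup.normalizer_eq_top]; trivial)
    exact n15 _ (orderOf_mul_primes (r := 3) (s := 5) Nat.prime_three Nat.prime_five (by norm_num)
      (by rw [Subgroup.orderOf_coe]; exact hj) hf5 hcm)
  have hi : ρ.range.index = 2 := by
    have h := ρ.range.index_mul_card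
    rw [← Nat.card_congr (MonoidHom.ofInjective hρ).toEquiv, Nat.card_perm, Nat.card_fin, hc] at h
    exact Nat.eq_of_mul_eq_mul_right (by norm_num : 0 < 60) h
  exact ⟨(MonoidHom.ofInjective hρ).trans
    (MulEquiv.subgroupCongr (Equiv.Perm.eq_alternatingGroup_of_index_eq_two hi))⟩

end Cfsg.Agent.MaxSub.Dickson
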