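import Cfsg.Agent.MaxSub.Dickson.Count
import Mathlib.Tactic.IntervalCases

/-!
The case division of Dickson's classification for an abstract rotation action.
-/

set_option autoImplicit false
set_option linter.unusedSectionVars false

namespace Cfsg.Agent.MaxSub.Dickson

open MulAction

/-- Solving the orbit equation with three orbits. -/
theorem three_orbit_arith {g o₁ o₂ o₃ h₁ h₂ h₃ : ℕ} (e₁ : o₁ * h₁ = g) (e₂ : o₂ * h₂ = g)
    (e₃ : o₃ * h₃ = g) (t₁ : 2 ≤ h₁) (t₂ : 2 ≤ h₂) (t₃ : 2 ≤ h₃) (hs : o₁ + o₂ + o₃ = g + 2) :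
    o₁ = 2 ∨ o₂ = 2 ∨ o₃ = 2 ∨ ((g = 12 ∨ g = 24 ∨ g = 60) ∧
      (h₁ = 2 ∨ h₁ = 3 ∨ h₁ = 4 ∨ h₁ = 5) ∧ (h₂ = 2 ∨ h₂ = 3 ∨ h₂ = 4 ∨ h₂ = 5) ∧
      (h₃ = 2 ∨ h₃ = 3 ∨ h₃ = 4 ∨ h₃ = 5)) := by
  -- the case where the first stabiliser has order two and the second at most three
  have main : ∀ o₁ o₂ o₃ h₁ h₂ h₃ : ℕ, o₁ * h₁ = g → o₂ * h₂ = g → o₃ * h₃ = g → 2 ≤ h₂ → 2 ≤ h₃ →
      o₁ + o₂ + o₃ = g + 2 → h₁ = 2 → h₂ ≤ 3 →
      o₂ = 2 ∨ o₃ = 2 ∨ ((g = 12 ∨ g = 24 ∨ g = 60) ∧ h₂ = 3 ∧ (h₃ = 3 ∨ h₃ = 4 ∨ h₃ = 5)) := by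
    intro o₁ o₂ o₃ h₁ h₂ h₃ e₁ e₂ e₃ t₂ t₃ hs h₁2 h₂3
    subst h₁2
    interval_cases h₂
    · right; left; omega
    · have h6 : h₃ < 6 := by
        by_contra hh
        push Not at hh
        have : o₃ * 6 ≤ g := e₃ ▸ Nat.mul_le_mul_left _ hh
        omega
      interval_cases h₃ <;> omega
  have small : ∀ o₁ o₂ o₃ h₁ h₂ h₃ : ℕ, o₁ * h₁ = g → o₂ * h₂ = g → o₃ * h₃ = g → 2 ≤ h₂ → 2 ≤ h₃ →
      o₁ + o₂ + o₃ = g + 2 → h₁ = 2 → o₂ = 2 ∨ o₃ = 2 ∨ ((g = 12 ∨ g = 24 ∨ g = 60) ∧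
        (h₂ = 3 ∨ h₂ = 4 ∨ h₂ = 5) ∧ (h₃ = 3 ∨ h₃ = 4 ∨ h₃ = 5)) := by
    intro o₁ o₂ o₃ h₁ h₂ h₃ e₁ e₂ e₃ t₂ t₃ hs h₁2
    by_cases h₂3 : h₂ ≤ 3
    · rcases main o₁ o₂ o₃ h₁ h₂ h₃ e₁ e₂ e₃ t₂ t₃ hs h₁2 h₂3 with h | h | ⟨hg, h, h'⟩
      · exact Or.inl h
      · exact Or.inr (Or.inl h)
      · exact Or.inr (Or.inr ⟨hg, Or.inl h, h'⟩)
    by_cases h₃3 : h₃ ≤ 3
    · rcases main o₁ o₃ o₂ h₁ h₃ h₂ e₁ e₃ e₂ t₃ t₂ (by omega) h₁2 h₃3 with h | h | ⟨hg, h, h'⟩
      · exact Or.inr (Or.inl h)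
      · exact Or.inl h
      · exact Or.inr (Or.inr ⟨hg, h', Or.inl h⟩)
    exfalso
    subst h₁2
    have a2 : o₂ * 4 ≤ g := e₂ ▸ Nat.mul_le_mul_left _ (by omega)
    have a3 : o₃ * 4 ≤ g := e₃ ▸ Nat.mul_le_mul_left _ (by omega)
    omega
  by_cases a₁ : h₁ = 2
  · rcases small o₁ o₂ o₃ h₁ h₂ h₃ e₁ e₂ e₃ t₂ t₃ hs a₁ with h | h | ⟨hg, h, h'⟩
    · exact Or.inr (Or.inl h)
    · exact Or.inr (Or.inr (Or.inl h))
    · exact Or.inr (Or.inr (Or.inr ⟨hg, by omega, by omega, by omega⟩))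
  by_cases a₂ : h₂ = 2
  · rcases small o₂ o₁ o₃ h₂ h₁ h₃ e₂ e₁ e₃ t₁ t₃ (by omega) a₂ with h | h | ⟨hg, h, h'⟩
    · exact Or.inl h
    · exact Or.inr (Or.inr (Or.inl h))
    · exact Or.inr (Or.inr (Or.inr ⟨hg, by omega, by omega, by omega⟩))
  by_cases a₃ : h₃ = 2
  · rcases small o₃ o₁ o₂ h₃ h₁ h₂ e₃ e₁ e₂ t₁ t₂ (by omega) a₃ with h | h | ⟨hg, h, h'⟩
    · exact Or.inl h
    · exact Or.inr (Or.inl h)
    · exact Or.inr (Or.inr (Or.inr ⟨hg, by omega, by omega, by omega⟩))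
  exfalso
  have b1 : o₁ * 3 ≤ g := e₁ ▸ Nat.mul_le_mul_left _ (by omega)
  have b2 : o₂ * 3 ≤ g := e₂ ▸ Nat.mul_le_mul_left _ (by omega)
  have b3 : o₃ * 3 ≤ g := e₃ ▸ Nat.mul_le_mul_left _ (by omega)
  omega

/-- Solving the orbit equation in the presence of elements of order `p`. -/
theorem parabolic_arith {g n k q₀ o h a : ℕ} (hg : g = n * (q₀ * k)) (hn : n = 1 + a * q₀)
    (ha : 1 ≤ a) (ho : o + 2 * n = n * q₀ + 2) (hoh : o * h = g) (hk : k ∣ q₀ - 1) (hq : 2 ≤ q₀) :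
    q₀ = 2 ∨ (q₀ = 3 ∧ ((g = 12 ∧ h = 2 ∧ k = 1) ∨ (g = 24 ∧ h = 4 ∧ k = 2) ∨
      (g = 60 ∧ h = 5 ∧ k = 2))) ∨ (4 ≤ q₀ ∧ n = q₀ + 1 ∧ (k = q₀ - 1 ∨ 2 * k = q₀ - 1)) := by
  obtain ⟨m, rfl⟩ : ∃ m, q₀ = m + 2 := ⟨q₀ - 2, by omega⟩
  have ho' : o = (m + 2) * (1 + a * m) := by
    subst hn
    have : o + 2 * (1 + a * (m + 2)) = (m + 2) * (1 + a * m) + 2 * (1 + a * (m + 2)) := by
      rw [ho]; ring
    omega
  have hD : (1 + a * m) * h = n * k := by
    have e : (m + 2) * ((1 + a * m) * h) = (m + 2) * (n * k) := by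
      rw [← mul_assoc, ← ho', hoh, hg]; ring
    exact Nat.eq_of_mul_eq_mul_left (by omega) e
  have hdvd : 1 + a * m ∣ 2 * k := by
    have h1 : 1 + a * m ∣ (1 + a * m) * k + 2 * a * k :=
      ⟨h, by rw [hD, hn]; ring⟩
    have h2 : 1 + a * m ∣ a * (2 * k) := by
      have := (Nat.dvd_add_right (dvd_mul_right _ _)).1 h1
      rwa [show 2 * a * k = a * (2 * k) by ring] at this
    refine (Nat.Coprime.dvd_of_dvd_mul_left ?_ h2)
    rw [mul_comm, Nat.coprime_add_mul_right_left]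
    exact Nat.coprime_one_left a
  have hk1 : m + 1 = m + 2 - 1 := by omega
  rw [← hk1] at hk ⊢
  have hkle : k ≤ m + 1 := Nat.le_of_dvd (by omega) hk
  have hk0 : 0 < k := by
    rcases Nat.eq_zero_or_pos k with rfl | h0
    · exact absurd (zero_dvd_iff.1 hk) (by omega)
    · exact h0
  have hle := Nat.le_of_dvd (by omega) hdvd
  rcases Nat.lt_or_ge m 2 with hm | hm
  · interval_cases m
    · exact Or.inl rfl
    · refine Or.inr (Or.inl ⟨rfl, ?_⟩)
      have ha3 : a ≤ 3 := by omega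
      interval_cases k <;> interval_cases a <;> norm_num at hdvd <;> subst hn <;> omega
  · refine Or.inr (Or.inr ⟨by omega, ?_⟩)
    have ha2 : a ≤ 2 := by
      by_contra hh
      have : 3 * m ≤ a * m := Nat.mul_le_mul_right _ (by omega)
      omega
    interval_cases a
    · refine ⟨by omega, ?_⟩
      obtain ⟨c, hc⟩ := hdvd
      have hc2 : c ≤ 2 := by
        by_contra hh
        have : (1 + 1 * m) * 3 ≤ (1 + 1 * m) * c := Nat.mul_le_mul_left _ (by omega)
        omega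
      interval_cases c <;> omega
    · exfalso
      obtain ⟨c, hc⟩ := hdvd
      have hc1 : c ≤ 1 := by
        by_contra hh
        have : (1 + 2 * m) * 2 ≤ (1 + 2 * m) * c := Nat.mul_le_mul_left _ (by omega)
        omega
      interval_cases c <;> omega

variable {p : ℕ} [hp : Fact p.Prime] {G X : Type*} [Group G] [Finite G] [MulAction G X]

/-- An element of order divisible by `p` has order `p`. -/
theorem Rot.orderOf_eq (hR : Rot p G X) {g : G} (h : p ∣ orderOf g) : orderOf g = p := by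
  by_contra hne
  have hgp : g ^ p ≠ 1 := fun e => hne (Nat.dvd_antisymm (orderOf_dvd_of_pow_eq_one e) h)
  have hg1 : g ≠ 1 := fun e => hgp (by rw [e, one_pow])
  obtain ⟨a, ha⟩ := hR.fix g
  obtain ⟨b, hb, hb'⟩ := hR.two g hgp a ha
  set w := g ^ (orderOf g / p)
  have hw : orderOf w = p := orderOf_pow_orderOf_div (orderOf_pos g).ne' h
  have hfix : ∀ x : X, g • x = x → w • x = x := fun x hx => by
    have : g ∈ stabilizer G x := hx
    exact (pow_mem this _ : w ∈ stabilizer G x)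
  refine hb (hR.one w (fun e => ?_) (by rw [← hw, pow_orderOf_eq_one]) b a (hfix b hb') (hfix a ha))
  rw [e, orderOf_one] at hw
  exact hp.out.one_lt.ne hw

theorem two_le_card_stabilizer {x : X} (hx : x ∈ special G X) :
    2 ≤ Nat.card (stabilizer G x) :=
  (Subgroup.one_lt_card_iff_ne_bot _).2 hx

/-- Every non-trivial element has order dividing the stabiliser order of a special point. -/
theorem Rot.orderOf_dvd_stabilizer (hR : Rot p G X) {g : G} (hg : g ≠ 1) :
    ∃ x ∈ special G X, orderOf g ∣ Nat.card (stabilizer G x) := by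
  obtain ⟨x, hx⟩ := hR.fix g
  exact ⟨x, mem_special_iff.2 ⟨g, hg, hx⟩, Subgroup.orderOf_dvd_natCard _ hx⟩

theorem card_stabilizer_orbit {x y : X} (h : y ∈ orbit G x) :
    Nat.card (stabilizer G y) = Nat.card (stabilizer G x) := by
  obtain ⟨g, rfl⟩ := h
  exact Nat.card_congr (stabilizerEquivStabilizer (g := g) rfl).symm.toEquiv

/-- The five outcomes of the orbit count. -/
def Outcome (p : ℕ) (G X : Type*) [Group G] [MulAction G X] : Prop :=
  ((∃ a b : X, a ≠ b ∧ ∀ g : G, g • a = a ∧ g • b = b) ∧ ¬ p ∣ Nat.card G) ∨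
  (∃ a b : X, a ≠ b ∧ orbit G a = {a, b} ∧ 2 ≤ Nat.card (stabilizer G a) ∧
    ¬ p ∣ Nat.card (stabilizer G a) ∧ Nat.card G = 2 * Nat.card (stabilizer G a)) ∨
  ((∃ a : X, ∀ g : G, g • a = a) ∧ p ∣ Nat.card G) ∨
  (p ≠ 2 ∧ (Nat.card G = 12 ∨ Nat.card G = 24 ∨ Nat.card G = 60) ∧
    ∀ g : G, orderOf g ∉ ({6, 10, 15} : Finset ℕ)) ∨
  (∃ (y : X) (P : Subgroup G) (k : ℕ), (∀ g, g ∈ P ↔ g • y = y ∧ g ^ p = 1) ∧ 4 ≤ Nat.card P ∧
    (orbit G y).ncard = Nat.card P + 1 ∧ Nat.card (stabilizer G y) = Nat.card P * k ∧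
    (k = Nat.card P - 1 ∨ 2 * k = Nat.card P - 1))

theorem pair_outcome {x : X} (hx : x ∈ special G X) (h2 : (orbit G x).ncard = 2)
    (hpx : ¬ p ∣ Nat.card (stabilizer G x)) : Outcome p G X := by
  obtain ⟨a, b, hab, he⟩ := Set.ncard_eq_two.1 h2
  have hax : a ∈ orbit G x := by rw [he]; simp
  refine Or.inr (Or.inl ⟨a, b, hab, by rw [orbit_eq_iff.2 hax, he], ?_, ?_, ?_⟩)
  · exact two_le_card_stabilizer (orbit_special hx hax)
  · rwa [card_stabilizer_orbit hax]
  · rw [card_stabilizer_orbit hax, ← card_orbit_mul (G := G) x, h2]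

theorem Rot.outcome (hR : Rot p G X) (hG : 1 < Nat.card G) : Outcome p G X := by
  classical
  set S := hR.special_finite.toFinset with hS
  have hSinv : ∀ x ∈ S, ∀ g : G, g • x ∈ S := fun x hx g => by
    rw [hS, Set.Finite.mem_toFinset] at hx ⊢
    exact orbit_special hx ⟨g, rfl⟩
  have hW := hR.weight_special
  rw [← hS] at hW
  have hsp : ∀ {x : X}, x ∈ S → x ∈ special G X := fun hx => by
    rwa [hS, Set.Finite.mem_toFinset] at hx
  have mem_S : ∀ {g : G}, g ≠ 1 → ∃ x ∈ S, orderOf g ∣ Nat.card (stabilizer G x) := fun hg => by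
    obtain ⟨x, hx, hd⟩ := hR.orderOf_dvd_stabilizer hg
    exact ⟨x, by rw [hS, Set.Finite.mem_toFinset]; exact hx, hd⟩
  have hob : ∀ x : X, (orbit G x).ncard ≤ Nat.card G ∧ 0 < (orbit G x).ncard := fun x => by
    have h := card_orbit_mul (G := G) x
    have h0 : 0 < Nat.card (stabilizer G x) := Nat.card_pos
    refine ⟨h ▸ Nat.le_mul_of_pos_right _ h0, ?_⟩
    rcases Nat.eq_zero_or_pos (orbit G x).ncard with e | e
    · rw [e, zero_mul] at h; exact absurd h Nat.card_pos.ne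
    · exact e
  have hob2 : ∀ {x : X}, x ∈ S → (orbit G x).ncard * 2 ≤ Nat.card G := fun {x} hx =>
    (card_orbit_mul (G := G) x) ▸ Nat.mul_le_mul_left _ (two_le_card_stabilizer (hsp hx))
  have split : ∀ {s t : Finset X}, (∀ z ∈ s, z ∈ S) → t ⊆ s → (∀ z ∈ t, z ∈ S) :=
    fun h ht z hz => h z (ht hz)
  by_cases hpG : p ∣ Nat.card G
  · obtain ⟨y, P, hPy, hP, hP1, -, -, horb, hcount⟩ := hR.exists_center hpG
    set n := (orbit G y).ncard with hn
    by_cases hn1 : n = 1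
    · refine Or.inr (Or.inr (Or.inl ⟨⟨y, fun g => ?_⟩, hpG⟩))
      obtain ⟨z, hz⟩ := Set.ncard_eq_one.1 (hn ▸ hn1)
      have h1 : g • y ∈ orbit G y := ⟨g, rfl⟩
      have h2 : y ∈ orbit G y := mem_orbit_self y
      rw [hz, Set.mem_singleton_iff] at h1 h2
      rw [h1, h2]
    set k := P.relIndex (stabilizer G y) with hkdef
    have hkP : Nat.card (stabilizer G y) = Nat.card P * k := by
      rw [hkdef, Subgroup.relIndex, mul_comm,
        ← Nat.card_congr (Subgroup.subgroupOfEquivOfLe hPy).toEquiv, Subgroup.index_mul_card]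
    have hg : Nat.card G = n * (Nat.card P * k) := by
      rw [← hkP]; exact (card_orbit_mul y).symm
    obtain ⟨a, ha⟩ := hR.orbit_card_mod hP
    rw [← hn] at ha
    have ha1 : 1 ≤ a := by
      rcases Nat.eq_zero_or_pos a with rfl | h
      · simp at ha; exact absurd ha hn1
      · exact h
    have hyS : y ∈ S := by
      rw [hS, Set.Finite.mem_toFinset]
      intro hbot
      have h1 : Nat.card P ≤ 1 := by
        have := Subgroup.card_le_of_le hPy
        rwa [hbot, Subgroup.card_bot] at this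
      omega
    obtain ⟨t, hts, htinv, htmem, hwt⟩ := weight_step hSinv hyS
    rw [hcount, hwt, ← hn] at hW
    have hnsum : Nat.card G - n + weight G t + n * (Nat.card P - 1)
        = 2 * (Nat.card G - 1) := hW
    have hn0 := hob y
    have hnq : n * (Nat.card P - 1) + n = n * Nat.card P := by
      rw [← Nat.mul_succ]; congr 1; omega
    rcases t.eq_empty_or_nonempty with rfl | ⟨z, hz⟩
    · exfalso
      simp only [weight, Finset.sum_empty] at hnsum
      have h2 : n * 2 ≤ n * Nat.card P := Nat.mul_le_mul_left _ hP1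
      rcases Nat.lt_or_ge k 2 with hk | hk
      · interval_cases k
        · simp at hg; omega
        · rw [mul_one] at hg; omega
      · have : n * Nat.card P * 2 ≤ Nat.card G := by
          rw [hg, ← mul_assoc]; exact Nat.mul_le_mul_left _ hk
        omega
    obtain ⟨t', ht't, -, ht'mem, hwt'⟩ := weight_step htinv hz
    have hzS : z ∈ S := hts hz
    set o := (orbit G z).ncard with ho
    rw [hwt'] at hnsum
    have hoh := card_orbit_mul (G := G) z
    rw [← ho] at hoh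
    have ht'0 : t' = ∅ := by
      by_contra hne
      obtain ⟨w, hw⟩ := Finset.nonempty_iff_ne_empty.2 hne
      obtain ⟨t'', -, -, -, hwt''⟩ := weight_step (s := t')
        (fun v hv g => (ht'mem _ (htinv v (ht't hv) g)).2 fun hh => (ht'mem v (ht't hv)).1 hv
          ((orbit_eq_iff.2 hh) ▸ (show v ∈ orbit G (g • v) from ⟨g⁻¹, inv_smul_smul g v⟩))) hw
      have := hob2 hzS
      have := hob2 (x := w) (hts (ht't hw))
      have : n * 2 ≤ n * Nat.card P := Nat.mul_le_mul_left _ hP1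
      omega
    subst ht'0
    simp only [weight, Finset.sum_empty, add_zero] at hnsum
    have hoeq : o + 2 * n = n * Nat.card P + 2 := by
      have := (hob z).1
      omega
    have hznp : ¬ p ∣ Nat.card (stabilizer G z) := by
      intro hd
      obtain ⟨w, hw⟩ := exists_prime_orderOf_dvd_card' (G := stabilizer G z) p hd
      have hwo : orderOf (w : G) = p := by rw [Subgroup.orderOf_coe]; exact hw
      have hw1 : (w : G) ≠ 1 := fun e => by
        rw [e, orderOf_one] at hwo; exact hp.out.one_lt.ne hwo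
      exact (htmem z (hts hz)).1 hz
        (horb w hw1 (orderOf_dvd_iff_pow_eq_one.1 hwo.dvd) z w.2)
    rcases parabolic_arith hg ha ha1 hoeq hoh (hR.index_dvd hP) hP1 with hq | ⟨hq, hrest⟩ | ⟨hq, h1, h2⟩
    · refine pair_outcome (x := z) (hsp hzS) ?_ hznp
      rw [hq] at hoeq
      omega
    · have hp3 : p = 3 := by
        have hd : p ∣ Nat.card P := by
          obtain ⟨e, he⟩ := IsPGroup.iff_card.1 (show IsPGroup p P from fun g =>
            ⟨1, Subtype.ext (by rw [pow_one]; exact ((hP g).1 g.2).2)⟩)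
          rcases Nat.eq_zero_or_pos e with rfl | e0
          · rw [pow_zero] at he; omega
          · exact he ▸ dvd_pow_self p e0.ne'
        rw [hq] at hd
        exact (Nat.prime_dvd_prime_iff_eq hp.out Nat.prime_three).1 hd
      refine Or.inr (Or.inr (Or.inr (Or.inl ⟨by omega, by omega, fun g hg' => ?_⟩)))
      simp only [Finset.mem_insert, Finset.mem_singleton] at hg'
      have hg1 : g ≠ 1 := fun e => by rw [e, orderOf_one] at hg'; omega
      obtain ⟨x, hx, hd⟩ := mem_S hg1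
      by_cases hxy : x ∈ orbit G y
      · rw [card_stabilizer_orbit hxy, hkP, hq] at hd
        have h6 : orderOf g = 6 := by
          have : k ≤ 2 := by omega
          have := Nat.le_of_dvd (by omega) hd
          omega
        have := hR.orderOf_eq (g := g) (by rw [h6, hp3]; norm_num)
        omega
      · have hxz : x ∈ orbit G z := by
          have hxt := (htmem x hx).2 hxy
          by_contra hne
          exact Finset.notMem_empty x ((ht'mem x hxt).2 hne)
        rw [card_stabilizer_orbit hxz] at hd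
        have := Nat.le_of_dvd Nat.card_pos hd
        omega
    · exact Or.inr (Or.inr (Or.inr (Or.inr ⟨y, P, k, hP, hq, h1, hkP, h2⟩)))
  · have hpar : {g : G | g ≠ 1 ∧ g ^ p = 1}.ncard = 0 := by
      rw [Set.ncard_eq_zero, Set.eq_empty_iff_forall_notMem]
      rintro g ⟨hg1, hgp⟩
      rcases hp.out.eq_one_or_self_of_dvd _ (orderOf_dvd_of_pow_eq_one hgp) with h | h
      · exact hg1 (orderOf_eq_one_iff.1 h)
      · exact hpG (h ▸ _root_.orderOf_dvd_natCard g)
    rw [hpar, add_zero] at hW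
    have hnps : ∀ x : X, ¬ p ∣ Nat.card (stabilizer G x) := fun x h =>
      hpG (h.trans (Subgroup.card_subgroup_dvd_card _))
    rcases S.eq_empty_or_nonempty with h0 | ⟨x, hx⟩
    · rw [h0] at hW; simp only [weight, Finset.sum_empty] at hW; omega
    obtain ⟨t₁, ht₁s, ht₁inv, ht₁mem, hw₁⟩ := weight_step hSinv hx
    rcases t₁.eq_empty_or_nonempty with rfl | ⟨y, hy⟩
    · rw [hw₁] at hW; simp only [weight, Finset.sum_empty] at hW
      have := hob x
      omega
    obtain ⟨t₂, ht₂s, ht₂inv, ht₂mem, hw₂⟩ := weight_step ht₁inv hy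
    have hyS : y ∈ S := ht₁s hy
    rcases t₂.eq_empty_or_nonempty with rfl | ⟨z, hz⟩
    · rw [hw₁, hw₂] at hW; simp only [weight, Finset.sum_empty] at hW
      have h1 := hob x
      have h2 := hob y
      have e1 : (orbit G x).ncard = 1 := by omega
      have e2 : (orbit G y).ncard = 1 := by omega
      refine Or.inl ⟨⟨x, y, fun e => (ht₁mem y hyS).1 hy (e ▸ mem_orbit_self x), fun g => ⟨?_, ?_⟩⟩, hpG⟩
      · obtain ⟨w, hw⟩ := Set.ncard_eq_one.1 e1
        have h1 : g • x ∈ orbit G x := ⟨g, rfl⟩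
        have h2 : x ∈ orbit G x := mem_orbit_self x
        rw [hw, Set.mem_singleton_iff] at h1 h2
        rw [h1, h2]
      · obtain ⟨w, hw⟩ := Set.ncard_eq_one.1 e2
        have h1 : g • y ∈ orbit G y := ⟨g, rfl⟩
        have h2 : y ∈ orbit G y := mem_orbit_self y
        rw [hw, Set.mem_singleton_iff] at h1 h2
        rw [h1, h2]
    obtain ⟨t₃, ht₃s, ht₃inv, ht₃mem, hw₃⟩ := weight_step ht₂inv hz
    have hzS : z ∈ S := ht₁s (ht₂s hz)
    rcases t₃.eq_empty_or_nonempty with rfl | ⟨w, hw⟩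
    swap
    · exfalso
      obtain ⟨t₄, -, -, -, hw₄⟩ := weight_step ht₃inv hw
      rw [hw₁, hw₂, hw₃, hw₄] at hW
      have := hob2 hx
      have := hob2 hyS
      have := hob2 hzS
      have := hob2 (x := w) (ht₁s (ht₂s (ht₃s hw)))
      omega
    rw [hw₁, hw₂, hw₃] at hW; simp only [weight, Finset.sum_empty] at hW
    have h1 := hob x
    have h2 := hob y
    have h3 := hob z
    rcases three_orbit_arith (card_orbit_mul x) (card_orbit_mul y) (card_orbit_mul z)
      (two_le_card_stabilizer (hsp hx)) (two_le_card_stabilizer (hsp hyS))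
      (two_le_card_stabilizer (hsp hzS)) (by omega) with h | h | h | ⟨hg, a1, a2, a3⟩
    · exact pair_outcome (hsp hx) h (hnps _)
    · exact pair_outcome (hsp hyS) h (hnps _)
    · exact pair_outcome (hsp hzS) h (hnps _)
    · refine Or.inr (Or.inr (Or.inr (Or.inl ⟨fun e => hpG ?_, hg, fun g hg' => ?_⟩)))
      · subst e; rcases hg with e | e | e <;> rw [e] <;> norm_num
      simp only [Finset.mem_insert, Finset.mem_singleton] at hg'
      have hg1 : g ≠ 1 := fun e => by rw [e, orderOf_one] at hg'; omega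
      obtain ⟨v, hv, hd⟩ := mem_S hg1
      have hle := Nat.le_of_dvd Nat.card_pos hd
      by_cases hvx : v ∈ orbit G x
      · rw [card_stabilizer_orbit hvx] at hle; omega
      have hv1 := (ht₁mem v hv).2 hvx
      by_cases hvy : v ∈ orbit G y
      · rw [card_stabilizer_orbit hvy] at hle; omega
      have hv2 := (ht₂mem v hv1).2 hvy
      by_cases hvz : v ∈ orbit G z
      · rw [card_stabilizer_orbit hvz] at hle; omega
      exact Finset.notMem_empty v ((ht₃mem v hv2).2 hvz)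

end Cfsg.Agent.MaxSub.Dickson
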