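import Cfsg.Agent.MaxSub.Dickson.Point
import Cfsg.Agent.MaxSub.Dickson.Cases
import Cfsg.Agent.MaxSub.Dickson.Small
import Cfsg.Agent.TwoGroups.Recognition
import Cfsg.Agent.Linear.Orders
import Cfsg.Agent.Linear.Transvection

/-!
Dickson's classification of the finite subgroups of `PGL(2, K)`, `K` algebraically closed of
characteristic `p`: cyclic, dihedral, point stabiliser, `A_4`, `S_4`, `A_5`, or conjugate to
`PSL(2, F₀)` / `PGL(2, F₀)` for a finite subfield `F₀`.
-/

set_option autoImplicit false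
set_option linter.unusedSectionVars false

open scoped OnePoint MatrixGroups

namespace Cfsg.Agent.MaxSub.Dickson

open Matrix MulAction

variable {K : Type*} [Field K] [DecidableEq K] {p : ℕ} [Fact p.Prime] [CharP K p]

theorem fixed_conj {g h : PGL(2, K)} {x : OnePoint K} (hx : g • (h • x) = h • x) :
    (h⁻¹ * g * h) • x = x := by
  rw [mul_smul, mul_smul, hx, inv_smul_smul]

/-- `PGL(2, K)` acting on the line satisfies the axioms of the orbit count. -/
theorem rot_subgroup [IsAlgClosed K] (G : Subgroup PGL(2, K)) : Rot p G (OnePoint K) where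
  fix g := exists_fixed (g : PGL(2, K))
  one g hg hp a b ha hb := fixed_unique (g := (g : PGL(2, K))) (fun e => hg (Subtype.ext e))
    (by exact congrArg Subtype.val hp) ha hb
  two g hp a ha := exists_second_fixed (g := (g : PGL(2, K)))
    (fun e => hp (Subtype.ext (by rw [Subgroup.coe_pow, e]; rfl))) ha
  three g a b c hab hac hbc ha hb hc := Subtype.ext (eq_one_of_three hab hac hbc ha hb hc)
  exp g a ha n hn := by
    obtain ⟨h, rfl⟩ := exists_move a
    obtain ⟨u, v, huv⟩ := exists_aff (fixed_conj (g := (g : PGL(2, K))) ha)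
    have hn' : (g : PGL(2, K)) ^ p ^ n = 1 := congrArg Subtype.val hn
    have key : ∀ m : ℕ, (g : PGL(2, K)) ^ m = h * aff u v ^ m * h⁻¹ := fun m => by
      rw [← huv, ← conj_pow]; congr 1; group
    have hu : u ^ p ^ n = 1 := by
      obtain ⟨w, hw⟩ := aff_pow u v (p ^ n)
      rw [key, hw, conj_eq_one_iff, aff_eq_one_iff] at hn'
      exact hn'.1
    have hu1 : u = 1 := by
      clear key hn huv hn'
      induction n generalizing u with
      | zero => simpa using hu
      | succ n ih =>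
        rw [pow_succ, pow_mul] at hu
        exact ih _ (units_eq_one_of_pow_char hu)
    refine Subtype.ext ?_
    rw [Subgroup.coe_pow, key, aff_pow_char_eq_one_iff.2 hu1]
    simp
  comm g k a hg hk hgp hkp := by
    obtain ⟨h, rfl⟩ := exists_move a
    obtain ⟨u, v, huv⟩ := exists_aff (fixed_conj (g := (g : PGL(2, K))) hg)
    obtain ⟨u', v', huv'⟩ := exists_aff (fixed_conj (g := (k : PGL(2, K))) hk)
    have key : ∀ (x : G) u v, h⁻¹ * (x : PGL(2, K)) * h = aff u v → x ^ p = 1 → u = 1 := by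
      intro x u v e hx
      have : aff u v ^ p = 1 := by
        rw [← e, show h⁻¹ * (x : PGL(2, K)) * h = h⁻¹ * x * (h⁻¹)⁻¹ by rw [inv_inv], conj_pow,
          show (x : PGL(2, K)) ^ p = 1 from congrArg Subtype.val hx]
        simp
      exact aff_pow_char_eq_one_iff.1 this
    obtain rfl := key g u v huv hgp
    obtain rfl := key k u' v' huv' hkp
    refine Subtype.ext ?_
    show (g : PGL(2, K)) * k = k * g
    have e : aff (1 : Kˣ) v * aff 1 v' = aff 1 v' * aff 1 v := by
      rw [aff_mul, aff_mul]; simp [add_comm]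
    rw [← huv, ← huv'] at e
    calc (g : PGL(2, K)) * k = h * ((h⁻¹ * g * h) * (h⁻¹ * k * h)) * h⁻¹ := by group
      _ = h * ((h⁻¹ * k * h) * (h⁻¹ * g * h)) * h⁻¹ := by rw [e]
      _ = _ := by group

/-- The elements of a group fixing two given points form a cyclic group. -/
theorem isCyclic_two_fixed {H : Type*} [Group H] [Finite H] (ι : H →* PGL(2, K))
    (hι : Function.Injective ι) {a b : OnePoint K} (hab : a ≠ b)
    (hfix : ∀ g : H, ι g • a = a ∧ ι g • b = b) : IsCyclic H := by
  obtain ⟨h, h1, h2⟩ := exists_move_two hab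
  have hex : ∀ g : H, ∃ u : Kˣ, h⁻¹ * ι g * h = aff u 0 := by
    intro g
    obtain ⟨u, v, huv⟩ := exists_aff (fixed_conj (g := ι g) (x := ∞) (by rw [h1]; exact (hfix g).1))
    have := fixed_conj (g := ι g) (h := h) (x := ((0 : K) : OnePoint K)) (by rw [h2]; exact (hfix g).2)
    rw [huv, aff_coe, OnePoint.coe_eq_coe, mul_zero, zero_add] at this
    exact ⟨u, this ▸ huv⟩
  choose f hf using hex
  let φ : H →* K :=
    { toFun := fun g => (f g : K)
      map_one' := by
        have := hf 1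
        rw [map_one, mul_one, inv_mul_cancel, eq_comm, aff_eq_one_iff] at this
        rw [this.1, Units.val_one]
      map_mul' := fun g g' => by
        have := hf (g * g')
        rw [map_mul, show h⁻¹ * (ι g * ι g') * h = (h⁻¹ * ι g * h) * (h⁻¹ * ι g' * h) by group,
          hf, hf, aff_mul, mul_zero, add_zero] at this
        rw [← (aff_inj this).1, Units.val_mul] }
  refine isCyclic_of_injective_ringHom φ fun g g' e => hι ?_
  have e' : h⁻¹ * ι g * h = h⁻¹ * ι g' * h := by rw [hf, hf, Units.ext e]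
  simpa using e'

/-- A finite group with an orbit `{a, b}` is dihedral. -/
theorem dihedral_of_pair (G : Subgroup PGL(2, K)) [Finite G] {a b : OnePoint K} (hab : a ≠ b)
    (horb : orbit G a = {a, b}) (hcard : Nat.card G = 2 * Nat.card (stabilizer G a)) :
    Nonempty (G ≃* DihedralGroup (Nat.card (stabilizer G a))) := by
  have hperm : ∀ g : G, (g • a = a ∨ g • a = b) := fun g => by
    have : g • a ∈ orbit G a := ⟨g, rfl⟩
    rw [horb] at this; exact this
  have hb : b ∈ orbit G a := by rw [horb]; simp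
  obtain ⟨w, hw⟩ := hb
  have hw : w • a = b := hw
  have hfixb : ∀ g : G, g • a = a → g • b = b := by
    intro g hg
    have : g • b ∈ orbit G a := ⟨g * w, by show (g * w) • a = g • b; rw [mul_smul, hw]⟩
    rw [horb] at this
    rcases this with h | h
    · exact absurd (MulAction.injective g (h.trans hg.symm)) hab.symm
    · exact h
  have hwb : w • b = a := by
    rcases hperm (w * w) with h | h
    · rwa [mul_smul, hw] at h
    · exact absurd (MulAction.injective w ((mul_smul w w a ▸ h).trans hw.symm)) (by rw [hw]; exact hab.symm)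
  have hC : IsCyclic (stabilizer G a) :=
    isCyclic_two_fixed (G.subtype.comp (stabilizer G a).subtype)
      (Subtype.val_injective.comp Subtype.val_injective) hab
      (fun g => ⟨g.2, hfixb _ g.2⟩)
  obtain ⟨c, hc⟩ := IsCyclic.exists_ofOrder_eq_natCard (α := stabilizer G a)
  obtain ⟨h, h1, h2⟩ := exists_move_two hab
  obtain ⟨u, v, huv⟩ := exists_aff (fixed_conj (g := ((c : G) : PGL(2, K))) (x := ∞)
    (by rw [h1]; exact c.2))
  have hv := fixed_conj (g := ((c : G) : PGL(2, K))) (h := h) (x := ((0 : K) : OnePoint K))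
    (by rw [h2]; exact hfixb _ c.2)
  rw [huv, aff_coe, OnePoint.coe_eq_coe, mul_zero, zero_add] at hv
  subst hv
  -- `w` in coordinates is `x ↦ t / x`
  set W := h⁻¹ * (w : PGL(2, K)) * h with hW
  have hW1 : W • (∞ : OnePoint K) = ((0 : K) : OnePoint K) := by
    rw [hW, mul_smul, mul_smul, h1, inv_smul_eq_iff, h2]; exact hw
  have hW2 : W • ((0 : K) : OnePoint K) = ∞ := by
    rw [hW, mul_smul, mul_smul, h2, inv_smul_eq_iff, h1]; exact hwb
  obtain ⟨t, s, hts⟩ := exists_aff (g := W * recipP) (by rw [mul_smul, recipP_infty, hW2])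
  have hs : (W * recipP) • ((0 : K) : OnePoint K) = ((0 : K) : OnePoint K) := by
    rw [mul_smul, recipP_zero, hW1]
  rw [hts, aff_coe, OnePoint.coe_eq_coe, mul_zero, zero_add] at hs
  subst hs
  have hrr : (recipP : PGL(2, K)) * recipP = 1 := ext_smul fun x => by
    rw [mul_smul, one_smul]
    induction x using OnePoint.rec with
    | infty => rw [recipP_infty, recipP_zero]
    | coe x =>
      by_cases hx : x = 0
      · subst hx; rw [recipP_zero, recipP_infty]
      · rw [recipP_coe, if_neg hx, recipP_coe, if_neg (inv_ne_zero hx), inv_inv]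
  have hWeq : W = aff t 0 * recipP := by
    rw [← hts, mul_assoc, hrr, mul_one]
  have hra : ∀ r : Kˣ, (recipP : PGL(2, K)) * aff r 0 * recipP = aff r⁻¹ 0 := fun r =>
    ext_smul fun x => by
      rw [mul_smul, mul_smul]
      induction x using OnePoint.rec with
      | infty => rw [recipP_infty, aff_coe, aff_infty]; simp [recipP_zero]
      | coe x =>
        by_cases hx : x = 0
        · subst hx; rw [recipP_zero, aff_infty, recipP_infty, aff_coe]; simp
        · rw [recipP_coe, if_neg hx, aff_coe, recipP_coe, if_neg (by simp [hx]), aff_coe]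
          simp [mul_comm]
  have e1 : W * W = 1 := by
    rw [hWeq, show aff t 0 * recipP * (aff t 0 * recipP) = aff t 0 * (recipP * aff t 0 * recipP)
      by group, hra, aff_mul, mul_inv_cancel]
    simp [aff_one]
  have e2 : W * aff u 0 * W⁻¹ = (aff u 0)⁻¹ := by
    have hinv : W⁻¹ = W := inv_eq_of_mul_eq_one_right e1
    refine eq_inv_of_mul_eq_one_left ?_
    rw [hinv, hWeq, show aff t 0 * recipP * aff u 0 * (aff t 0 * recipP) * aff u 0
      = aff t 0 * (recipP * (aff u 0 * aff t 0) * recipP) * aff u 0 by group, aff_mul]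
    simp only [mul_zero, add_zero]
    rw [hra, aff_mul, aff_mul]
    simp only [mul_zero, add_zero]
    rw [aff_eq_one_iff]
    exact ⟨by rw [_root_.mul_inv_rev]; group, rfl⟩
  refine TwoGroups.equiv_dihedral_of_generators (a := (c : G)) (b := w)
    (by rw [Subgroup.orderOf_coe, hc]) hcard ?_ ?_ ?_
  · intro hmem
    have : Subgroup.zpowers (c : G) ≤ stabilizer G a := Subgroup.zpowers_le.2 c.2
    exact hab ((mem_stabilizer_iff.1 (this hmem)).symm.trans hw)
  · refine Subtype.ext ?_
    show (w : PGL(2, K)) * w = 1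
    calc (w : PGL(2, K)) * w = h * (W * W) * h⁻¹ := by rw [hW]; group
      _ = 1 := by rw [e1]; group
  · refine Subtype.ext ?_
    show (w : PGL(2, K)) * (c : G) * (w : PGL(2, K))⁻¹ = ((c : G) : PGL(2, K))⁻¹
    have e3 : ((c : G) : PGL(2, K)) = h * aff u 0 * h⁻¹ := by rw [← huv]; group
    calc (w : PGL(2, K)) * (c : G) * (w : PGL(2, K))⁻¹ = h * (W * aff u 0 * W⁻¹) * h⁻¹ := by
          rw [e3, hW]; group
      _ = _ := by rw [e2, e3]; group

/-- The embedding of `PGL(2, F₀)` for a subfield `F₀`. -/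
noncomputable def subPGL (F₀ : Subfield K) : PGL(2, F₀) →* PGL(2, K) :=
  ProjGenLinGroup.map F₀.subtype

/-- The embedding of `PSL(2, F₀)` for a subfield `F₀`. -/
noncomputable def subPSL (F₀ : Subfield K) :
    Matrix.ProjectiveSpecialLinearGroup (Fin 2) F₀ →* PGL(2, K) :=
  (subPGL F₀).comp ProjectiveSpecialLinearGroup.toPGL

theorem subPGL_smul (F₀ : Subfield K) (g : PGL(2, F₀)) (x : OnePoint F₀) :
    subPGL F₀ g • OnePoint.map F₀.subtype x = OnePoint.map F₀.subtype (g • x) := by
  induction g using ProjGenLinGroup.induction_on with | mk A =>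
  exact (OnePoint.map_smul F₀.subtype A x).symm

theorem subPGL_injective (F₀ : Subfield K) : Function.Injective (subPGL F₀) := by
  intro g g' e
  refine ext_smul fun x => ?_
  refine Option.map_injective F₀.subtype.injective ?_
  show OnePoint.map F₀.subtype (g • x) = OnePoint.map F₀.subtype (g' • x)
  rw [← subPGL_smul, e, subPGL_smul]

theorem subPSL_injective (F₀ : Subfield K) : Function.Injective (subPSL F₀) :=
  (subPGL_injective F₀).comp ProjectiveSpecialLinearGroup.toPGL_injective

/-- The subfield case. -/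
theorem subfield_of_orbit [IsAlgClosed K] (G : Subgroup PGL(2, K)) [Finite G] {y : OnePoint K}
    {P : Subgroup G} {k : ℕ} (hP : ∀ g, g ∈ P ↔ g • y = y ∧ g ^ p = 1) (hq : 4 ≤ Nat.card P)
    (hn : (orbit G y).ncard = Nat.card P + 1)
    (hst : Nat.card (stabilizer G y) = Nat.card P * k)
    (hk : k = Nat.card P - 1 ∨ 2 * k = Nat.card P - 1) :
    ∃ (F₀ : Subfield K) (h : PGL(2, K)), Finite F₀ ∧ 4 ≤ Nat.card F₀ ∧
      (G.map (MulAut.conj h⁻¹).toMonoidHom = (subPGL F₀).range ∨
        (G.map (MulAut.conj h⁻¹).toMonoidHom = (subPSL F₀).range ∧ Odd (Nat.card F₀))) ∧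
      (∀ x ∈ ({∞, ((0 : K) : OnePoint K), ((1 : K) : OnePoint K)} : Set (OnePoint K)),
        ∃ g ∈ G, g ≠ 1 ∧ g ^ p = 1 ∧ g • (h • x) = h • x) := by
  classical
  have hR := rot_subgroup (p := p) G
  set q₀ := Nat.card P with hq₀
  have hfin : (orbit G y).Finite := Set.finite_range _
  obtain ⟨b, hb, hby⟩ : ∃ b ∈ orbit G y, b ≠ y := by
    by_contra hh
    push Not at hh
    have : (orbit G y).ncard ≤ ({y} : Set (OnePoint K)).ncard :=
      Set.ncard_le_ncard (fun x hx => hh x hx) (by simp)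
    rw [Set.ncard_singleton] at this
    omega
  obtain ⟨c, hc, hcy, hcb⟩ : ∃ c ∈ orbit G y, c ≠ y ∧ c ≠ b := by
    by_contra hh
    push Not at hh
    have : (orbit G y).ncard ≤ ({y, b} : Set (OnePoint K)).ncard :=
      Set.ncard_le_ncard (fun x hx => by
        by_cases e : x = y
        · exact Or.inl e
        · exact Or.inr (hh x hx e)) (by simp)
    rw [Set.ncard_pair (Ne.symm hby)] at this
    omega
  obtain ⟨h, h1, h2, h3⟩ := exists_move_three (Ne.symm hby) (Ne.symm hcy) (Ne.symm hcb)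
  -- the translations
  let A : Set K := {v | h * aff (1 : Kˣ) v * h⁻¹ ∈ (P.map G.subtype : Subgroup PGL(2, K))}
  have memA : ∀ g : G, g ∈ P → ∃ v ∈ A, h⁻¹ * (g : PGL(2, K)) * h = aff 1 v := by
    intro g hg
    obtain ⟨hgy, hgp⟩ := (hP g).1 hg
    obtain ⟨u, v, huv⟩ := exists_aff (fixed_conj (g := (g : PGL(2, K))) (x := ∞) (by rw [h1]; exact hgy))
    have hu : u = 1 := by
      refine aff_pow_char_eq_one_iff (v := v) (p := p) |>.1 ?_
      rw [← huv, show h⁻¹ * (g : PGL(2, K)) * h = h⁻¹ * g * (h⁻¹)⁻¹ by rw [inv_inv], conj_pow,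
        show (g : PGL(2, K)) ^ p = 1 from congrArg Subtype.val hgp]
      group
    subst hu
    refine ⟨v, ⟨g, hg, ?_⟩, huv⟩
    show (g : PGL(2, K)) = h * aff 1 v * h⁻¹
    rw [← huv]; group
  have hAcard : A.ncard = q₀ := by
    have hbij : Set.BijOn (fun v => h * aff (1 : Kˣ) v * h⁻¹) A (P.map G.subtype : Set PGL(2, K)) := by
      refine ⟨fun v hv => hv, fun v _ v' _ e => ?_, fun x hx => ?_⟩
      · exact (aff_inj (mul_left_cancel (mul_right_cancel e))).2
      · obtain ⟨g, hg, rfl⟩ := hx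
        obtain ⟨v, hv, hgv⟩ := memA g hg
        exact ⟨v, hv, by show h * aff 1 v * h⁻¹ = (g : PGL(2, K)); rw [← hgv]; group⟩
    rw [← Nat.card_coe_set_eq, Nat.card_congr (hbij.equiv _), hq₀]
    exact Nat.card_congr (P.equivMapOfInjective G.subtype G.subtype_injective).toEquiv.symm
  have hAfin : A.Finite := Set.finite_of_ncard_ne_zero (by omega)
  have hA0 : (0 : K) ∈ A := by
    show h * aff (1 : Kˣ) 0 * h⁻¹ ∈ (P.map G.subtype : Subgroup PGL(2, K))
    rw [aff_one, mul_one, mul_inv_cancel]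
    exact one_mem _
  have hAadd : ∀ v w, v ∈ A → w ∈ A → v + w ∈ A := fun v w hv hw => by
    show h * aff (1 : Kˣ) (v + w) * h⁻¹ ∈ (P.map G.subtype : Subgroup PGL(2, K))
    have e : h * aff (1 : Kˣ) (v + w) * h⁻¹ = (h * aff 1 v * h⁻¹) * (h * aff 1 w * h⁻¹) := by
      rw [show (h * aff 1 v * h⁻¹) * (h * aff 1 w * h⁻¹) = h * (aff 1 v * aff 1 w) * h⁻¹ by group,
        aff_mul, Units.val_one, one_mul, one_mul, add_comm v w]
    rw [e]; exact mul_mem hv hw
  have hAneg : ∀ v, v ∈ A → -v ∈ A := fun v hv => by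
    show h * aff (1 : Kˣ) (-v) * h⁻¹ ∈ (P.map G.subtype : Subgroup PGL(2, K))
    have e : h * aff (1 : Kˣ) (-v) * h⁻¹ = (h * aff 1 v * h⁻¹)⁻¹ := by
      refine eq_inv_of_mul_eq_one_left ?_
      rw [show (h * aff 1 (-v) * h⁻¹) * (h * aff 1 v * h⁻¹) = h * (aff 1 (-v) * aff 1 v) * h⁻¹ by
        group, aff_mul, Units.val_one, one_mul, one_mul, add_neg_cancel, aff_one]
      group
    rw [e]; exact inv_mem hv
  -- the orbit
  have hO : ∀ z : OnePoint K, h • z ∈ orbit G y ↔ z = ∞ ∨ ∃ v ∈ A, z = (v : OnePoint K) := by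
    have hsub : (fun z => h • z) '' insert ∞ ((fun v : K => (v : OnePoint K)) '' A) ⊆ orbit G y := by
      rintro _ ⟨z, rfl | ⟨v, hv, rfl⟩, rfl⟩
      · show h • (∞ : OnePoint K) ∈ orbit G y
        rw [h1]; exact mem_orbit_self y
      · obtain ⟨g, hg, hgv⟩ := hv
        have e : (g : PGL(2, K)) • b = h • (v : OnePoint K) := by
          rw [show (g : PGL(2, K)) = h * aff 1 v * h⁻¹ from hgv, ← h2, mul_smul, mul_smul,
            inv_smul_smul, aff_coe]
          simp
        show h • (v : OnePoint K) ∈ orbit G y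
        rw [← e]
        exact mem_orbit_of_mem_orbit g hb
    have hcard : ((fun z => h • z) '' insert ∞ ((fun v : K => (v : OnePoint K)) '' A)).ncard
        = q₀ + 1 := by
      rw [Set.ncard_image_of_injective _ (MulAction.injective h),
        Set.ncard_insert_of_notMem (by simp) (hAfin.image _),
        Set.ncard_image_of_injective _ OnePoint.coe_injective, hAcard]
    have := Set.eq_of_subset_of_ncard_le hsub (by omega) hfin
    intro z
    rw [← this, (MulAction.injective h).mem_set_image]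
    simp [eq_comm]
  have hA1 : (1 : K) ∈ A := by
    obtain ⟨v, hv, e⟩ := ((hO _).1 (by rw [h3]; exact hc)).resolve_left (OnePoint.coe_ne_infty _)
    rwa [OnePoint.coe_eq_coe.1 e]
  -- the field of multipliers
  let F₀ : Subfield K :=
    { carrier := {x | ∀ v ∈ A, x * v ∈ A}
      mul_mem' := fun {x x'} hx hx' v hv => by rw [mul_assoc]; exact hx _ (hx' v hv)
      one_mem' := fun v hv => by rwa [one_mul]
      add_mem' := fun {x x'} hx hx' v hv => by rw [add_mul]; exact hAadd _ _ (hx v hv) (hx' v hv)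
      zero_mem' := fun v _ => by rw [zero_mul]; exact hA0
      neg_mem' := fun {x} hx v hv => by rw [neg_mul]; exact hAneg _ (hx v hv)
      inv_mem' := fun x hx v hv => by
        by_cases hx0 : x = 0
        · rw [hx0, _root_.inv_zero, zero_mul]; exact hA0
        have himg : (x * ·) '' A = A := Set.eq_of_subset_of_ncard_le (Set.image_subset_iff.2 hx)
          (by rw [Set.ncard_image_of_injective _ (mul_right_injective₀ hx0)]) hAfin
        rw [← himg] at hv
        obtain ⟨w, hw, rfl⟩ := hv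
        rwa [← mul_assoc, inv_mul_cancel₀ hx0, one_mul] }
  have hF₀A : (F₀ : Set K) ⊆ A := fun x hx => by simpa using hx 1 hA1
  have hF₀fin : Finite F₀ := (hAfin.subset hF₀A).to_subtype
  -- multipliers of the point stabiliser
  have hmult : ∀ g : stabilizer G y, ∃ u v, h⁻¹ * ((g : G) : PGL(2, K)) * h = aff u v ∧
      (u : K) ∈ F₀ := by
    intro g
    obtain ⟨u, v, huv⟩ := exists_aff (fixed_conj (g := ((g : G) : PGL(2, K))) (x := ∞)
      (by rw [h1]; exact g.2))
    refine ⟨u, v, huv, fun w hw => ?_⟩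
    obtain ⟨x, hx, hxw⟩ := hw
    obtain ⟨hxy, hxp⟩ := (hP x).1 hx
    have hmem : (g : G) * x * (g : G)⁻¹ ∈ P := by
      have hgy : (g : G) • y = y := g.2
      refine (hP _).2 ⟨by rw [mul_smul, mul_smul, inv_smul_eq_iff.2 hgy.symm, hxy, hgy], ?_⟩
      rw [conj_pow, hxp]; group
    refine ⟨_, hmem, ?_⟩
    show ((g : G) : PGL(2, K)) * x * ((g : G) : PGL(2, K))⁻¹ = h * aff 1 ((u : K) * w) * h⁻¹
    have e : aff (1 : Kˣ) ((u : K) * w) = aff u v * aff 1 w * (aff u v)⁻¹ := by
      refine eq_mul_inv_of_mul_eq ?_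
      rw [aff_mul, aff_mul, mul_one, one_mul, Units.val_one, one_mul]
      congr 1
      ring
    rw [e, ← huv, show (x : PGL(2, K)) = h * aff 1 w * h⁻¹ from hxw]
    group
  choose mu tr hmu hmuF using hmult
  let φ : stabilizer G y →* Kˣ :=
    { toFun := mu
      map_one' := by
        have := hmu 1
        rw [Subgroup.coe_one, Subgroup.coe_one, mul_one, inv_mul_cancel, eq_comm, aff_eq_one_iff] at this
        exact this.1
      map_mul' := fun g g' => by
        have := hmu (g * g')
        rw [Subgroup.coe_mul, Subgroup.coe_mul,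
          show h⁻¹ * (((g : G) : PGL(2, K)) * (g' : G)) * h
            = (h⁻¹ * (g : G) * h) * (h⁻¹ * (g' : G) * h) by group, hmu, hmu, aff_mul] at this
        exact (aff_inj this).1.symm }
  have hker : Nat.card φ.ker ≤ q₀ := by
    refine Nat.card_le_card_of_injective (fun g => (⟨((g : stabilizer G y) : G), ?_⟩ : P))
      (fun g g' e => Subtype.ext (Subtype.ext (congrArg (fun x : P => (x : G)) e)))
    refine (hP _).2 ⟨(g : stabilizer G y).2, Subtype.ext ?_⟩
    have hg1 : mu g = 1 := g.2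
    have e := hmu g
    rw [hg1] at e
    have e' : ((((g : stabilizer G y) : G)) : PGL(2, K)) = h * aff 1 (tr g) * h⁻¹ := by
      rw [← e]; group
    rw [Subgroup.coe_pow, e', conj_pow, aff_pow_char_eq_one_iff.2 rfl]
    simp
  have hkF : k + 1 ≤ Nat.card F₀ := by
    have hr : k ≤ Nat.card φ.range := by
      have h0 := φ.ker.index_mul_card
      rw [Subgroup.index_ker, hst] at h0
      by_contra hh
      push Not at hh
      have : Nat.card φ.range * Nat.card φ.ker < k * q₀ :=
        Nat.mul_lt_mul_of_lt_of_le hh hker (by omega)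
      rw [h0, mul_comm] at this
      exact lt_irrefl _ this
    have hle : Nat.card φ.range ≤ Nat.card {x : F₀ // x ≠ 0} :=
      Nat.card_le_card_of_injective
        (fun u => ⟨⟨((u : Kˣ) : K), by obtain ⟨g, hg⟩ := u.2; rw [← hg]; exact hmuF g⟩,
          fun e => (u : Kˣ).ne_zero (congrArg Subtype.val e)⟩)
        (fun u u' e => Subtype.ext (Units.ext (congrArg (fun x => ((x.1 : F₀) : K)) e)))
    have hne : Nat.card {x : F₀ // x ≠ 0} + 1 = Nat.card F₀ := by
      have : Fintype F₀ := Fintype.ofFinite _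
      simp only [Nat.card_eq_fintype_card, Fintype.card_subtype_compl, Fintype.card_subtype_eq]
      have : 0 < Fintype.card F₀ := Fintype.card_pos
      omega
    omega
  have hAF : A = (F₀ : Set K) := by
    let AA : AddSubgroup K :=
      { carrier := A
        add_mem' := fun {v w} => hAadd v w
        zero_mem' := hA0
        neg_mem' := fun {v} => hAneg v }
    have hd : Nat.card F₀ ∣ q₀ := by
      have h' := AddSubgroup.card_dvd_of_le (H := F₀.toAddSubgroup) (K := AA) hF₀A
      rw [show Nat.card AA = q₀ from (Nat.card_coe_set_eq A).trans hAcard] at h'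
      exact h'
    obtain ⟨d, hd⟩ := hd
    have hd1 : d = 1 := by
      rcases Nat.lt_or_ge d 2 with h' | h'
      · interval_cases d <;> omega
      · have : Nat.card F₀ * 2 ≤ q₀ := hd ▸ Nat.mul_le_mul_left _ h'
        omega
    refine (Set.eq_of_subset_of_ncard_le hF₀A ?_ hAfin).symm
    rw [hAcard, ← Nat.card_coe_set_eq, hd, hd1, mul_one]
    exact le_rfl
  have hF₀card : Nat.card F₀ = q₀ := by
    rw [← hAcard, hAF, ← Nat.card_coe_set_eq]; rfl
  -- the group lies in `PGL(2, F₀)`
  have hpts : ∀ z : OnePoint K, h • z ∈ orbit G y → ∃ z₀ : OnePoint F₀, OnePoint.map F₀.subtype z₀ = z := by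
    intro z hz
    rcases (hO z).1 hz with rfl | ⟨v, hv, rfl⟩
    · exact ⟨∞, rfl⟩
    · rw [hAF] at hv; exact ⟨((⟨v, hv⟩ : F₀) : OnePoint F₀), rfl⟩
  set G' := G.map (MulAut.conj h⁻¹).toMonoidHom with hG'
  have hsub : G' ≤ (subPGL F₀).range := by
    rintro _ ⟨g, hg, rfl⟩
    set g' := (MulAut.conj h⁻¹).toMonoidHom g with hg'
    have hg'e : g' = h⁻¹ * g * h := by simp [hg']
    have himg : ∀ z : OnePoint K, h • z ∈ orbit G y → h • (g' • z) ∈ orbit G y := fun z hz => by
      rw [hg'e, mul_smul, mul_smul, smul_inv_smul]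
      exact mem_orbit_of_mem_orbit (⟨g, hg⟩ : G) hz
    obtain ⟨a₀, ha₀⟩ := hpts _ (himg ∞ (by rw [h1]; exact mem_orbit_self y))
    obtain ⟨b₀, hb₀⟩ := hpts _ (himg ((0 : K) : OnePoint K) (by rw [h2]; exact hb))
    obtain ⟨c₀, hc₀⟩ := hpts _ (himg ((1 : K) : OnePoint K) (by rw [h3]; exact hc))
    have e1 : (∞ : OnePoint K) ≠ ((0 : K) : OnePoint K) := OnePoint.infty_ne_coe _
    have e2 : (∞ : OnePoint K) ≠ ((1 : K) : OnePoint K) := OnePoint.infty_ne_coe _
    have e3 : ((0 : K) : OnePoint K) ≠ ((1 : K) : OnePoint K) := by simp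
    obtain ⟨γ, k1, k2, k3⟩ := exists_move_three (a := a₀) (b := b₀) (c := c₀)
      (fun e => e1 (MulAction.injective g' (ha₀.symm.trans ((congrArg _ e).trans hb₀))))
      (fun e => e2 (MulAction.injective g' (ha₀.symm.trans ((congrArg _ e).trans hc₀))))
      (fun e => e3 (MulAction.injective g' (hb₀.symm.trans ((congrArg _ e).trans hc₀))))
    refine ⟨γ, eq_of_three e1 e2 e3 ?_ ?_ ?_⟩
    · rw [← ha₀, ← k1, ← subPGL_smul]; rfl
    · rw [← hb₀, ← k2, ← subPGL_smul]; simp
    · rw [← hc₀, ← k3, ← subPGL_smul]; simp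
  have hG'card : Nat.card G' = q₀ * k * (q₀ + 1) := by
    rw [← Nat.card_congr (G.equivMapOfInjective _ (MulAut.conj h⁻¹).injective).toEquiv,
      ← card_orbit_mul (G := G) y, hn, hst]
    ring
  have : Fintype F₀ := Fintype.ofFinite _
  have hFc : Fintype.card F₀ = q₀ := by rw [← hF₀card, Nat.card_eq_fintype_card]
  have : Finite PGL(2, F₀) := Finite.of_surjective _ Matrix.ProjGenLinGroup.mk_surjective
  have : Finite (subPGL F₀).range :=
    Finite.of_equiv _ (MonoidHom.ofInjective (subPGL_injective F₀)).toEquiv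
  have hPGL : Nat.card (subPGL F₀).range = q₀ * (q₀ - 1) * (q₀ + 1) := by
    rw [← Nat.card_congr (MonoidHom.ofInjective (subPGL_injective F₀)).toEquiv,
      Linear.card_PGL_eq_card_SL, Linear.card_SL_two, hFc]
  refine ⟨F₀, h, hF₀fin, by omega, ?_, ?_⟩
  · rcases hk with hk' | hk'
    · left
      refine Subgroup.eq_of_le_of_card_ge hsub ?_
      rw [hPGL, hG'card, hk']
    · right
      have hodd : Odd (Nat.card F₀) := by
        rw [hF₀card, Nat.odd_iff]; omega
      refine ⟨?_, hodd⟩
      set H := G'.comap (subPGL F₀) with hH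
      have hHG : H.map (subPGL F₀) = G' := Subgroup.map_comap_eq_self hsub
      have hHc : Nat.card H = q₀ * k * (q₀ + 1) := by
        rw [← hG'card, ← hHG]
        exact Nat.card_congr (H.equivMapOfInjective _ (subPGL_injective F₀)).toEquiv
      have hHi : H.index = 2 := by
        have := H.index_mul_card
        rw [Linear.card_PGL_eq_card_SL, Linear.card_SL_two, hFc, hHc, ← hk'] at this
        have hpos : 0 < q₀ * k * (q₀ + 1) := hHc ▸ Nat.card_pos
        exact Nat.eq_of_mul_eq_mul_right hpos (this.trans (by ring))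
      have : H.Normal := Subgroup.normal_of_index_eq_two hHi
      have hs := Linear.isSimpleGroup_PSL_fin (F := F₀) 2 le_rfl (fun _ => by omega)
      set L := (ProjectiveSpecialLinearGroup.toPGL (n := Fin 2) (R := F₀))
      have hcPSL : 2 * Nat.card (Matrix.ProjectiveSpecialLinearGroup (Fin 2) F₀)
          = q₀ * (q₀ - 1) * (q₀ + 1) := by
        have := Linear.card_PSL_two_mul (F := F₀)
        rw [hFc] at this
        rwa [show Nat.gcd 2 (q₀ - 1) = 2 from Nat.gcd_eq_left ⟨k, hk'.symm⟩] at this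
      have hle : L.range ≤ H := by
        rw [MonoidHom.range_eq_map, Subgroup.map_le_iff_le_comap]
        rcases hs.eq_bot_or_eq_top_of_normal (H.comap L) inferInstance with hb' | ht
        · exfalso
          have h2' : (H.comap L).index ≤ 2 := by
            rw [Subgroup.index_comap]
            exact (Nat.le_of_dvd (by rw [hHi]; norm_num)
              (Subgroup.relIndex_dvd_index_of_normal H _)).trans hHi.le
          rw [hb', Subgroup.index_bot] at h2'
          have : 4 * 1 * 5 ≤ q₀ * (q₀ - 1) * (q₀ + 1) := by gcongr <;> omega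
          omega
        · rw [ht]
      have hHeq : L.range = H := by
        refine Subgroup.eq_of_le_of_card_ge hle ?_
        rw [hHc, ← Nat.card_congr (MonoidHom.ofInjective
          (ProjectiveSpecialLinearGroup.toPGL_injective (n := Fin 2) (R := F₀))).toEquiv]
        rw [← hk'] at hcPSL
        refine le_of_eq (Nat.eq_of_mul_eq_mul_left (by norm_num : 0 < 2) ?_)
        rw [hcPSL]; ring
      show G' = _
      rw [← hHG, ← hHeq, ← MonoidHom.range_comp]
      rfl
  · intro x hx
    have hxo : h • x ∈ orbit G y := by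
      rcases hx with rfl | rfl | rfl
      · rw [h1]; exact mem_orbit_self y
      · rw [h2]; exact hb
      · rw [h3]; exact hc
    obtain ⟨g₀, hg₀⟩ := hxo
    obtain ⟨u, hu, hu1⟩ : ∃ u ∈ P, u ≠ (1 : G) :=
      P.bot_or_exists_ne_one.resolve_left fun e => by
        have h' := hq
        rw [hq₀, e, Subgroup.card_bot] at h'
        omega
    obtain ⟨huy, hup⟩ := (hP u).1 hu
    refine ⟨((g₀ * u * g₀⁻¹ : G) : PGL(2, K)), SetLike.coe_mem _,
      fun e => hu1 (conj_eq_one_iff.1 (Subtype.ext e)), ?_, ?_⟩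
    · rw [← Subgroup.coe_pow, conj_pow, hup]; simp
    · rw [← hg₀]
      show (g₀ * u * g₀⁻¹) • g₀ • y = g₀ • y
      rw [mul_smul, mul_smul, inv_smul_smul, huy]

/-- **Dickson**: the finite subgroups of `PGL(2, K)`. -/
theorem classify [IsAlgClosed K] (G : Subgroup PGL(2, K)) [Finite G] :
    (IsCyclic G ∧ ¬ p ∣ Nat.card G) ∨
    (∃ (a b : OnePoint K) (n : ℕ), a ≠ b ∧ 2 ≤ n ∧ ¬ p ∣ n ∧ Nonempty (G ≃* DihedralGroup n) ∧
      orbit G a = {a, b} ∧ Nat.card (stabilizer G a) = n ∧ Nat.card G = 2 * n) ∨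
    ((∃ a : OnePoint K, ∀ g ∈ G, g • a = a) ∧ p ∣ Nat.card G) ∨
    (p ≠ 2 ∧ Nat.card G = 12 ∧ Nonempty (G ≃* alternatingGroup (Fin 4))) ∨
    (p ≠ 2 ∧ Nat.card G = 24 ∧ Nonempty (G ≃* Equiv.Perm (Fin 4))) ∨
    (p ≠ 2 ∧ Nat.card G = 60 ∧ Nonempty (G ≃* alternatingGroup (Fin 5))) ∨
    (∃ (F₀ : Subfield K) (h : PGL(2, K)), Finite F₀ ∧ 4 ≤ Nat.card F₀ ∧
      (G.map (MulAut.conj h⁻¹).toMonoidHom = (subPGL F₀).range ∨
        (G.map (MulAut.conj h⁻¹).toMonoidHom = (subPSL F₀).range ∧ Odd (Nat.card F₀))) ∧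
      (∀ x ∈ ({∞, ((0 : K) : OnePoint K), ((1 : K) : OnePoint K)} : Set (OnePoint K)),
        ∃ g ∈ G, g ≠ 1 ∧ g ^ p = 1 ∧ g • (h • x) = h • x)) := by
  have hR := rot_subgroup (p := p) G
  rcases Nat.lt_or_ge 1 (Nat.card G) with hG | hG
  swap
  · left
    have h1 : Nat.card G = 1 := le_antisymm hG Nat.card_pos
    have : Subsingleton G := (Nat.card_eq_one_iff_unique.1 h1).1
    refine ⟨isCyclic_of_subsingleton, ?_⟩
    rw [h1]
    exact (Fact.out : p.Prime).not_dvd_one
  rcases hR.outcome hG with ⟨⟨a, b, hab, hfix⟩, hp⟩ | ⟨a, b, hab, horb, hn2, hpn, hc⟩ |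
    ⟨⟨a, ha⟩, hp⟩ | ⟨hp2, hc, ho⟩ | ⟨y, P, k, hP, hq, hn, hst, hk⟩
  · exact Or.inl ⟨isCyclic_two_fixed G.subtype G.subtype_injective hab hfix, hp⟩
  · exact Or.inr (Or.inl ⟨a, b, _, hab, hn2, hpn, dihedral_of_pair G hab horb hc, horb, rfl, hc⟩)
  · exact Or.inr (Or.inr (Or.inl ⟨⟨a, fun g hg => ha ⟨g, hg⟩⟩, hp⟩))
  · rcases hc with hc | hc | hc
    · exact Or.inr (Or.inr (Or.inr (Or.inl ⟨hp2, hc, equiv_alt_four hc fun g e => ho g (by simp [e])⟩)))
    · exact Or.inr (Or.inr (Or.inr (Or.inr (Or.inl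
        ⟨hp2, hc, equiv_perm_four hc fun g e => ho g (by simp [e])⟩))))
    · exact Or.inr (Or.inr (Or.inr (Or.inr (Or.inr (Or.inl ⟨hp2, hc, equiv_alt_five hc ho⟩)))))
  · exact Or.inr (Or.inr (Or.inr (Or.inr (Or.inr (Or.inr (subfield_of_orbit G hP hq hn hst hk))))))

end Cfsg.Agent.MaxSub.Dickson
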