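import Mathlib.GroupTheory.Sylow
import Mathlib.GroupTheory.GroupAction.Quotient
import Mathlib.Algebra.BigOperators.Fin

/-!
Orbit counting for a finite group acting so that every non-trivial element fixes exactly one point
(when it has order `p`) or exactly two (otherwise): the combinatorial heart of Dickson's
classification of the finite subgroups of `PGL(2, K)`.
-/

set_option autoImplicit false
set_option linter.unusedSectionVars false

namespace Cfsg.Agent.MaxSub.Dickson

open MulAction

/-- An action in which every non-trivial element fixes one point or two, one exactly when it has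
order `p`, and in which elements of order `p` with a common fixed point commute. -/
structure Rot (p : ℕ) (G X : Type*) [Group G] [MulAction G X] : Prop where
  fix : ∀ g : G, ∃ a : X, g • a = a
  one : ∀ g : G, g ≠ 1 → g ^ p = 1 → ∀ a b : X, g • a = a → g • b = b → a = b
  two : ∀ g : G, g ^ p ≠ 1 → ∀ a : X, g • a = a → ∃ b, b ≠ a ∧ g • b = b
  three : ∀ g : G, ∀ a b c : X, a ≠ b → a ≠ c → b ≠ c → g • a = a → g • b = b → g • c = c → g = 1
  exp : ∀ g : G, ∀ a : X, g • a = a → ∀ n : ℕ, g ^ p ^ n = 1 → g ^ p = 1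
  comm : ∀ g h : G, ∀ a : X, g • a = a → h • a = a → g ^ p = 1 → h ^ p = 1 → g * h = h * g

variable {p : ℕ} [hp : Fact p.Prime] {G X : Type*} [Group G] [Finite G] [MulAction G X]

/-- If all stabilisers of an action equal `L`, the index of `L` divides the number of points. -/
theorem index_dvd_card_of_stabilizer_eq {H α : Type*} [Group H] [Finite α] [MulAction H α]
    (L : Subgroup H) (h : ∀ x : α, stabilizer H x = L) : L.index ∣ Nat.card α := by
  classical
  rw [Nat.card_congr (selfEquivSigmaOrbits H α)]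
  have : Fintype (orbitRel.Quotient H α) := Fintype.ofFinite _
  rw [Nat.card_sigma]
  refine Finset.dvd_sum fun ω _ => ?_
  rw [Nat.card_coe_set_eq, ← index_stabilizer, h]

theorem Rot.fixed_finite (hR : Rot p G X) {g : G} (hg : g ≠ 1) :
    {x : X | g • x = x}.Finite := by
  classical
  obtain ⟨a, ha⟩ := hR.fix g
  by_cases hb : ∃ b, b ≠ a ∧ g • b = b
  · obtain ⟨b, hb1, hb2⟩ := hb
    refine Set.Finite.subset (s := {a, b}) (by simp) fun c hc => ?_
    by_contra hn
    simp only [Set.mem_insert_iff, Set.mem_singleton_iff, not_or] at hn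
    exact hg (hR.three g a b c hb1.symm (Ne.symm hn.1) (Ne.symm hn.2) ha hb2 hc)
  · push Not at hb
    refine Set.Finite.subset (s := {a}) (by simp) fun c hc => ?_
    by_contra hn
    exact hb c (by simpa using hn) hc

/-- The number of fixed points of a non-trivial element. -/
theorem Rot.ncard_fixed (hR : Rot p G X) {g : G} (hg : g ≠ 1) [Decidable (g ^ p = 1)] :
    {x : X | g • x = x}.ncard + (if g ^ p = 1 then 1 else 0) = 2 := by
  obtain ⟨a, ha⟩ := hR.fix g
  by_cases hp' : g ^ p = 1
  · have : {x : X | g • x = x} = {a} :=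
      Set.eq_singleton_iff_unique_mem.2 ⟨ha, fun x hx => hR.one g hg hp' x a hx ha⟩
    rw [this, Set.ncard_singleton, if_pos hp']
  · obtain ⟨b, hb, hb'⟩ := hR.two g hp' a ha
    have : {x : X | g • x = x} = {a, b} := by
      ext c
      refine ⟨fun hc => ?_, ?_⟩
      · by_contra hn
        simp only [Set.mem_insert_iff, Set.mem_singleton_iff, not_or] at hn
        exact hg (hR.three g a b c hb.symm (Ne.symm hn.1) (Ne.symm hn.2) ha hb' hc)
      · rintro (rfl | rfl) <;> assumption
    rw [this, Set.ncard_pair hb.symm, if_neg hp']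

/-- The points with non-trivial stabiliser. -/
def special (G X : Type*) [Group G] [MulAction G X] : Set X := {x | stabilizer G x ≠ ⊥}

theorem mem_special_iff {x : X} : x ∈ special G X ↔ ∃ g : G, g ≠ 1 ∧ g • x = x := by
  simp only [special, Set.mem_ofPred_eq, Ne, Subgroup.eq_bot_iff_forall, mem_stabilizer_iff]
  push Not
  exact ⟨fun ⟨g, h1, h2⟩ => ⟨g, h2, h1⟩, fun ⟨g, h1, h2⟩ => ⟨g, h2, h1⟩⟩

theorem Rot.special_finite (hR : Rot p G X) : (special G X).Finite := by
  refine Set.Finite.subset (s := ⋃ g : {g : G // g ≠ 1}, {x | (g : G) • x = x})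
    (Set.finite_iUnion fun g => hR.fixed_finite g.2) fun x hx => ?_
  obtain ⟨g, hg, hgx⟩ := mem_special_iff.1 hx
  exact Set.mem_iUnion.2 ⟨⟨g, hg⟩, hgx⟩

/-- The weight of a set of points: the number of incidences with non-trivial group elements. -/
noncomputable def weight (G : Type*) {X : Type*} [Group G] [MulAction G X] (s : Finset X) : ℕ :=
  ∑ x ∈ s, (Nat.card (stabilizer G x) - 1)

theorem orbit_special {x y : X} (hx : x ∈ special G X) (hy : y ∈ orbit G x) :
    y ∈ special G X := by
  obtain ⟨g, rfl⟩ := hy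
  obtain ⟨t, ht, htx⟩ := mem_special_iff.1 hx
  exact mem_special_iff.2 ⟨g * t * g⁻¹, fun e => ht (by simpa using conj_eq_one_iff.1 e),
    by rw [mul_smul, mul_smul, inv_smul_smul, htx]⟩

theorem card_orbit_mul (x : X) :
    (orbit G x).ncard * Nat.card (stabilizer G x) = Nat.card G := by
  rw [← index_stabilizer, Subgroup.index_mul_card]

/-- Removing one orbit from an invariant set. -/
theorem weight_step {s : Finset X} (hs : ∀ x ∈ s, ∀ g : G, g • x ∈ s) {x : X} (hx : x ∈ s) :
    ∃ t : Finset X, t ⊆ s ∧ (∀ y ∈ t, ∀ g : G, g • y ∈ t) ∧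
      (∀ y ∈ s, y ∈ t ↔ y ∉ orbit G x) ∧
      weight G s = (Nat.card G - (orbit G x).ncard) + weight G t := by
  classical
  refine ⟨s.filter (· ∉ orbit G x), Finset.filter_subset _ _, ?_, ?_, ?_⟩
  · intro y hy g
    rw [Finset.mem_filter] at hy ⊢
    exact ⟨hs y hy.1 g, fun h => hy.2 (by
      obtain ⟨k, hk⟩ := h
      exact ⟨g⁻¹ * k, show (g⁻¹ * k) • x = y by rw [mul_smul]; exact inv_smul_eq_iff.2 hk⟩)⟩
  · intro y hy
    simp [hy]
  · rw [weight, weight, ← Finset.sum_filter_add_sum_filter_not s (· ∈ orbit G x)]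
    congr 1
    have hconst : ∀ y ∈ s.filter (· ∈ orbit G x),
        Nat.card (stabilizer G y) - 1 = Nat.card (stabilizer G x) - 1 := by
      intro y hy
      rw [Finset.mem_filter] at hy
      have h1 := card_orbit_mul (G := G) y
      have h2 := card_orbit_mul (G := G) x
      rw [orbit_eq_iff.2 hy.2] at h1
      have hne : (orbit G x).ncard ≠ 0 := fun h0 => by
        rw [h0, zero_mul] at h2
        exact Nat.card_pos.ne' h2.symm
      rw [Nat.eq_of_mul_eq_mul_left (Nat.pos_of_ne_zero hne) (h1.trans h2.symm)]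
    rw [Finset.sum_congr rfl hconst, Finset.sum_const, smul_eq_mul, Nat.mul_sub, mul_one]
    have hcard : (s.filter (· ∈ orbit G x)).card = (orbit G x).ncard := by
      rw [← Set.ncard_coe_finset]
      congr 1
      ext y
      simp only [Finset.coe_filter, Set.mem_ofPred_eq, and_iff_right_iff_imp]
      rintro ⟨g, rfl⟩
      exact hs x hx g
    rw [hcard, card_orbit_mul]

/-- The incidence count. -/
theorem Rot.weight_special (hR : Rot p G X) :
    weight G hR.special_finite.toFinset + {g : G | g ≠ 1 ∧ g ^ p = 1}.ncard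
      = 2 * (Nat.card G - 1) := by
  classical
  have : Fintype G := Fintype.ofFinite G
  set S := hR.special_finite.toFinset with hS
  have h1 : weight G S = ∑ g ∈ (Finset.univ.erase (1 : G)), {x : X | g • x = x}.ncard := by
    have hl : ∀ x ∈ S, Nat.card (stabilizer G x) - 1
        = ((Finset.univ.erase (1 : G)).filter fun g => g • x = x).card := by
      intro x _
      have : (Finset.univ.erase (1 : G)).filter (fun g => g • x = x)
          = (Finset.univ.filter fun g : G => g • x = x).erase 1 := by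
        ext g; simp [and_comm]
      rw [this, Finset.card_erase_of_mem (by simp), Nat.card_eq_fintype_card]
      congr 1
      exact Fintype.card_of_subtype _ (fun g => by simp [mem_stabilizer_iff])
    rw [weight, Finset.sum_congr rfl hl]
    simp only [Finset.card_filter]
    rw [Finset.sum_comm]
    refine Finset.sum_congr rfl fun g hg => ?_
    rw [← Finset.card_filter, ← Set.ncard_coe_finset]
    congr 1
    ext x
    simp only [Finset.coe_filter, Set.mem_ofPred_eq, hS, Set.Finite.mem_toFinset]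
    exact ⟨fun h => h.2, fun h => ⟨mem_special_iff.2 ⟨g, Finset.ne_of_mem_erase hg, h⟩, h⟩⟩
  have h2 : {g : G | g ≠ 1 ∧ g ^ p = 1}.ncard
      = ∑ g ∈ (Finset.univ.erase (1 : G)), (if g ^ p = 1 then 1 else 0) := by
    rw [← Finset.card_filter, ← Set.ncard_coe_finset]
    congr 1
    ext g; simp
  rw [h1, h2, ← Finset.sum_add_distrib,
    Finset.sum_congr rfl fun g hg => hR.ncard_fixed (Finset.ne_of_mem_erase hg),
    Finset.sum_const, smul_eq_mul, Finset.card_erase_of_mem (Finset.mem_univ _), Finset.card_univ,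
    Nat.card_eq_fintype_card, mul_comm]

/-- Facts about the orbit of the fixed point of a Sylow `p`-subgroup. -/
theorem Rot.exists_center (hR : Rot p G X) (hp' : p ∣ Nat.card G) :
    ∃ (y : X) (P : Subgroup G), P ≤ stabilizer G y ∧ (∀ g, g ∈ P ↔ g • y = y ∧ g ^ p = 1) ∧
      1 < Nat.card P ∧ (∃ e, Nat.card P = p ^ e) ∧ (P.index.Coprime p) ∧
      (∀ g : G, g ≠ 1 → g ^ p = 1 → ∀ x : X, g • x = x → x ∈ orbit G y) ∧
      {g : G | g ≠ 1 ∧ g ^ p = 1}.ncard = (orbit G y).ncard * (Nat.card P - 1) := by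
  classical
  obtain ⟨S⟩ : Nonempty (Sylow p G) := inferInstance
  have hS1 : (S : Subgroup G) ≠ ⊥ := by
    intro h
    have := S.dvd_card_of_dvd_card hp'
    rw [h, Subgroup.card_bot] at this
    exact hp.out.one_lt.ne' (Nat.dvd_one.1 this)
  have : Nontrivial (S : Subgroup G) := (Subgroup.nontrivial_iff_ne_bot _).2 hS1
  have hc : Nontrivial (Subgroup.center (S : Subgroup G)) := S.2.center_nontrivial
  obtain ⟨z, hz⟩ : ∃ z : Subgroup.center (S : Subgroup G), orderOf z = p := by
    obtain ⟨n, hn0, hn⟩ := (S.2.to_subgroup (Subgroup.center (S : Subgroup G))).nontrivial_iff_card.1 hc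
    exact exists_prime_orderOf_dvd_card' p (by rw [hn]; exact dvd_pow_self p hn0.ne')
  set w : G := ((z : (S : Subgroup G)) : G) with hw
  have hw1 : w ≠ 1 := by
    intro e
    have hz1 : z = 1 := by ext; exact e
    rw [hz1, orderOf_one] at hz
    exact hp.out.one_lt.ne hz
  have hwp : w ^ p = 1 := by
    have : z ^ p = 1 := orderOf_dvd_iff_pow_eq_one.1 hz.dvd
    rw [hw, ← Subgroup.coe_pow, ← Subgroup.coe_pow, this]; rfl
  obtain ⟨y, hy⟩ := hR.fix w
  have hPy : ∀ g ∈ (S : Subgroup G), g • y = y ∧ g ^ p = 1 := by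
    intro g hg
    have hcomm : g * w = w * g := by
      have := Subgroup.mem_center_iff.1 z.2 ⟨g, hg⟩
      exact congrArg Subtype.val this
    have hgy : g • y = y := hR.one w hw1 hwp _ _ (by rw [← mul_smul, ← hcomm, mul_smul, hy]) hy
    obtain ⟨n, hn⟩ := S.2 ⟨g, hg⟩
    exact ⟨hgy, hR.exp g y hgy n (congrArg Subtype.val hn)⟩
  have hmem : ∀ g, g ∈ (S : Subgroup G) ↔ g • y = y ∧ g ^ p = 1 := by
    let U : Subgroup G :=
      { carrier := {g | g • y = y ∧ g ^ p = 1}
        mul_mem' := fun {a b} ha hb => ⟨by rw [mul_smul, hb.1, ha.1], by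
          have hab : Commute a b := hR.comm a b y ha.1 hb.1 ha.2 hb.2
          rw [hab.mul_pow, ha.2, hb.2, one_mul]⟩
        one_mem' := ⟨one_smul _ _, one_pow _⟩
        inv_mem' := fun {a} ha => ⟨inv_smul_eq_iff.2 ha.1.symm, by rw [inv_pow, ha.2, inv_one]⟩ }
    have hU : IsPGroup p U := fun g => ⟨1, Subtype.ext (by rw [pow_one]; exact g.2.2)⟩
    have := S.3 hU (fun g hg => hPy g hg)
    intro g
    exact ⟨hPy g, fun h => this ▸ (h : g ∈ U)⟩
  have horb : ∀ g : G, g ≠ 1 → g ^ p = 1 → ∀ x : X, g • x = x → x ∈ orbit G y := by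
    intro g hg hgp x hgx
    have hg' : IsPGroup p (Subgroup.zpowers g) := by
      have ho : orderOf g = p := by
        rcases hp.out.eq_one_or_self_of_dvd _ (orderOf_dvd_of_pow_eq_one hgp) with h | h
        · exact absurd (orderOf_eq_one_iff.1 h) hg
        · exact h
      exact IsPGroup.of_card (n := 1) (by rw [Nat.card_zpowers, ho, pow_one])
    obtain ⟨T, hT⟩ := hg'.exists_le_sylow
    obtain ⟨k, hk⟩ := exists_smul_eq G S T
    have hgk : k⁻¹ * g * k ∈ (S : Subgroup G) := by
      have : g ∈ (T : Subgroup G) := hT (Subgroup.mem_zpowers g)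
      rw [← hk, Sylow.coe_subgroup_smul, Subgroup.mem_pointwise_smul_iff_inv_smul_mem] at this
      simpa [MulAut.inv_apply, MulAut.conj_symm_apply] using this
    have := ((hmem _).1 hgk).1
    rw [mul_smul, mul_smul, inv_smul_eq_iff] at this
    exact ⟨k, hR.one g hg hgp _ _ this hgx⟩
  refine ⟨y, S, fun g hg => (hPy g hg).1, hmem, Subgroup.one_lt_card_iff_ne_bot _ |>.2 hS1,
    IsPGroup.iff_card.1 S.2, (hp.out.coprime_iff_not_dvd.2 S.not_dvd_index).symm, horb, ?_⟩
  have : Fintype G := Fintype.ofFinite G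
  have hfin : (orbit G y).Finite := Set.finite_range _
  have hcount : ∀ x ∈ hfin.toFinset,
      ((Finset.univ : Finset G).filter fun g => (g ≠ 1 ∧ g ^ p = 1) ∧ g • x = x).card
        = Nat.card (S : Subgroup G) - 1 := by
    intro x hx
    rw [Set.Finite.mem_toFinset] at hx
    obtain ⟨k, rfl⟩ := hx
    have e : ((Finset.univ : Finset G).filter fun g => (g ≠ 1 ∧ g ^ p = 1) ∧ g • (k • y) = k • y)
        = (((Finset.univ : Finset G).filter (· ∈ (S : Subgroup G))).erase 1).image
            (fun g => k * g * k⁻¹) := by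
      ext g
      simp only [Finset.mem_filter, Finset.mem_univ, true_and, Finset.mem_image, Finset.mem_erase]
      constructor
      · rintro ⟨⟨h1, h2⟩, h3⟩
        refine ⟨k⁻¹ * g * k, ⟨fun e => h1 ?_, (hmem _).2 ⟨?_, ?_⟩⟩, by group⟩
        · calc g = k * (k⁻¹ * g * k) * k⁻¹ := by group
            _ = 1 := by rw [e]; group
        · rw [mul_smul, mul_smul, h3, inv_smul_smul]
        · rw [show k⁻¹ * g * k = k⁻¹ * g * (k⁻¹)⁻¹ by rw [inv_inv], conj_pow, h2]; group
      · rintro ⟨a, ⟨ha1, ha2⟩, rfl⟩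
        obtain ⟨h1, h2⟩ := (hmem a).1 ha2
        exact ⟨⟨fun e => ha1 (conj_eq_one_iff.1 e), by rw [conj_pow, h2]; group⟩,
          by rw [mul_smul, mul_smul, inv_smul_smul, h1]⟩
    rw [e, Finset.card_image_of_injective _ (fun a b h => by simpa using h),
      Finset.card_erase_of_mem (by simp), Nat.card_eq_fintype_card]
    congr 1
    exact (Fintype.card_of_subtype _ (fun g => by simp)).symm
  have e2 : {g : G | g ≠ 1 ∧ g ^ p = 1}.ncard
      = ∑ g ∈ (Finset.univ : Finset G).filter (fun g => g ≠ 1 ∧ g ^ p = 1),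
          (hfin.toFinset.filter fun x => g • x = x).card := by
    have h1 : ∀ g ∈ (Finset.univ : Finset G).filter (fun g => g ≠ 1 ∧ g ^ p = 1),
        (hfin.toFinset.filter fun x => g • x = x).card = 1 := by
      intro g hg
      simp only [Finset.mem_filter, Finset.mem_univ, true_and] at hg
      obtain ⟨x, hx⟩ := hR.fix g
      refine Finset.card_eq_one.2 ⟨x, Finset.eq_singleton_iff_unique_mem.2 ⟨?_, ?_⟩⟩
      · simp [hx, horb g hg.1 hg.2 x hx]
      · intro z hz
        simp only [Finset.mem_filter] at hz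
        exact hR.one g hg.1 hg.2 z x hz.2 hx
    rw [Finset.sum_congr rfl h1, ← Finset.card_eq_sum_ones, ← Set.ncard_coe_finset]
    congr 1
    ext g; simp
  rw [e2]
  simp only [Finset.card_filter]
  rw [Finset.sum_comm, Set.ncard_eq_toFinset_card _ hfin, ← smul_eq_mul, ← Finset.sum_const]
  refine Finset.sum_congr rfl fun x hx => ?_
  rw [← Finset.card_filter, Finset.filter_filter]
  exact hcount x hx

/-- The number of points in the orbit of the centre is `1` mod `|P|`. -/
theorem Rot.orbit_card_mod (hR : Rot p G X) {y : X} {P : Subgroup G}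
    (hP : ∀ g, g ∈ P ↔ g • y = y ∧ g ^ p = 1) :
    ∃ a, (orbit G y).ncard = 1 + a * Nat.card P := by
  classical
  let α := {x : X // x ∈ orbit G y ∧ x ≠ y}
  have hst : ∀ g ∈ P, ∀ x : X, (x ∈ orbit G y ∧ x ≠ y) → (g • x ∈ orbit G y ∧ g • x ≠ y) :=
    fun g hg x hx => ⟨mem_orbit_of_mem_orbit g hx.1, fun e => hx.2 (by
      have := ((hP g).1 hg).1
      exact MulAction.injective g (e.trans this.symm))⟩
  letI : MulAction P α :=
    { smul := fun g x => ⟨(g : G) • x.1, hst g g.2 x.1 x.2⟩
      one_smul := fun x => Subtype.ext (one_smul G x.1)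
      mul_smul := fun g h x => Subtype.ext (mul_smul (g : G) (h : G) x.1) }
  have hfin : (orbit G y).Finite := Set.finite_range _
  have : Finite α := (hfin.subset (fun x hx => hx.1) : {x | x ∈ orbit G y ∧ x ≠ y}.Finite).to_subtype
  have hbot : ∀ x : α, stabilizer P x = ⊥ := by
    intro x
    rw [Subgroup.eq_bot_iff_forall]
    intro g hg
    have hgx : (g : G) • x.1 = x.1 := congrArg Subtype.val (mem_stabilizer_iff.1 hg)
    by_contra hne
    obtain ⟨h1, h2⟩ := (hP g).1 g.2
    exact x.2.2 (hR.one (g : G) (fun e => hne (Subtype.ext e)) h2 _ _ hgx h1)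
  have hdvd := index_dvd_card_of_stabilizer_eq (⊥ : Subgroup P) hbot
  rw [Subgroup.index_bot] at hdvd
  obtain ⟨a, ha⟩ := hdvd
  refine ⟨a, ?_⟩
  have hα : Nat.card α = (orbit G y).ncard - 1 := by
    rw [← Set.ncard_sdiff_singleton_of_mem (mem_orbit_self y), ← Nat.card_coe_set_eq]
    exact Nat.card_congr (Equiv.subtypeEquivRight fun x => by simp)
  have hpos : 0 < (orbit G y).ncard := (Set.ncard_pos hfin).2 ⟨y, mem_orbit_self y⟩
  rw [hα, mul_comm] at ha
  omega

/-- The complement of `P` in the stabiliser of the centre acts freely on `P ∖ {1}`. -/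
theorem Rot.index_dvd (hR : Rot p G X) {y : X} {P : Subgroup G}
    (hP : ∀ g, g ∈ P ↔ g • y = y ∧ g ^ p = 1) :
    P.relIndex (stabilizer G y) ∣ Nat.card P - 1 := by
  classical
  let H := stabilizer G y
  let α := {u : G // u ∈ P ∧ u ≠ 1}
  have hst : ∀ g ∈ H, ∀ u : G, (u ∈ P ∧ u ≠ 1) → (g * u * g⁻¹ ∈ P ∧ g * u * g⁻¹ ≠ 1) := by
    intro g hg u hu
    obtain ⟨h1, h2⟩ := (hP u).1 hu.1
    have hg' : g • y = y := hg
    refine ⟨(hP _).2 ⟨?_, by rw [conj_pow, h2]; group⟩, fun e => hu.2 (conj_eq_one_iff.1 e)⟩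
    rw [mul_smul, mul_smul, inv_smul_eq_iff.2 hg'.symm, h1, hg']
  letI : MulAction H α :=
    { smul := fun g u => ⟨(g : G) * u.1 * (g : G)⁻¹, hst g g.2 u.1 u.2⟩
      one_smul := fun u => Subtype.ext (show (1 : G) * u.1 * (1 : G)⁻¹ = u.1 by group)
      mul_smul := fun g h u => Subtype.ext (show ((g : G) * h) * u.1 * ((g : G) * h)⁻¹
        = (g : G) * ((h : G) * u.1 * (h : G)⁻¹) * (g : G)⁻¹ by group) }
  have hstab : ∀ u : α, stabilizer H u = P.subgroupOf H := by
    intro u
    obtain ⟨hu1, hu2⟩ := (hP u.1).1 u.2.1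
    ext g
    rw [Subgroup.mem_subgroupOf, mem_stabilizer_iff]
    have hgy : (g : G) • y = y := g.2
    constructor
    · intro h
      have hcomm : (g : G) * u.1 = u.1 * g :=
        mul_inv_eq_iff_eq_mul.1 (congrArg Subtype.val h)
      refine (hP _).2 ⟨hgy, ?_⟩
      by_contra hgp
      obtain ⟨b, hb, hb'⟩ := hR.two _ hgp y hgy
      -- `u` permutes the two fixed points of `g` and fixes one of them
      have hub : u.1 • b = b := by
        by_contra hne
        refine hgp ?_
        rw [hR.three (g : G) y b (u.1 • b) hb.symm (fun e => hb ?_) (Ne.symm hne) hgy hb'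
          (by rw [← mul_smul, hcomm, mul_smul, hb']), one_pow]
        exact MulAction.injective u.1 (e.symm.trans hu1.symm)
      exact hb (hR.one u.1 u.2.2 hu2 _ _ hub hu1)
    · intro hg
      refine Subtype.ext ?_
      show (g : G) * u.1 * (g : G)⁻¹ = u.1
      rw [hR.comm _ _ y hgy hu1 ((hP _).1 hg).2 hu2, mul_inv_cancel_right]
  have hdvd := index_dvd_card_of_stabilizer_eq _ hstab
  have hα : Nat.card α = Nat.card P - 1 := by
    have hs : ((P : Set G) \ {1}).ncard = Nat.card P - 1 := by
      rw [Set.ncard_sdiff_singleton_of_mem P.one_mem, ← Nat.card_coe_set_eq, SetLike.coe_sort_coe]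
    rw [← hs, ← Nat.card_coe_set_eq]
    exact Nat.card_congr (Equiv.subtypeEquivRight fun x => by simp)
  rw [hα] at hdvd
  exact hdvd

end Cfsg.Agent.MaxSub.Dickson
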