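import Cfsg.Agent.MaxSub.Dickson.Frob

/-!
Dickson's list for `PGL(2, F)`, `F` finite: every subgroup is cyclic in a torus, dihedral in the
stabiliser of a pair, inside a point stabiliser, `A_4`, `S_4`, `A_5`, or conjugate to
`PGL(2, F₀)` or `PSL(2, F₀)`.
-/

set_option autoImplicit false
set_option linter.unusedSectionVars false

open scoped OnePoint MatrixGroups

namespace Cfsg.Agent.MaxSub.Dickson

open Matrix MulAction

section natural

theorem range_subPSL {K : Type*} [Field K] [DecidableEq K] (F₀ : Subfield K) :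
    (subPSL F₀).range = (lsub F₀).map (subPGL F₀) := by
  rw [subPSL, MonoidHom.range_comp]
  congr 1
  ext g
  constructor
  · rintro ⟨x, rfl⟩
    induction x using QuotientGroup.induction_on with | H S =>
    exact ⟨S, rfl⟩
  · rintro ⟨S, rfl⟩
    exact ⟨QuotientGroup.mk S, rfl⟩

theorem map_lsub_eq {A B : Type*} [Field A] [Field B] (e : A ≃+* B) :
    (lsub A).map (ProjGenLinGroup.map e.toRingHom) = lsub B := by
  ext g
  constructor
  · rintro ⟨-, ⟨S, rfl⟩, rfl⟩
    exact ⟨Matrix.SpecialLinearGroup.map e.toRingHom S,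
      congrArg ProjGenLinGroup.mk (Units.ext rfl)⟩
  · rintro ⟨S, rfl⟩
    refine ⟨_, ⟨Matrix.SpecialLinearGroup.map e.symm.toRingHom S, rfl⟩, ?_⟩
    refine congrArg ProjGenLinGroup.mk (Matrix.GeneralLinearGroup.ext fun i j => ?_)
    show e (e.symm (S i j)) = S i j
    simp

theorem map_pgl_surjective {A B : Type*} [Field A] [Field B] (e : A ≃+* B) :
    Function.Surjective (ProjGenLinGroup.map (n := Fin 2) e.toRingHom) := by
  intro g
  induction g using ProjGenLinGroup.induction_on with | mk S =>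
  refine ⟨ProjGenLinGroup.mk (Matrix.GeneralLinearGroup.map e.symm.toRingHom S), ?_⟩
  rw [ProjGenLinGroup.map_mk]
  refine congrArg ProjGenLinGroup.mk (Matrix.GeneralLinearGroup.ext fun i j => ?_)
  show e (e.symm (S i j)) = S i j
  simp

end natural

variable {F : Type*} [Field F] [Fintype F] [DecidableEq F]
variable {K : Type*} [Field K] [DecidableEq K] [Algebra F K]
variable {p : ℕ} [Fact p.Prime] [CharP F p]

/-- A Frobenius-stable pair of points, with the order of its torus. -/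
def IsPair (F : Type*) [Field F] [Fintype F] {K : Type*} [Field K] [DecidableEq K] [Algebra F K]
    (a b : OnePoint K) (m : ℕ) : Prop :=
  a ≠ b ∧ ((sig (F := F) K a = a ∧ sig (F := F) K b = b ∧ m = Fintype.card F - 1) ∨
    (sig (F := F) K a = b ∧ sig (F := F) K b = a ∧ m = Fintype.card F + 1))

theorem IsPair.props {a b : OnePoint K} {m : ℕ} (h : IsPair F a b m) :
    Nat.card (tor (F := F) a b) = m ∧
      (∃ w : PGL(2, F), emb K w • a = b ∧ emb K w • b = a) ∧
      (Odd (Fintype.card F) → ¬ tor (F := F) a b ≤ lsub F) := by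
  obtain ⟨hab, ⟨ha, hb, rfl⟩ | ⟨ha, hb, rfl⟩⟩ := h
  · obtain ⟨x, rfl⟩ := sig_eq_self_iff.1 ha
    obtain ⟨y, rfl⟩ := sig_eq_self_iff.1 hb
    exact tor_rational fun e => hab (by rw [e])
  · exact tor_conjugate hab ha hb

theorem IsPair.rational {x y : OnePoint F} (hxy : x ≠ y) :
    IsPair F (pt₀ K x) (pt₀ K y) (Fintype.card F - 1) :=
  ⟨fun e => hxy (pt₀_injective e), Or.inl ⟨sig_eq_self_iff.2 ⟨x, rfl⟩,
    sig_eq_self_iff.2 ⟨y, rfl⟩, rfl⟩⟩

theorem isPair_of_fixed {g : PGL(2, F)} (hg : g ≠ 1) {a b : OnePoint K} (hab : a ≠ b)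
    (ha : emb K g • a = a) (hb : emb K g • b = b) : ∃ m, IsPair F a b m := by
  rcases fixed_pair_stable hg hab ha hb with ⟨h1, h2⟩ | ⟨h1, h2⟩
  · exact ⟨_, hab, Or.inl ⟨h1, h2, rfl⟩⟩
  · exact ⟨_, hab, Or.inr ⟨h1, h2, rfl⟩⟩

/-- The cases of Dickson's list. -/
inductive Kind (K : Type*) [Field K] [DecidableEq K] [Algebra F K] (p : ℕ)
    (H : Subgroup PGL(2, F)) : Prop
  | cyclic (a b : OnePoint K) (m : ℕ) (hp : ¬ p ∣ Nat.card H) (hc : IsCyclic H)
      (hab : IsPair F a b m) (hle : H ≤ tor a b) (hdvd : Nat.card H ∣ m)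
  | dihedral (a b : OnePoint K) (m n : ℕ) (hab : IsPair F a b m) (hle : H ≤ pairStab a b)
      (hn : 2 ≤ n) (hpn : ¬ p ∣ n) (hdvd : n ∣ m) (hcard : Nat.card H = 2 * n)
      (hiso : Nonempty (H ≃* DihedralGroup n))
  | borel (x : OnePoint F) (hfix : ∀ g ∈ H, g • x = x) (hp : p ∣ Nat.card H)
  | a4 (hp : p ≠ 2) (hcard : Nat.card H = 12) (hiso : Nonempty (H ≃* alternatingGroup (Fin 4)))
  | s4 (hp : p ≠ 2) (hcard : Nat.card H = 24) (hiso : Nonempty (H ≃* Equiv.Perm (Fin 4)))
  | a5 (hp : p ≠ 2) (hcard : Nat.card H = 60) (hiso : Nonempty (H ≃* alternatingGroup (Fin 5)))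
  | pgl (F₀ : Subfield F) (h : PGL(2, F)) (h4 : 4 ≤ Nat.card F₀)
      (he : H.map (MulAut.conj h⁻¹).toMonoidHom = (subPGL F₀).range)
  | psl (F₀ : Subfield F) (h : PGL(2, F)) (h4 : 4 ≤ Nat.card F₀) (hodd : Odd (Nat.card F₀))
      (he : H.map (MulAut.conj h⁻¹).toMonoidHom = (subPSL F₀).range)

/-- **Dickson's list** for `PGL(2, F)`. -/
theorem classifyF [IsAlgClosed K] (H : Subgroup PGL(2, F)) : Kind K p H := by
  have : CharP K p := charP_of_injective_algebraMap (algebraMap F K).injective p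
  have : Finite (H.map (emb K)) :=
    Finite.of_equiv _ (H.equivMapOfInjective _ emb_injective).toEquiv
  have hR := rot_subgroup (p := p) (H.map (emb K))
  let e : H ≃* H.map (emb K) := H.equivMapOfInjective _ emb_injective
  have hcard : Nat.card (H.map (emb K)) = Nat.card H := (Nat.card_congr e.toEquiv).symm
  have hmem : ∀ {g : PGL(2, F)}, g ∈ H → emb K g ∈ H.map (emb K) := fun hg =>
    Subgroup.mem_map_of_mem _ hg
  rcases classify (p := p) (H.map (emb K)) with ⟨hc, hp⟩ |
    ⟨a, b, n, hab, hn2, hpn, ⟨iso⟩, horb, hst, hc⟩ | ⟨⟨a, ha⟩, hp⟩ | ⟨hp2, hc, ⟨iso⟩⟩ |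
    ⟨hp2, hc, ⟨iso⟩⟩ | ⟨hp2, hc, ⟨iso⟩⟩ | ⟨F₀, h, hfin, h4, hor, hpts⟩
  · rw [hcard] at hp
    have hcyc : IsCyclic H := isCyclic_of_surjective e.symm e.symm.surjective
    obtain ⟨g, hg⟩ := hcyc.exists_generator
    by_cases hg1 : (g : PGL(2, F)) = 1
    · have hH : H = ⊥ := by
        rw [Subgroup.eq_bot_iff_forall]
        intro x hx
        obtain ⟨k, hk⟩ := hg ⟨x, hx⟩
        rw [← show (g : PGL(2, F)) ^ k = x from congrArg Subtype.val hk, hg1, _root_.one_zpow]
      have hne : (∞ : OnePoint F) ≠ ((0 : F) : OnePoint F) := OnePoint.infty_ne_coe _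
      refine .cyclic _ _ _ hp hcyc (IsPair.rational (K := K) hne) (hH ▸ bot_le) ?_
      rw [hH, Subgroup.card_bot]; exact one_dvd _
    · obtain ⟨a, ha⟩ := exists_fixed (emb K (g : PGL(2, F)))
      have hgp : (⟨emb K g, hmem g.2⟩ : H.map (emb K)) ^ p ≠ 1 := by
        intro e'
        refine hp ?_
        have h1 : g ^ p = 1 := Subtype.ext (emb_injective (K := K)
          (by rw [Subgroup.coe_pow, map_pow, Subgroup.coe_one, map_one]; exact congrArg Subtype.val e'))
        rcases (Fact.out : p.Prime).eq_one_or_self_of_dvd _ (orderOf_dvd_of_pow_eq_one h1) with h | h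
        · exact absurd (congrArg Subtype.val (orderOf_eq_one_iff.1 h)) hg1
        · exact h ▸ _root_.orderOf_dvd_natCard g
      obtain ⟨b, hb, hb'⟩ := hR.two _ hgp a ha
      obtain ⟨m, hm⟩ := isPair_of_fixed hg1 hb.symm ha hb'
      have hle : H ≤ tor a b := fun x hx => by
        obtain ⟨k, hk⟩ := hg ⟨x, hx⟩
        rw [← show (g : PGL(2, F)) ^ k = x from congrArg Subtype.val hk]
        exact zpow_mem (show (g : PGL(2, F)) ∈ tor a b from ⟨ha, hb'⟩) k
      exact .cyclic a b m hp hcyc hm hle (hm.props.1 ▸ Subgroup.card_dvd_of_le hle)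
  · rw [hcard] at hc
    have hfixb : ∀ x : H.map (emb K), x • a = a → x • b = b := by
      intro x hx
      have hb : b ∈ orbit (H.map (emb K)) a := by rw [horb]; simp
      have h1 := mem_orbit_of_mem_orbit x hb
      rw [horb] at h1
      rcases h1 with h1 | h1
      · exact absurd (MulAction.injective x (h1.trans hx.symm)) hab.symm
      · exact h1
    obtain ⟨c, hc1⟩ : ∃ c : stabilizer (H.map (emb K)) a, c ≠ 1 := by
      have : Nontrivial (stabilizer (H.map (emb K)) a) :=
        Finite.one_lt_card_iff_nontrivial.1 (by omega)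
      exact exists_ne 1
    obtain ⟨g, hgH, hgc⟩ := (c : H.map (emb K)).2
    have hga : emb K g • a = a := by rw [hgc]; exact c.2
    have hgb : emb K g • b = b := by rw [hgc]; exact hfixb _ c.2
    obtain ⟨m, hm⟩ := isPair_of_fixed (g := g) (fun e' => hc1 (Subtype.ext (Subtype.ext
      (by rw [← hgc, e', map_one]; rfl)))) hab hga hgb
    have hle : H ≤ pairStab a b := by
      intro x hx
      have h1 : (⟨emb K x, hmem hx⟩ : H.map (emb K)) • a ∈ orbit (H.map (emb K)) a := ⟨_, rfl⟩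
      rw [horb] at h1
      rcases h1 with h1 | h1
      · exact Or.inl ⟨h1, hfixb ⟨_, hmem hx⟩ h1⟩
      · refine Or.inr ⟨h1, ?_⟩
        have hb : b ∈ orbit (H.map (emb K)) a := by rw [horb]; simp
        have h2 := mem_orbit_of_mem_orbit (⟨_, hmem hx⟩ : H.map (emb K)) hb
        rw [horb] at h2
        rcases h2 with h2 | h2
        · exact h2
        · exact absurd (MulAction.injective _ (h1.trans h2.symm)) hab
    refine .dihedral a b m n hm hle hn2 hpn ?_ hc ⟨e.trans iso⟩
    rw [← hst, ← hm.props.1]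
    let f : stabilizer (H.map (emb K)) a →* PGL(2, K) :=
      (H.map (emb K)).subtype.comp (stabilizer (H.map (emb K)) a).subtype
    have hf : Function.Injective f := Subtype.val_injective.comp Subtype.val_injective
    rw [Nat.card_congr (MonoidHom.ofInjective hf).toEquiv,
      Nat.card_congr ((tor (F := F) a b).equivMapOfInjective _ (emb_injective (K := K))).toEquiv]
    refine Subgroup.card_dvd_of_le ?_
    rintro _ ⟨x, rfl⟩
    obtain ⟨y, -, hy⟩ := (x : H.map (emb K)).2
    refine ⟨y, ?_, hy⟩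
    show emb K y • a = a ∧ emb K y • b = b
    rw [hy]
    exact ⟨x.2, hfixb _ x.2⟩
  · rw [hcard] at hp
    obtain ⟨g, hg⟩ := exists_prime_orderOf_dvd_card' (G := H) p hp
    have hg1 : (g : PGL(2, F)) ≠ 1 := fun e' => by
      rw [← Subgroup.orderOf_coe, e', orderOf_one] at hg
      exact (Fact.out : p.Prime).one_lt.ne hg
    obtain ⟨c, hc⟩ := fixed_rational (K := K) hg1
      (by rw [← hg, ← Subgroup.orderOf_coe, pow_orderOf_eq_one]) (ha _ (hmem g.2))
    refine .borel c (fun x hx => pt₀_injective (K := K) ?_) hp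
    rw [← emb_pt, hc]
    exact ha _ (hmem hx)
  · exact .a4 hp2 (hcard ▸ hc) ⟨e.trans iso⟩
  · exact .s4 hp2 (hcard ▸ hc) ⟨e.trans iso⟩
  · exact .a5 hp2 (hcard ▸ hc) ⟨e.trans iso⟩
  · have hrat : ∀ x ∈ ({∞, ((0 : K) : OnePoint K), ((1 : K) : OnePoint K)} : Set (OnePoint K)),
        ∃ c : OnePoint F, pt₀ K c = h • x := by
      intro x hx
      obtain ⟨g, hg, hg1, hgp, hgx⟩ := hpts x hx
      obtain ⟨g₀, -, rfl⟩ := hg
      refine fixed_rational (g := g₀) (fun e' => hg1 (by rw [e', map_one])) ?_ hgx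
      exact emb_injective (K := K) (by rw [map_pow, map_one]; exact hgp)
    obtain ⟨a, ha⟩ := hrat ∞ (by simp)
    obtain ⟨b, hb⟩ := hrat ((0 : K) : OnePoint K) (by simp)
    obtain ⟨c, hc⟩ := hrat ((1 : K) : OnePoint K) (by simp)
    have e1 : (∞ : OnePoint K) ≠ ((0 : K) : OnePoint K) := OnePoint.infty_ne_coe _
    have e2 : (∞ : OnePoint K) ≠ ((1 : K) : OnePoint K) := OnePoint.infty_ne_coe _
    have e3 : ((0 : K) : OnePoint K) ≠ ((1 : K) : OnePoint K) := by simp
    obtain ⟨h₀, k1, k2, k3⟩ := exists_move_three (a := a) (b := b) (c := c)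
      (fun e' => e1 (MulAction.injective h (ha.symm.trans ((congrArg _ e').trans hb))))
      (fun e' => e2 (MulAction.injective h (ha.symm.trans ((congrArg _ e').trans hc))))
      (fun e' => e3 (MulAction.injective h (hb.symm.trans ((congrArg _ e').trans hc))))
    have p0 : pt₀ K ((0 : F) : OnePoint F) = ((0 : K) : OnePoint K) := by simp [pt₀_coe]
    have p1 : pt₀ K ((1 : F) : OnePoint F) = ((1 : K) : OnePoint K) := by simp [pt₀_coe]
    have hh : emb K h₀ = h := eq_of_three e1 e2 e3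
      (by rw [← ha, ← k1, ← emb_pt, pt₀_infty]) (by rw [← hb, ← k2, ← emb_pt, p0])
      (by rw [← hc, ← k3, ← emb_pt, p1])
    subst hh
    have hF₀ : ∀ x ∈ F₀, ∃ c : F, algebraMap F K c = x := by
      intro x hx
      have hxm : aff (1 : Kˣ) x ∈ (subPSL F₀).range := by
        rw [range_subPSL]
        refine ⟨aff 1 ⟨x, hx⟩, ⟨⟨!![1, ⟨x, hx⟩; 0, 1], by simp [Matrix.det_fin_two]⟩, ?_⟩, ?_⟩
        · exact congrArg ProjGenLinGroup.mk (Matrix.GeneralLinearGroup.ext fun i j => by
            fin_cases i <;> fin_cases j <;> rfl)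
        · rw [subPGL, aff, aff, ProjGenLinGroup.map_mk]
          exact congrArg ProjGenLinGroup.mk (Matrix.GeneralLinearGroup.ext fun i j => by
            fin_cases i <;> fin_cases j <;> simp [GeneralLinearGroup.mkOfDetNeZero])
      have hxm' : aff (1 : Kˣ) x ∈ (emb (F := F) K).range := by
        have hsub : (H.map (emb K)).map (MulAut.conj (emb K h₀)⁻¹).toMonoidHom
            ≤ (emb (F := F) K).range := by
          rintro _ ⟨_, ⟨y, -, rfl⟩, rfl⟩
          exact ⟨h₀⁻¹ * y * h₀, by simp⟩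
        rcases hor with he | ⟨he, -⟩ <;> rw [he] at hsub
        · exact hsub (by
            rw [range_subPSL] at hxm
            obtain ⟨z, -, hz⟩ := hxm
            exact ⟨z, hz⟩)
        · exact hsub hxm
      obtain ⟨g, hg⟩ := hxm'
      have h0 := emb_pt (K := K) g ((0 : F) : OnePoint F)
      rw [hg, p0, aff_coe] at h0
      simp only [mul_zero, zero_add] at h0
      generalize g • ((0 : F) : OnePoint F) = z at h0
      induction z using OnePoint.rec with
      | infty => exact absurd h0 (OnePoint.coe_ne_infty _)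
      | coe z => exact ⟨z, (OnePoint.coe_eq_coe.1 h0).symm⟩
    let F₁ : Subfield F := F₀.comap (algebraMap F K)
    let ψ : F₁ →+* F₀ := ((algebraMap F K).comp F₁.subtype).codRestrict F₀ (fun x => x.2)
    have hψ : Function.Bijective ψ :=
      ⟨fun x y e' => Subtype.ext ((algebraMap F K).injective (congrArg Subtype.val e')),
        fun x => by
          obtain ⟨c, hc⟩ := hF₀ x x.2
          exact ⟨⟨c, show algebraMap F K c ∈ F₀ by rw [hc]; exact x.2⟩, Subtype.ext hc⟩⟩
    let eψ : F₁ ≃+* F₀ := RingEquiv.ofBijective ψ hψ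
    have hcomp : (emb K).comp (subPGL F₁) = (subPGL F₀).comp (ProjGenLinGroup.map eψ.toRingHom) := by
      rw [emb, subPGL, subPGL, ← ProjGenLinGroup.map_comp, ← ProjGenLinGroup.map_comp]
      rfl
    have h4' : 4 ≤ Nat.card F₁ := by rwa [Nat.card_congr eψ.toEquiv]
    have hconj : (H.map (MulAut.conj h₀⁻¹).toMonoidHom).map (emb K)
        = (H.map (emb K)).map (MulAut.conj (emb K h₀)⁻¹).toMonoidHom := by
      rw [Subgroup.map_map, Subgroup.map_map]
      congr 1
      ext x
      simp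
    rcases hor with he | ⟨he, hodd⟩
    · refine .pgl F₁ h₀ h4' (Subgroup.map_injective (emb_injective (K := K)) ?_)
      rw [hconj, he, ← MonoidHom.range_comp, hcomp, MonoidHom.range_comp,
        MonoidHom.range_eq_top.2 (map_pgl_surjective eψ), ← MonoidHom.range_eq_map]
    · refine .psl F₁ h₀ h4' (by rwa [Nat.card_congr eψ.toEquiv])
        (Subgroup.map_injective (emb_injective (K := K)) ?_)
      rw [hconj, he, range_subPSL, range_subPSL, Subgroup.map_map, hcomp, ← Subgroup.map_map,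
        map_lsub_eq]

/-- The setwise stabiliser of a pair is dihedral of order `2 m`. -/
theorem IsPair.stab {a b : OnePoint K} {m : ℕ} (hm : IsPair F a b m) :
    Nat.card (pairStab (F := F) a b) = 2 * m ∧
      Nonempty (pairStab (F := F) a b ≃* DihedralGroup m) := by
  obtain ⟨hcard, ⟨w, hw1, hw2⟩, -⟩ := hm.props
  let D := pairStab (F := F) a b
  have : Finite (D.map (emb K)) :=
    Finite.of_equiv _ (D.equivMapOfInjective _ emb_injective).toEquiv
  have horb : orbit (D.map (emb K)) a = {a, b} := by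
    ext x
    constructor
    · rintro ⟨⟨_, g, hg, rfl⟩, rfl⟩
      rcases hg with ⟨h1, -⟩ | ⟨h1, -⟩
      · exact Or.inl h1
      · exact Or.inr h1
    · rintro (rfl | rfl)
      · exact mem_orbit_self _
      · exact ⟨⟨emb K w, w, Or.inr ⟨hw1, hw2⟩, rfl⟩, hw1⟩
  have hst : Nat.card (stabilizer (D.map (emb K)) a) = m := by
    rw [← hcard]
    refine (Nat.card_eq_of_bijective (fun g : tor (F := F) a b =>
      (⟨⟨emb K (g : PGL(2, F)), ⟨(g : PGL(2, F)), Or.inl g.2, rfl⟩⟩, (mem_tor.1 g.2).1⟩ : stabilizer (D.map (emb K)) a)) ⟨?_, ?_⟩).symm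
    · intro g g' e'
      exact Subtype.ext (emb_injective (K := K) (congrArg (fun x => (x.1 : PGL(2, K))) e'))
    · rintro ⟨⟨_, g, hg, rfl⟩, hx⟩
      rcases hg with h' | ⟨h', -⟩
      · exact ⟨⟨g, h'⟩, rfl⟩
      · exact absurd (hx.symm.trans h') hm.1
  have hc : Nat.card (D.map (emb K)) = 2 * Nat.card (stabilizer (D.map (emb K)) a) := by
    rw [← card_orbit_mul a, horb, Set.ncard_pair hm.1]
  have e : D ≃* D.map (emb K) := D.equivMapOfInjective _ emb_injective
  obtain ⟨iso⟩ := dihedral_of_pair _ hm.1 horb hc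
  rw [hst] at hc iso
  exact ⟨(Nat.card_congr e.toEquiv).trans hc, ⟨e.trans iso⟩⟩

theorem IsPair.isCyclic {a b : OnePoint K} {m : ℕ} (hm : IsPair F a b m) :
    IsCyclic (tor (F := F) a b) :=
  isCyclic_tor hm.1

end Cfsg.Agent.MaxSub.Dickson
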