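import Cfsg.Agent.MaxSub.Dickson.Classify
import Mathlib.FieldTheory.Finite.Basic
import Mathlib.FieldTheory.IsAlgClosed.AlgebraicClosure

/-!
`PGL(2, F)`, `F` finite, inside `PGL(2, K)`, `K` an algebraically closed extension: Frobenius,
rational points, the tori (pointwise stabilisers of Frobenius-stable pairs) and the subgroup
`L = PSL(2, F)`.
-/

set_option autoImplicit false
set_option linter.unusedSectionVars false

open scoped OnePoint MatrixGroups

namespace Cfsg.Agent.MaxSub.Dickson

open Matrix MulAction

variable {F : Type*} [Field F] [Fintype F] [DecidableEq F]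
variable (K : Type*) [Field K] [DecidableEq K] [Algebra F K]

scoped instance finite_pgl : Finite PGL(2, F) :=
  Finite.of_surjective _ Matrix.ProjGenLinGroup.mk_surjective

/-- The embedding `PGL(2, F) → PGL(2, K)`. -/
noncomputable def emb : PGL(2, F) →* PGL(2, K) := ProjGenLinGroup.map (algebraMap F K)

/-- Rational points. -/
noncomputable def pt₀ (x : OnePoint F) : OnePoint K := OnePoint.map (algebraMap F K) x

/-- Frobenius on points. -/
noncomputable def sig (x : OnePoint K) : OnePoint K :=
  OnePoint.map (FiniteField.frobeniusAlgHom F K).toRingHom x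

variable {K}

theorem emb_pt (g : PGL(2, F)) (x : OnePoint F) : emb K g • pt₀ K x = pt₀ K (g • x) := by
  induction g using ProjGenLinGroup.induction_on with | mk A =>
  exact (OnePoint.map_smul (algebraMap F K) A x).symm

theorem pt₀_injective : Function.Injective (pt₀ (F := F) K) :=
  Option.map_injective (algebraMap F K).injective

theorem pt₀_coe (c : F) : pt₀ K (c : OnePoint F) = ((algebraMap F K c : K) : OnePoint K) := rfl

theorem pt₀_infty : pt₀ (F := F) K ∞ = ∞ := rfl

theorem emb_injective : Function.Injective (emb (F := F) K) := by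
  intro g g' e
  refine ext_smul fun x => pt₀_injective (K := K) ?_
  rw [← emb_pt, e, emb_pt]

theorem sig_emb (g : PGL(2, F)) (x : OnePoint K) :
    sig (F := F) K (emb K g • x) = emb K g • sig (F := F) K x := by
  induction g using ProjGenLinGroup.induction_on with | mk A =>
  rw [emb, ProjGenLinGroup.map_mk, mk_smul, mk_smul, sig, sig, OnePoint.map_smul]
  congr 1
  refine Matrix.GeneralLinearGroup.ext fun i j => ?_
  exact AlgHom.commutes (FiniteField.frobeniusAlgHom F K) (A i j)

theorem pow_card_eq_self_iff {x : K} : x ^ Fintype.card F = x ↔ ∃ c : F, algebraMap F K c = x := by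
  classical
  refine ⟨fun h => ?_, ?_⟩
  · by_contra hne
    push Not at hne
    let P : Polynomial K := Polynomial.X ^ Fintype.card F - Polynomial.X
    have hq : 1 < Fintype.card F := Fintype.one_lt_card
    have hP : P ≠ 0 := FiniteField.X_pow_card_sub_X_ne_zero K hq
    have hsub : insert x (Finset.univ.image (algebraMap F K)) ⊆ P.roots.toFinset := by
      intro y hy
      rw [Multiset.mem_toFinset, Polynomial.mem_roots hP]
      simp only [Finset.mem_insert, Finset.mem_image, Finset.mem_univ, true_and] at hy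
      rcases hy with rfl | ⟨c, rfl⟩
      · simp [P, h]
      · simp [P, ← map_pow, FiniteField.pow_card]
    have h1 := Finset.card_le_card hsub
    rw [Finset.card_insert_of_notMem (by simpa using fun c => hne c),
      Finset.card_image_of_injective _ (algebraMap F K).injective, Finset.card_univ] at h1
    have h2 := (Multiset.toFinset_card_le P.roots).trans (Polynomial.card_roots' P)
    rw [FiniteField.X_pow_card_sub_X_natDegree_eq K hq] at h2
    omega
  · rintro ⟨c, rfl⟩
    rw [← map_pow, FiniteField.pow_card]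

theorem sig_eq_self_iff {x : OnePoint K} : sig (F := F) K x = x ↔ ∃ c : OnePoint F, pt₀ K c = x := by
  induction x using OnePoint.rec with
  | infty => exact ⟨fun _ => ⟨∞, rfl⟩, fun _ => rfl⟩
  | coe x =>
    show ((x ^ Fintype.card F : K) : OnePoint K) = (x : OnePoint K) ↔ _
    rw [OnePoint.coe_eq_coe, pow_card_eq_self_iff]
    constructor
    · rintro ⟨c, rfl⟩; exact ⟨(c : OnePoint F), rfl⟩
    · rintro ⟨c, hc⟩
      induction c using OnePoint.rec with
      | infty => exact absurd hc (OnePoint.infty_ne_coe _)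
      | coe c => exact ⟨c, OnePoint.coe_eq_coe.1 hc⟩

variable {p : ℕ} [Fact p.Prime] [CharP K p]

/-- The fixed point of an element of order `p` is rational. -/
theorem fixed_rational {g : PGL(2, F)} (hg : g ≠ 1) (hp : g ^ p = 1) {a : OnePoint K}
    (ha : emb K g • a = a) : ∃ c : OnePoint F, pt₀ K c = a := by
  refine sig_eq_self_iff.1 (fixed_unique (g := emb K g) (fun e => hg ?_) (by rw [← map_pow, hp, map_one]) ?_ ha)
  · exact emb_injective (K := K) (by rw [e, map_one])
  · rw [← sig_emb, ha]

theorem fixed_pair_stable {g : PGL(2, F)} (hg : g ≠ 1) {a b : OnePoint K} (hab : a ≠ b)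
    (ha : emb K g • a = a) (hb : emb K g • b = b) :
    (sig (F := F) K a = a ∧ sig (F := F) K b = b) ∨
      (sig (F := F) K a = b ∧ sig (F := F) K b = a) := by
  have hg' : emb K g ≠ 1 := fun e => hg (emb_injective (K := K) (by rw [e, map_one]))
  have mem : ∀ c, emb K g • c = c → c = a ∨ c = b := fun c hc => by
    by_contra hh
    push Not at hh
    exact hg' (eq_one_of_three hab hh.1.symm hh.2.symm ha hb hc)
  have hinj : Function.Injective (sig (F := F) K) :=
    Option.map_injective (FiniteField.frobeniusAlgHom F K).toRingHom.injective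
  rcases mem _ (by rw [← sig_emb, ha]) with h1 | h1 <;>
    rcases mem _ (by rw [← sig_emb, hb]) with h2 | h2
  · exact absurd (hinj (h1.trans h2.symm)) hab
  · exact Or.inl ⟨h1, h2⟩
  · exact Or.inr ⟨h1, h2⟩
  · exact absurd (hinj (h1.trans h2.symm)) hab

/-- The pointwise stabiliser of a pair. -/
noncomputable def tor (a b : OnePoint K) : Subgroup PGL(2, F) :=
  (stabilizer PGL(2, K) a ⊓ stabilizer PGL(2, K) b).comap (emb K)

theorem mem_tor {a b : OnePoint K} {g : PGL(2, F)} :
    g ∈ tor a b ↔ emb K g • a = a ∧ emb K g • b = b := Iff.rfl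

/-- The setwise stabiliser of a pair. -/
noncomputable def pairStab (a b : OnePoint K) : Subgroup PGL(2, F) where
  carrier := {g | (emb K g • a = a ∧ emb K g • b = b) ∨ (emb K g • a = b ∧ emb K g • b = a)}
  one_mem' := Or.inl ⟨by rw [map_one, one_smul], by rw [map_one, one_smul]⟩
  mul_mem' := fun {g g'} hg hg' => by
    show (emb K (g * g') • a = a ∧ emb K (g * g') • b = b) ∨ _
    simp only [map_mul, mul_smul, Set.mem_ofPred_eq]
    rcases hg' with ⟨e1, e2⟩ | ⟨e1, e2⟩ <;> rw [e1, e2]
    · exact hg
    · rcases hg with ⟨f1, f2⟩ | ⟨f1, f2⟩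
      · exact Or.inr ⟨f2, f1⟩
      · exact Or.inl ⟨f2, f1⟩
  inv_mem' := fun {g} hg => by
    show (emb K g⁻¹ • a = a ∧ emb K g⁻¹ • b = b) ∨ (emb K g⁻¹ • a = b ∧ emb K g⁻¹ • b = a)
    simp only [map_inv, inv_smul_eq_iff]
    rcases hg with ⟨e1, e2⟩ | ⟨e1, e2⟩
    · exact Or.inl ⟨e1.symm, e2.symm⟩
    · exact Or.inr ⟨e2.symm, e1.symm⟩

theorem tor_le_pairStab {a b : OnePoint K} : tor (F := F) a b ≤ pairStab a b := fun _ h => Or.inl h

theorem isCyclic_tor {a b : OnePoint K} (hab : a ≠ b) : IsCyclic (tor (F := F) a b) :=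
  isCyclic_two_fixed ((emb K).comp (tor a b).subtype)
    (emb_injective.comp Subtype.val_injective) hab (fun g => g.2)

theorem emb_aff (u : Fˣ) (v : F) :
    emb K (aff u v) = aff (Units.map (algebraMap F K : F →* K) u) (algebraMap F K v) := by
  rw [emb, aff, aff, ProjGenLinGroup.map_mk]
  congr 1
  refine Matrix.GeneralLinearGroup.ext fun i j => ?_
  fin_cases i <;> fin_cases j <;> simp [GeneralLinearGroup.mkOfDetNeZero]

/-- The image of `SL(2, F)` in `PGL(2, F)`. -/
abbrev lsub (F : Type*) [Field F] : Subgroup PGL(2, F) :=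
  (ProjGenLinGroup.mk.comp Matrix.SpecialLinearGroup.toGL).range

theorem mk_mem_lsub_iff (A : GL (Fin 2) F) :
    ProjGenLinGroup.mk A ∈ lsub F ↔ IsSquare (A : Matrix (Fin 2) (Fin 2) F).det := by
  constructor
  · rintro ⟨S, hS⟩
    obtain ⟨u, hu⟩ := ProjGenLinGroup.mk_eq_mk_iff.1 hS
    refine ⟨(u : F), ?_⟩
    rw [← hu, Units.val_mul, Matrix.det_mul, SpecialLinearGroup.coe_GL_coe_matrix, S.2, one_mul,
      GeneralLinearGroup.coe_scalar]
    simp [Matrix.det_fin_two, sq]
  · rintro ⟨r, hr⟩
    have hr0 : r ≠ 0 := fun e => A.det_ne_zero (by rw [hr, e, mul_zero])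
    refine ⟨⟨r⁻¹ • (A : Matrix (Fin 2) (Fin 2) F), ?_⟩, ProjGenLinGroup.mk_eq_mk_iff.2
      ⟨Units.mk0 r hr0, Units.ext ?_⟩⟩
    · rw [Matrix.det_smul, hr, Fintype.card_fin, pow_two]; field_simp
    · rw [Units.val_mul, GeneralLinearGroup.coe_scalar]
      show (r⁻¹ • (A : Matrix (Fin 2) (Fin 2) F)) * Matrix.scalar (Fin 2) r = A
      ext i j
      fin_cases i <;> fin_cases j <;> simp [Matrix.mul_apply, Matrix.diagonal] <;> field_simp

theorem aff_mem_lsub_iff (u : Fˣ) (v : F) : aff u v ∈ lsub F ↔ IsSquare (u : F) := by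
  rw [aff, mk_mem_lsub_iff]
  simp [GeneralLinearGroup.mkOfDetNeZero, Matrix.det_fin_two]

/-- A rational pair has a pointwise stabiliser of order `q - 1` and a swapper; in odd
characteristic the torus is not inside `L`. -/
theorem tor_rational {x y : OnePoint F} (hxy : x ≠ y) :
    Nat.card (tor (F := F) (pt₀ K x) (pt₀ K y)) = Fintype.card F - 1 ∧
      (∃ w : PGL(2, F), emb K w • pt₀ K x = pt₀ K y ∧ emb K w • pt₀ K y = pt₀ K x) ∧
      (Odd (Fintype.card F) → ¬ tor (F := F) (pt₀ K x) (pt₀ K y) ≤ lsub F) := by
  obtain ⟨h, h1, h2⟩ := exists_move_two hxy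
  have hmem : ∀ u : Fˣ, h * aff u 0 * h⁻¹ ∈ tor (F := F) (pt₀ K x) (pt₀ K y) := by
    intro u
    rw [mem_tor, emb_pt, emb_pt]
    refine ⟨?_, ?_⟩
    · rw [← h1, mul_smul, mul_smul, inv_smul_smul, aff_infty]
    · rw [← h2, mul_smul, mul_smul, inv_smul_smul, aff_coe]; simp
  let f : Fˣ → tor (F := F) (pt₀ K x) (pt₀ K y) := fun u => ⟨_, hmem u⟩
  have hf : Function.Bijective f := by
    refine ⟨fun u u' e => (aff_inj (mul_left_cancel (mul_right_cancel (congrArg Subtype.val e)))).1,
      fun g => ?_⟩
    have hg := g.2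
    rw [mem_tor, emb_pt, emb_pt] at hg
    have gx := pt₀_injective hg.1
    have gy := pt₀_injective hg.2
    obtain ⟨u, v, huv⟩ := exists_aff (fixed_conj (g := (g : PGL(2, F))) (x := ∞) (by rw [h1]; exact gx))
    have hv := fixed_conj (g := (g : PGL(2, F))) (h := h) (x := ((0 : F) : OnePoint F))
      (by rw [h2]; exact gy)
    rw [huv, aff_coe, OnePoint.coe_eq_coe, mul_zero, zero_add] at hv
    subst hv
    exact ⟨u, Subtype.ext (by show h * aff u 0 * h⁻¹ = g; rw [← huv]; group)⟩
  refine ⟨?_, ⟨h * recipP * h⁻¹, ?_, ?_⟩, fun hodd hle => ?_⟩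
  · rw [← Nat.card_eq_of_bijective f hf, Nat.card_eq_fintype_card, Fintype.card_units]
  · rw [emb_pt]; congr 1
    rw [← h1, mul_smul, mul_smul, inv_smul_smul, recipP_infty, h2]
  · rw [emb_pt]; congr 1
    rw [← h2, mul_smul, mul_smul, inv_smul_smul, recipP_zero, h1]
  · obtain ⟨c, hc⟩ := FiniteField.exists_nonsquare (F := F) (fun h2 => by
      have := FiniteField.even_card_iff_char_two.1 h2
      rw [Nat.odd_iff] at hodd; omega)
    have hc0 : c ≠ 0 := fun e => hc (e ▸ IsSquare.zero)
    have := hle (hmem (Units.mk0 c hc0))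
    have hnorm : (lsub F).Normal := by
      refine ⟨fun n hn g => ?_⟩
      induction g using ProjGenLinGroup.induction_on with | mk A =>
      induction n using ProjGenLinGroup.induction_on with | mk B =>
      rw [← map_inv, ← map_mul, ← map_mul, mk_mem_lsub_iff] at *
      rwa [Units.val_mul, Units.val_mul, Matrix.det_units_conj]
    have h' := hnorm.conj_mem _ this h⁻¹
    rw [show h⁻¹ * (h * aff (Units.mk0 c hc0) 0 * h⁻¹) * h⁻¹⁻¹ = aff (Units.mk0 c hc0) 0 by group,
      aff_mem_lsub_iff] at h'
    exact hc h'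

/-- A conjugate pair has a pointwise stabiliser of order `q + 1` and a swapper; in odd
characteristic the torus is not inside `L`. -/
theorem tor_conjugate {a b : OnePoint K} (hab : a ≠ b) (ha : sig (F := F) K a = b)
    (hb : sig (F := F) K b = a) :
    Nat.card (tor (F := F) a b) = Fintype.card F + 1 ∧
      (∃ w : PGL(2, F), emb K w • a = b ∧ emb K w • b = a) ∧
      (Odd (Fintype.card F) → ¬ tor (F := F) a b ≤ lsub F) := by
  classical
  induction a using OnePoint.rec with
  | infty => exact absurd ha hab
  | coe α =>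
  induction b using OnePoint.rec with
  | infty => exact absurd hb.symm (fun e => OnePoint.coe_ne_infty _ e)
  | coe β =>
  have hβ : α ^ Fintype.card F = β := OnePoint.coe_eq_coe.1 ha
  have hα : β ^ Fintype.card F = α := OnePoint.coe_eq_coe.1 hb
  have hne : α ≠ β := fun e => hab (by rw [e])
  set σ : K →ₐ[F] K := FiniteField.frobeniusAlgHom F K with hσ
  have hσa : σ α = β := hβ
  have hσb : σ β = α := hα
  obtain ⟨s, hs⟩ : ∃ s : F, algebraMap F K s = α + β := pow_card_eq_self_iff.1 (by
    show σ (α + β) = α + β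
    rw [map_add, hσa, hσb, add_comm])
  obtain ⟨t, ht⟩ : ∃ t : F, algebraMap F K t = α * β := pow_card_eq_self_iff.1 (by
    show σ (α * β) = α * β
    rw [map_mul, hσa, hσb, mul_comm])
  have hnot : ∀ c : F, algebraMap F K c ≠ α := fun c e => hne (by
    rw [← hσa, ← e, AlgHom.commutes])
  have hind : ∀ x y : F, algebraMap F K x + algebraMap F K y * α = 0 → x = 0 ∧ y = 0 := by
    intro x y e
    by_cases hy : y = 0
    · subst hy
      rw [map_zero, zero_mul, add_zero, map_eq_zero] at e
      exact ⟨e, rfl⟩
    · exfalso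
      refine hnot (-x / y) ?_
      rw [map_div₀, map_neg, div_eq_iff (by simpa using hy)]
      linear_combination -e
  let M : F → F → Matrix (Fin 2) (Fin 2) F := fun x y => !![x + y * s, -(y * t); y, x]
  have hdet : ∀ x y, algebraMap F K (M x y).det
      = (algebraMap F K x + algebraMap F K y * α) * (algebraMap F K x + algebraMap F K y * β) := by
    intro x y
    simp only [M, Matrix.det_fin_two_of, map_sub, map_add, map_mul, map_neg, hs, ht]
    ring
  have hM0 : ∀ x y, (x ≠ 0 ∨ y ≠ 0) → (M x y).det ≠ 0 := by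
    intro x y hxy e
    have := congrArg (algebraMap F K) e
    rw [hdet, map_zero, mul_eq_zero] at this
    rcases this with h | h
    · obtain ⟨rfl, rfl⟩ := hind x y h
      simp at hxy
    · have h' := congrArg σ h
      rw [map_add, map_mul, AlgHom.commutes, AlgHom.commutes, hσb, map_zero] at h'
      obtain ⟨rfl, rfl⟩ := hind x y h'
      simp at hxy
  -- the elements
  have hfix : ∀ x y (h : x ≠ 0 ∨ y ≠ 0),
      ProjGenLinGroup.mk (GeneralLinearGroup.mkOfDetNeZero (M x y) (hM0 x y h))
        ∈ tor (F := F) (α : OnePoint K) (β : OnePoint K) := by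
    intro x y h
    have key : ∀ γ δ : K, γ + δ = algebraMap F K s → γ * δ = algebraMap F K t →
        algebraMap F K x + algebraMap F K y * γ ≠ 0 →
        emb K (ProjGenLinGroup.mk (GeneralLinearGroup.mkOfDetNeZero (M x y) (hM0 x y h)))
          • (γ : OnePoint K) = (γ : OnePoint K) := by
      intro γ δ e1 e2 e3
      rw [emb, ProjGenLinGroup.map_mk, mk_smul, OnePoint.smul_some_eq_ite]
      have e4 : algebraMap F K y * γ + algebraMap F K x ≠ 0 := by rwa [add_comm]
      simp only [GeneralLinearGroup.mkOfDetNeZero, M]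
      simp [e4]
      rw [div_eq_iff e4, ← e1, ← e2]
      ring
    refine ⟨key α β hs.symm ht.symm fun e => ?_, key β α ?_ ?_ fun e => ?_⟩
    · obtain ⟨rfl, rfl⟩ := hind x y e; simp at h
    · rw [hs, add_comm]
    · rw [ht, mul_comm]
    · have h' := congrArg σ e
      rw [map_add, map_mul, AlgHom.commutes, AlgHom.commutes, hσb, map_zero] at h'
      obtain ⟨rfl, rfl⟩ := hind x y h'; simp at h
  refine ⟨?_, ⟨aff (-1) s, ?_, ?_⟩, fun hodd hle => ?_⟩
  · let f : OnePoint F → tor (F := F) (α : OnePoint K) (β : OnePoint K) := fun z =>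
      z.elim ⟨_, hfix 1 0 (Or.inl one_ne_zero)⟩ (fun c => ⟨_, hfix c 1 (Or.inr one_ne_zero)⟩)
    have hent : ∀ A B : GL (Fin 2) F, ProjGenLinGroup.mk A = ProjGenLinGroup.mk B →
        ∃ u : Fˣ, ∀ i j, A i j * u = B i j := by
      intro A B e
      obtain ⟨u, hu⟩ := ProjGenLinGroup.mk_eq_mk_iff.1 e
      refine ⟨u, fun i j => ?_⟩
      rw [← hu]
      simp [Matrix.mul_apply, Matrix.diagonal, GeneralLinearGroup.coe_scalar]
    have hf : Function.Bijective f := by
      refine ⟨fun z z' e => ?_, fun g => ?_⟩
      · have e' := congrArg Subtype.val e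
        induction z using OnePoint.rec with
        | infty =>
          induction z' using OnePoint.rec with
          | infty => rfl
          | coe c' =>
            obtain ⟨u, hu⟩ := hent _ _ e'
            have h10 := hu 1 0
            simp [M, GeneralLinearGroup.mkOfDetNeZero] at h10
        | coe c =>
          induction z' using OnePoint.rec with
          | infty =>
            obtain ⟨u, hu⟩ := hent _ _ e'
            have h10 := hu 1 0
            simp [M, GeneralLinearGroup.mkOfDetNeZero] at h10
          | coe c' =>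
            obtain ⟨u, hu⟩ := hent _ _ e'
            have h10 := hu 1 0
            have h11 := hu 1 1
            simp [M, GeneralLinearGroup.mkOfDetNeZero] at h10 h11
            rw [h10] at h11
            simpa using h11
      · obtain ⟨g, hg⟩ := g
        induction g using ProjGenLinGroup.induction_on with | mk A =>
        have hfa := hg.1
        rw [emb, ProjGenLinGroup.map_mk] at hfa
        change ProjGenLinGroup.mk _ • (α : OnePoint K) = (α : OnePoint K) at hfa
        rw [mk_smul, ← GeneralLinearGroup.fixpointPolynomial_aeval_eq_zero_iff] at hfa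
        simp only [Matrix.GeneralLinearGroup.fixpointPolynomial, map_sub, map_mul, map_add,
          Polynomial.aeval_X_pow, Polynomial.aeval_C, Polynomial.aeval_X,
          Algebra.algebraMap_self_apply] at hfa
        have hmap : ∀ i j, ((Matrix.GeneralLinearGroup.map (algebraMap F K) A) i j : K)
            = algebraMap F K (A i j) := fun i j => rfl
        simp only [hmap] at hfa
        obtain ⟨e1, e2⟩ := hind (-(A 1 0) * t - A 0 1) (A 1 0 * s + (A 1 1 - A 0 0)) (by
          simp only [map_sub, map_neg, map_mul, map_add, hs, ht]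
          linear_combination hfa)
        by_cases hc : A 1 0 = 0
        · refine ⟨∞, Subtype.ext (ProjGenLinGroup.mk_eq_mk_iff.2 ?_)⟩
          have hd : A 1 1 ≠ 0 := fun e => A.det_ne_zero (by rw [Matrix.det_fin_two, hc, e]; ring)
          refine ⟨Units.mk0 _ hd, Matrix.GeneralLinearGroup.ext fun i j => ?_⟩
          rw [hc] at e1 e2
          fin_cases i <;> fin_cases j <;>
            simp [f, M, Matrix.mul_apply, Matrix.diagonal, GeneralLinearGroup.mkOfDetNeZero, hc]
          · linear_combination e2
          · linear_combination e1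
        · refine ⟨((A 1 1 / A 1 0 : F) : OnePoint F), Subtype.ext (ProjGenLinGroup.mk_eq_mk_iff.2 ?_)⟩
          refine ⟨Units.mk0 _ hc, Matrix.GeneralLinearGroup.ext fun i j => ?_⟩
          fin_cases i <;> fin_cases j <;>
            simp [f, M, Matrix.mul_apply, Matrix.diagonal, GeneralLinearGroup.mkOfDetNeZero, hc]
          · field_simp
            linear_combination e2
          · linear_combination e1
    rw [← Nat.card_eq_of_bijective f hf]
    show Nat.card (Option F) = _
    rw [Nat.card_eq_fintype_card, Fintype.card_option]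
  · rw [emb_aff, aff_coe, OnePoint.coe_eq_coe]
    simp [hs]
  · rw [emb_aff, aff_coe, OnePoint.coe_eq_coe]
    simp [hs]
  · -- the norm form takes non-square values
    obtain ⟨c, hc⟩ := FiniteField.exists_nonsquare (F := F) (fun h2 => by
      have := FiniteField.even_card_iff_char_two.1 h2
      rw [Nat.odd_iff] at hodd; omega)
    have h2 : (2 : F) ≠ 0 := Ring.two_ne_zero fun h2 => by
      have := FiniteField.even_card_iff_char_two.1 h2
      rw [Nat.odd_iff] at hodd; omega
    obtain ⟨i, hi⟩ : ∃ i : F, 2 * i = 1 := ⟨2⁻¹, mul_inv_cancel₀ h2⟩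
    set m : F := t - (s * i) ^ 2 with hm
    have hm0 : m ≠ 0 := by
      intro e
      have h4 : (α - β) ^ 2 = algebraMap F K (-4 * m) := by
        rw [show -4 * m = s ^ 2 - 4 * t by rw [hm]; linear_combination s ^ 2 * (2 * i + 1) * hi,
          map_sub, map_pow, map_mul, hs, ht]
        simp only [map_ofNat]
        ring
      rw [e, mul_zero, map_zero, pow_eq_zero_iff two_ne_zero, sub_eq_zero] at h4
      exact hne h4
    obtain ⟨u, y, hu⟩ := FiniteField.exists_root_sum_quadratic
      (f := Polynomial.X ^ 2) (g := Polynomial.C m * Polynomial.X ^ 2 - Polynomial.C c)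
      (Polynomial.degree_X_pow 2)
      (by rw [Polynomial.degree_sub_eq_left_of_degree_lt, Polynomial.degree_C_mul_X_pow _ hm0]
          · rfl
          · rw [Polynomial.degree_C_mul_X_pow _ hm0]
            exact Polynomial.degree_C_le.trans_lt (by decide))
      (Nat.odd_iff.1 hodd)
    simp only [Polynomial.eval_pow, Polynomial.eval_X, Polynomial.eval_sub, Polynomial.eval_mul,
      Polynomial.eval_C] at hu
    have hd : (M (u - s * i * y) y).det = c := by
      simp only [M, Matrix.det_fin_two_of]
      rw [hm] at hu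
      linear_combination hu - s * y * (u - s * i * y) * hi
    have hxy : u - s * i * y ≠ 0 ∨ y ≠ 0 := by
      by_contra hh
      push Not at hh
      apply hc
      rw [← hd, hh.1, hh.2]
      simp [M, Matrix.det_fin_two]
    have hm' := hle (hfix _ _ hxy)
    rw [mk_mem_lsub_iff] at hm'
    simp only [GeneralLinearGroup.mkOfDetNeZero] at hm'
    exact hc (hd ▸ hm')

end Cfsg.Agent.MaxSub.Dickson
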