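import Cfsg.Agent.MaxSub.Dickson.Maximal

/-!
Normal forms in `SL(2, F)`, `2 ≠ 0`: a pair (involution, element of order three) generating an
`A_4`, and the third generator of an `A_5`.
-/

set_option autoImplicit false
set_option linter.unusedSectionVars false

open scoped OnePoint MatrixGroups

namespace Cfsg.Agent.MaxSub.Dickson

open Matrix

variable {F : Type*} [Field F]

/-- The image of an element of `SL(2, F)` in `PGL(2, F)`. -/
noncomputable def pr : Matrix.SpecialLinearGroup (Fin 2) F →* PGL(2, F) :=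
  ProjGenLinGroup.mk.comp Matrix.SpecialLinearGroup.toGL

theorem pr_mem_lsub (S : SL(2, F)) : pr S ∈ lsub F := ⟨S, rfl⟩

theorem pr_neg (S : SL(2, F)) : pr (-S) = pr S := by
  refine ProjGenLinGroup.mk_eq_mk_iff.2 ⟨-1, Units.ext ?_⟩
  ext i j
  fin_cases i <;> fin_cases j <;> simp [Matrix.mul_apply]

theorem scalar_of_pr_eq_one {S : SL(2, F)} (h : pr S = 1) :
    (S : Matrix (Fin 2) (Fin 2) F) 0 1 = 0 ∧ (S : Matrix (Fin 2) (Fin 2) F) 1 0 = 0 ∧
      (S : Matrix (Fin 2) (Fin 2) F) 0 0 = (S : Matrix (Fin 2) (Fin 2) F) 1 1 := by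
  have h' : SpecialLinearGroup.toGL S ∈ Subgroup.center (GL (Fin 2) F) := ProjGenLinGroup.mk_eq_one.1 h
  rw [GeneralLinearGroup.center_eq_range_scalar] at h'
  obtain ⟨u, hu⟩ := h'
  have e : (S : Matrix (Fin 2) (Fin 2) F) = Matrix.scalar (Fin 2) (u : F) := by
    rw [← SpecialLinearGroup.coe_GL_coe_matrix, ← hu]; rfl
  rw [e]
  simp

theorem sl_det (S : SL(2, F)) : (S : Matrix (Fin 2) (Fin 2) F) 0 0 * (S : Matrix (Fin 2) (Fin 2) F) 1 1
    - (S : Matrix (Fin 2) (Fin 2) F) 0 1 * (S : Matrix (Fin 2) (Fin 2) F) 1 0 = 1 := by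
  rw [← Matrix.det_fin_two]; exact S.2

/-- An involution of `L` lifts to trace `0`. -/
theorem trace_of_sq {S : SL(2, F)} (h : pr S ^ 2 = 1) (h1 : pr S ≠ 1) :
    (S : Matrix (Fin 2) (Fin 2) F) 0 0 + (S : Matrix (Fin 2) (Fin 2) F) 1 1 = 0 := by
  rw [← map_pow] at h
  obtain ⟨a1, a2, a3⟩ := scalar_of_pr_eq_one h
  simp [pow_two, Matrix.mul_apply] at a1 a2 a3
  have hd := sl_det S
  set a := (S : Matrix (Fin 2) (Fin 2) F) 0 0
  set b := (S : Matrix (Fin 2) (Fin 2) F) 0 1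
  set c := (S : Matrix (Fin 2) (Fin 2) F) 1 0
  set d := (S : Matrix (Fin 2) (Fin 2) F) 1 1
  by_contra hne
  have hb : b = 0 := (mul_eq_zero.1 (show b * (a + d) = 0 by linear_combination a1)).resolve_right hne
  have hc : c = 0 := (mul_eq_zero.1 (show c * (a + d) = 0 by linear_combination a2)).resolve_right hne
  have had : a = d := sub_eq_zero.1
    ((mul_eq_zero.1 (show (a - d) * (a + d) = 0 by linear_combination a3)).resolve_right hne)
  apply h1
  refine ProjGenLinGroup.mk_eq_one.2 ?_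
  rw [GeneralLinearGroup.center_eq_range_scalar]
  have ha : a ≠ 0 := fun e => by rw [e, hb] at hd; simp at hd
  refine ⟨Units.mk0 a ha, GeneralLinearGroup.ext fun i j => ?_⟩
  fin_cases i <;> fin_cases j <;> simp <;> first | exact hb.symm | exact hc.symm | exact had | rfl

/-- An element of order three of `L` lifts to trace `±1`. -/
theorem trace_of_cube {S : SL(2, F)} (h : pr S ^ 3 = 1) (h1 : pr S ≠ 1) :
    (S : Matrix (Fin 2) (Fin 2) F) 0 0 + (S : Matrix (Fin 2) (Fin 2) F) 1 1 = 1 ∨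
      (S : Matrix (Fin 2) (Fin 2) F) 0 0 + (S : Matrix (Fin 2) (Fin 2) F) 1 1 = -1 := by
  rw [← map_pow] at h
  obtain ⟨a1, a2, a3⟩ := scalar_of_pr_eq_one h
  simp [pow_three, Matrix.mul_apply] at a1 a2 a3
  have hd := sl_det S
  set a := (S : Matrix (Fin 2) (Fin 2) F) 0 0
  set b := (S : Matrix (Fin 2) (Fin 2) F) 0 1
  set c := (S : Matrix (Fin 2) (Fin 2) F) 1 0
  set d := (S : Matrix (Fin 2) (Fin 2) F) 1 1
  by_contra hne
  push Not at hne
  have ht : (a + d) ^ 2 - 1 ≠ 0 := fun e => by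
    rcases mul_eq_zero.1 (show (a + d - 1) * (a + d + 1) = 0 by linear_combination e) with h' | h'
    · exact hne.1 (sub_eq_zero.1 h')
    · exact hne.2 (eq_neg_of_add_eq_zero_left h')
  have hb : b = 0 := (mul_eq_zero.1 (show b * ((a + d) ^ 2 - 1) = 0 by
    linear_combination a1 + b * hd)).resolve_right ht
  have hc : c = 0 := (mul_eq_zero.1 (show c * ((a + d) ^ 2 - 1) = 0 by
    linear_combination a2 + c * hd)).resolve_right ht
  have had : a = d := sub_eq_zero.1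
    ((mul_eq_zero.1 (show (a - d) * ((a + d) ^ 2 - 1) = 0 by
      linear_combination a3 + (a - d) * hd)).resolve_right ht)
  apply h1
  refine ProjGenLinGroup.mk_eq_one.2 ?_
  rw [GeneralLinearGroup.center_eq_range_scalar]
  have ha : a ≠ 0 := fun e => by rw [e, hb] at hd; simp at hd
  refine ⟨Units.mk0 a ha, GeneralLinearGroup.ext fun i j => ?_⟩
  fin_cases i <;> fin_cases j <;> simp <;> first | exact hb.symm | exact hc.symm | exact had | rfl

/-- Conjugation in `PGL` from an intertwining relation of matrices. -/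
theorem conj_pr {P : GL (Fin 2) F} {S S' : SL(2, F)}
    (h : (S : Matrix (Fin 2) (Fin 2) F) * (P : Matrix (Fin 2) (Fin 2) F)
      = (P : Matrix (Fin 2) (Fin 2) F) * (S' : Matrix (Fin 2) (Fin 2) F)) :
    (ProjGenLinGroup.mk P)⁻¹ * pr S * ProjGenLinGroup.mk P = pr S' := by
  rw [mul_assoc, inv_mul_eq_iff_eq_mul, pr, MonoidHom.comp_apply, MonoidHom.comp_apply, ← map_mul,
    ← map_mul]
  exact congrArg ProjGenLinGroup.mk (Units.ext h)

/-- The standard involution. -/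
def jSL : SL(2, F) := ⟨!![0, 1; -1, 0], by simp [Matrix.det_fin_two_of]⟩

/-- The standard element of order three attached to `(u, v)`. -/
def xSL (u v : F) (h : u * (1 - u) - v * (v + 1) = 1) : SL(2, F) :=
  ⟨!![u, v; v + 1, 1 - u], by rw [Matrix.det_fin_two_of]; exact h⟩

theorem trace_jSL_mul (S : SL(2, F)) :
    ((jSL * S : SL(2, F)) : Matrix (Fin 2) (Fin 2) F) 0 0 + ((jSL * S : SL(2, F)) : Matrix (Fin 2) (Fin 2) F) 1 1
      = (S : Matrix (Fin 2) (Fin 2) F) 1 0 - (S : Matrix (Fin 2) (Fin 2) F) 0 1 := by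
  rw [Matrix.SpecialLinearGroup.coe_mul]
  simp [jSL, Matrix.mul_apply]
  ring

theorem trace_xSL_mul (u v : F) (h : u * (1 - u) - v * (v + 1) = 1) (S : SL(2, F)) :
    ((xSL u v h * S : SL(2, F)) : Matrix (Fin 2) (Fin 2) F) 0 0
        + ((xSL u v h * S : SL(2, F)) : Matrix (Fin 2) (Fin 2) F) 1 1
      = u * (S : Matrix (Fin 2) (Fin 2) F) 0 0 + v * (S : Matrix (Fin 2) (Fin 2) F) 1 0
        + ((v + 1) * (S : Matrix (Fin 2) (Fin 2) F) 0 1
        + (1 - u) * (S : Matrix (Fin 2) (Fin 2) F) 1 1) := by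
  rw [Matrix.SpecialLinearGroup.coe_mul]
  simp [xSL, Matrix.mul_apply]

/-- An element of trace `0` is conjugate to the standard involution. -/
theorem exists_conj_jSL (h2 : (2 : F) ≠ 0) {S : SL(2, F)}
    (ht : (S : Matrix (Fin 2) (Fin 2) F) 0 0 + (S : Matrix (Fin 2) (Fin 2) F) 1 1 = 0) :
    ∃ P : GL (Fin 2) F, (S : Matrix (Fin 2) (Fin 2) F) * (P : Matrix (Fin 2) (Fin 2) F)
      = (P : Matrix (Fin 2) (Fin 2) F) * (jSL : SL(2, F)) := by
  have hd := sl_det S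
  set a := (S : Matrix (Fin 2) (Fin 2) F) 0 0 with ha
  set b := (S : Matrix (Fin 2) (Fin 2) F) 0 1 with hb
  set c := (S : Matrix (Fin 2) (Fin 2) F) 1 0 with hc
  set d := (S : Matrix (Fin 2) (Fin 2) F) 1 1 with hd'
  obtain ⟨x, y, hxy⟩ : ∃ x y : F, x * (-(c * x + d * y)) - y * (-(a * x + b * y)) ≠ 0 := by
    by_cases hc0 : c = 0
    · by_cases hb0 : b = 0
      · refine ⟨1, 1, ?_⟩
        rw [hc0, hb0]
        have : (2 : F) * a ≠ 0 := mul_ne_zero h2 fun e => by rw [e, hb0] at hd; simp at hd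
        intro e; exact this (by linear_combination e + ht)
      · exact ⟨0, 1, by simpa using hb0⟩
    · exact ⟨1, 0, by simpa using hc0⟩
  refine ⟨GeneralLinearGroup.mkOfDetNeZero !![x, -(a * x + b * y); y, -(c * x + d * y)]
    (by rw [Matrix.det_fin_two_of]; intro e; exact hxy (by linear_combination e)), ?_⟩
  ext i j
  fin_cases i <;> fin_cases j <;>
    simp [GeneralLinearGroup.mkOfDetNeZero, jSL, Matrix.mul_apply, ← ha, ← hb, ← hc, ← hd']
  all_goals first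
    | linear_combination 0 * hd
    | linear_combination x * hd - (a * x + b * y) * ht
    | linear_combination y * hd - (c * x + d * y) * ht

/-- Conjugates of `S` are again in `SL` with the same trace. -/
theorem exists_conjugate (P : GL (Fin 2) F) (S : SL(2, F)) :
    ∃ S' : SL(2, F), (ProjGenLinGroup.mk P)⁻¹ * pr S * ProjGenLinGroup.mk P = pr S' ∧
      (S' : Matrix (Fin 2) (Fin 2) F) = (↑(P⁻¹) : Matrix (Fin 2) (Fin 2) F) * S * P := by
  refine ⟨⟨(↑(P⁻¹) : Matrix (Fin 2) (Fin 2) F) * S * P, by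
    rw [Matrix.det_units_conj', S.2]⟩, conj_pr ?_, rfl⟩
  simp [← mul_assoc]

/-- The rotation taking the parameters `(u, v)` to `(u₀, v₀)`. -/
theorem exists_rotation (h2 : (2 : F) ≠ 0) {u v u₀ v₀ : F} (h : u * (1 - u) - v * (v + 1) = 1)
    (h₀ : u₀ * (1 - u₀) - v₀ * (v₀ + 1) = 1) :
    ∃ P : GL (Fin 2) F, ((xSL u v h : SL(2, F)) : Matrix (Fin 2) (Fin 2) F) * (P : Matrix (Fin 2) (Fin 2) F)
        = (P : Matrix (Fin 2) (Fin 2) F) * (xSL u₀ v₀ h₀ : SL(2, F)) ∧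
      ((jSL : SL(2, F)) : Matrix (Fin 2) (Fin 2) F) * (P : Matrix (Fin 2) (Fin 2) F)
        = (P : Matrix (Fin 2) (Fin 2) F) * (jSL : SL(2, F)) := by
  obtain ⟨c, d, hne, e1, e2⟩ : ∃ c d : F, c * c + d * d ≠ 0 ∧
      c * (u - u₀) - d * (v + v₀ + 1) = 0 ∧ c * (v - v₀) + d * (u + u₀ - 1) = 0 := by
    by_cases h' : (u + u₀ - 1) * (u + u₀ - 1) + (v - v₀) * (v - v₀) = 0
    · refine ⟨v + v₀ + 1, u - u₀, fun e => ?_, by ring, ?_⟩
      · apply h2
        linear_combination -e - h' - 2 * h - 2 * h₀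
      · linear_combination -(1 : F) * h + h₀
    · refine ⟨u + u₀ - 1, -(v - v₀), fun e => h' (by linear_combination e), ?_, by ring⟩
      linear_combination -(1 : F) * h + h₀
  refine ⟨GeneralLinearGroup.mkOfDetNeZero !![c, d; -d, c]
    (by rw [Matrix.det_fin_two_of]; intro e; exact hne (by linear_combination e)), ?_, ?_⟩
  · ext i j
    fin_cases i <;> fin_cases j <;>
      simp [GeneralLinearGroup.mkOfDetNeZero, xSL, Matrix.mul_apply]
    all_goals first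
      | linear_combination e1
      | linear_combination -e1
      | linear_combination e2
      | linear_combination -e2
  · ext i j
    fin_cases i <;> fin_cases j <;> simp [GeneralLinearGroup.mkOfDetNeZero, jSL, Matrix.mul_apply]

/-- **Normal form of the generators of an `A_4`.** -/
theorem tetra_normal (h2 : (2 : F) ≠ 0) {a b : PGL(2, F)} (ha : a ∈ lsub F) (hb : b ∈ lsub F)
    (a2 : a ^ 2 = 1) (a1 : a ≠ 1) (b3 : b ^ 3 = 1) (b1 : b ≠ 1) (ab3 : (a * b) ^ 3 = 1)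
    (ab1 : a * b ≠ 1) {u₀ v₀ : F} (h₀ : u₀ * (1 - u₀) - v₀ * (v₀ + 1) = 1) :
    ∃ h : PGL(2, F), h⁻¹ * a * h = pr jSL ∧ h⁻¹ * b * h = pr (xSL u₀ v₀ h₀) := by
  obtain ⟨A, rfl⟩ := ha
  obtain ⟨B, rfl⟩ := hb
  change pr A ^ 2 = 1 at a2
  change pr A ≠ 1 at a1
  change pr B ^ 3 = 1 at b3
  change pr B ≠ 1 at b1
  change (pr A * pr B) ^ 3 = 1 at ab3
  change pr A * pr B ≠ 1 at ab1
  show ∃ h : PGL(2, F), h⁻¹ * pr A * h = _ ∧ h⁻¹ * pr B * h = _
  obtain ⟨P, hP⟩ := exists_conj_jSL h2 (trace_of_sq a2 a1)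
  obtain ⟨B₁, hB₁, -⟩ := exists_conjugate P B
  set h₁ := ProjGenLinGroup.mk P
  have hA₁ : h₁⁻¹ * pr A * h₁ = pr jSL := conj_pr hP
  have hb3 : pr B₁ ^ 3 = 1 := by
    rw [← hB₁, show h₁⁻¹ * pr B * h₁ = h₁⁻¹ * pr B * (h₁⁻¹)⁻¹ by rw [inv_inv], conj_pow, b3]; simp
  have hb1 : pr B₁ ≠ 1 := fun e => b1 (by
    rw [← hB₁] at e
    have : h₁⁻¹ * pr B * (h₁⁻¹)⁻¹ = 1 := by rwa [inv_inv]
    exact conj_eq_one_iff.1 this)
  have eAB : h₁⁻¹ * (pr A * pr B) * h₁ = pr jSL * pr B₁ := by rw [← hA₁, ← hB₁]; group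
  have hab3 : (pr jSL * pr B₁) ^ 3 = 1 := by
    rw [← eAB, show h₁⁻¹ * (pr A * pr B) * h₁ = h₁⁻¹ * (pr A * pr B) * (h₁⁻¹)⁻¹ by rw [inv_inv],
      conj_pow, ab3]
    simp
  have hab1 : pr jSL * pr B₁ ≠ 1 := fun e => ab1 (by
    rw [← eAB] at e
    have : h₁⁻¹ * (pr A * pr B) * (h₁⁻¹)⁻¹ = 1 := by rwa [inv_inv]
    exact conj_eq_one_iff.1 this)
  obtain ⟨B₂, hB₂, ht⟩ : ∃ B₂ : SL(2, F), pr B₂ = pr B₁ ∧
      (B₂ : Matrix (Fin 2) (Fin 2) F) 0 0 + (B₂ : Matrix (Fin 2) (Fin 2) F) 1 1 = 1 := by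
    rcases trace_of_cube hb3 hb1 with e | e
    · exact ⟨B₁, rfl, e⟩
    · exact ⟨-B₁, pr_neg B₁, by simp; linear_combination -e⟩
  rw [← hB₂] at hab3 hab1
  rw [← map_mul] at hab3 hab1
  have htr := trace_of_cube hab3 hab1
  rw [trace_jSL_mul] at htr
  have hd := sl_det B₂
  set p := (B₂ : Matrix (Fin 2) (Fin 2) F) 0 0 with hp
  set q := (B₂ : Matrix (Fin 2) (Fin 2) F) 0 1 with hq
  set r := (B₂ : Matrix (Fin 2) (Fin 2) F) 1 0 with hr
  set s := (B₂ : Matrix (Fin 2) (Fin 2) F) 1 1 with hs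
  -- after possibly reflecting, `r = q + 1`
  have key : ∀ (u v : F) (h : u * (1 - u) - v * (v + 1) = 1) (g : PGL(2, F)),
      g⁻¹ * pr jSL * g = pr jSL → g⁻¹ * pr B₂ * g = pr (xSL u v h) →
      ∃ h' : PGL(2, F), h'⁻¹ * pr A * h' = pr jSL ∧ h'⁻¹ * pr B * h' = pr (xSL u₀ v₀ h₀) := by
    intro u v h g g1 g2
    obtain ⟨R, r1, r2⟩ := exists_rotation h2 h h₀
    refine ⟨h₁ * g * ProjGenLinGroup.mk R, ?_, ?_⟩
    · calc _ = (ProjGenLinGroup.mk R)⁻¹ * (g⁻¹ * (h₁⁻¹ * pr A * h₁) * g) * ProjGenLinGroup.mk R := by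
            group
        _ = _ := by rw [hA₁, g1, conj_pr r2]
    · calc _ = (ProjGenLinGroup.mk R)⁻¹ * (g⁻¹ * (h₁⁻¹ * pr B * h₁) * g) * ProjGenLinGroup.mk R := by
            group
        _ = _ := by rw [hB₁, ← hB₂, g2, conj_pr r1]
  rcases htr with e | e
  · refine key p q (by linear_combination hd - p * ht + q * e) 1 (by group) ?_
    rw [inv_one, one_mul, mul_one]
    refine congrArg pr (Subtype.ext ?_)
    ext i j
    fin_cases i <;> fin_cases j <;> simp [xSL, ← hp, ← hq, ← hr, ← hs]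
    all_goals first | linear_combination e | linear_combination ht
  · -- conjugate by `diag(1, -1)`: `q ↦ -q`, `r ↦ -r`, `J ↦ -J`
    refine key p (-q) (by linear_combination hd - p * ht + q * e)
      (ProjGenLinGroup.mk (GeneralLinearGroup.mkOfDetNeZero !![1, 0; 0, -1]
        (by simp [Matrix.det_fin_two_of]))) ?_ ?_
    · refine Eq.trans ?_ (pr_neg jSL)
      refine conj_pr ?_
      rw [show ((-jSL : SL(2, F)) : Matrix (Fin 2) (Fin 2) F) = -((jSL : SL(2, F)) : Matrix (Fin 2) (Fin 2) F) from rfl]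
      ext i j
      fin_cases i <;> fin_cases j <;>
        simp [GeneralLinearGroup.mkOfDetNeZero, jSL, Matrix.mul_apply]
    · refine conj_pr ?_
      ext i j
      fin_cases i <;> fin_cases j <;>
        simp [GeneralLinearGroup.mkOfDetNeZero, xSL, Matrix.mul_apply, ← hp, ← hq, ← hr, ← hs]
      all_goals first | linear_combination e | linear_combination -e | linear_combination ht | linear_combination -ht

/-- **Normal form of the third generator of an `A_5`.** -/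
theorem icosa_normal (h2 : (2 : F) ≠ 0) {u v : F} (h : u * (1 - u) - v * (v + 1) = 1) {c : PGL(2, F)}
    (hc : c ∈ lsub F) (c2 : c ^ 2 = 1) (c1 : c ≠ 1) (ac3 : (pr jSL * c) ^ 3 = 1)
    (ac1 : pr jSL * c ≠ 1) (bc2 : (pr (xSL u v h) * c) ^ 2 = 1) (bc1 : pr (xSL u v h) * c ≠ 1) :
    ∃ (s : F) (C : SL(2, F)), s * s = 5 ∧ pr C = c ∧
      ∀ F₁ : Subfield F, u ∈ F₁ → v ∈ F₁ → s ∈ F₁ →
        ∀ i j, (C : Matrix (Fin 2) (Fin 2) F) i j ∈ F₁ := by
  obtain ⟨C₀, rfl⟩ := hc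
  change pr C₀ ^ 2 = 1 at c2
  change pr C₀ ≠ 1 at c1
  change (pr jSL * pr C₀) ^ 3 = 1 at ac3
  change pr jSL * pr C₀ ≠ 1 at ac1
  change (pr (xSL u v h) * pr C₀) ^ 2 = 1 at bc2
  change pr (xSL u v h) * pr C₀ ≠ 1 at bc1
  rw [← map_mul] at ac3 ac1 bc2 bc1
  have hac := trace_of_cube ac3 ac1
  rw [trace_jSL_mul] at hac
  obtain ⟨C, hC, ht, htac, htbc⟩ : ∃ C : SL(2, F), pr C = pr C₀ ∧
      (C : Matrix (Fin 2) (Fin 2) F) 0 0 + (C : Matrix (Fin 2) (Fin 2) F) 1 1 = 0 ∧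
      (C : Matrix (Fin 2) (Fin 2) F) 1 0 - (C : Matrix (Fin 2) (Fin 2) F) 0 1 = 1 ∧
      u * (C : Matrix (Fin 2) (Fin 2) F) 0 0 + v * (C : Matrix (Fin 2) (Fin 2) F) 1 0
        + (v + 1) * (C : Matrix (Fin 2) (Fin 2) F) 0 1
        + (1 - u) * (C : Matrix (Fin 2) (Fin 2) F) 1 1 = 0 := by
    have t1 := trace_of_sq c2 c1
    have t2 := trace_of_sq bc2 bc1
    rw [trace_xSL_mul] at t2
    rcases hac with e | e
    · exact ⟨C₀, rfl, t1, by linear_combination e, by linear_combination t2⟩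
    · refine ⟨-C₀, pr_neg C₀, ?_, ?_, ?_⟩
      · simp; linear_combination -t1
      · simp; linear_combination -e
      · simp; linear_combination -t2
  have hd := sl_det C
  set a := (C : Matrix (Fin 2) (Fin 2) F) 0 0 with ha
  set b := (C : Matrix (Fin 2) (Fin 2) F) 0 1 with hb
  set r := (C : Matrix (Fin 2) (Fin 2) F) 1 0 with hr
  set d := (C : Matrix (Fin 2) (Fin 2) F) 1 1 with hd'
  have hda : d = -a := by linear_combination ht
  have hrb : r = b + 1 := by linear_combination htac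
  rw [hda, hrb] at hd htbc
  refine ⟨2 * a * (2 * v + 1) - (2 * b + 1) * (2 * u - 1), C, ?_, hC, ?_⟩
  · -- `(AU + BV)² + (AV - BU)² = (A² + B²)(U² + V²) = 6`
    linear_combination (-4 * (4 * u * u - 4 * u + 4 * v * v + 4 * v + 2)) * hd + (-4 * (-3)) * h
      + (-(2 * a * (2 * u - 1) + (2 * b + 1) * (2 * v + 1) + 1) * 2) * htbc
  intro F₁ hu hv hs
  have h4 : (4 : F) ≠ 0 := by rw [show (4 : F) = 2 * 2 by norm_num]; exact mul_ne_zero h2 h2
  have nat_mem : ∀ n : ℕ, (n : F) ∈ F₁ := fun n => natCast_mem F₁ n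
  have hU : 2 * u - 1 ∈ F₁ := sub_mem (mul_mem (by simpa using nat_mem 2) hu) (one_mem _)
  have hV : 2 * v + 1 ∈ F₁ := add_mem (mul_mem (by simpa using nat_mem 2) hv) (one_mem _)
  have hainv : (4 : F)⁻¹ ∈ F₁ := inv_mem (by simpa using nat_mem 4)
  set s := 2 * a * (2 * v + 1) - (2 * b + 1) * (2 * u - 1) with hsdef
  have hA : a = -((2 * u - 1) + (2 * v + 1) * s) * (4 : F)⁻¹ := by
    rw [eq_mul_inv_iff_mul_eq₀ h4, hsdef]
    linear_combination (-8 * a) * h - 2 * (2 * u - 1) * htbc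
  have hB : b = (-((2 * v + 1) - (2 * u - 1) * s) - 2) * (4 : F)⁻¹ := by
    rw [eq_mul_inv_iff_mul_eq₀ h4, hsdef]
    linear_combination (-4 * (2 * b + 1)) * h - 2 * (2 * v + 1) * htbc
  have hamem : a ∈ F₁ := hA ▸ mul_mem (neg_mem (add_mem hU (mul_mem hV hs))) hainv
  have hbmem : b ∈ F₁ := hB ▸ mul_mem (sub_mem (neg_mem (sub_mem hV (mul_mem hU hs)))
    (by simpa using nat_mem 2)) hainv
  intro i j
  fin_cases i <;> fin_cases j
  · exact hamem
  · exact hbmem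
  · show (C : Matrix (Fin 2) (Fin 2) F) 1 0 ∈ F₁
    rw [← hr, hrb]; exact add_mem hbmem (one_mem _)
  · show (C : Matrix (Fin 2) (Fin 2) F) 1 1 ∈ F₁
    rw [← hd', hda]; exact neg_mem hamem

end Cfsg.Agent.MaxSub.Dickson
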