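import Cfsg.Agent.PermB.Mobius
import Mathlib.Algebra.CharP.Basic
import Mathlib.FieldTheory.IsAlgClosed.Basic
import Mathlib.GroupTheory.GroupAction.Blocks

/-!
`PGL(2, K)` on the projective line `OnePoint K`: the affine maps, fixed points, and the dichotomy
"one fixed point and order `p`" / "two fixed points and order prime to `p`".
-/

set_option autoImplicit false
set_option linter.unusedSectionVars false

open scoped OnePoint MatrixGroups

namespace Cfsg.Agent.MaxSub.Dickson

open Matrix OnePoint Cfsg.Agent.PermB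

variable {K : Type*} [Field K] [DecidableEq K]

/-- The action of `PGL(2, K)` on the projective line. -/
noncomputable scoped instance pglAction : MulAction PGL(2, K) (OnePoint K) :=
  Matrix.ProjGenLinGroup.mulActionOfGL Mobius.scalar_smul

theorem mk_smul (A : GL (Fin 2) K) (x : OnePoint K) : ProjGenLinGroup.mk A • x = A • x := rfl

theorem smul_eq_pglPerm (g : PGL(2, K)) (x : OnePoint K) : g • x = Mobius.pglPerm g x := by
  induction g using ProjGenLinGroup.induction_on with | mk A => rfl

theorem ext_smul {g h : PGL(2, K)} (he : ∀ x : OnePoint K, g • x = h • x) : g = h :=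
  Mobius.pglPerm_injective (Equiv.ext fun x => by rw [← smul_eq_pglPerm, he, smul_eq_pglPerm])

/-- The affine map `x ↦ u x + v`. -/
noncomputable def aff (u : Kˣ) (v : K) : PGL(2, K) :=
  ProjGenLinGroup.mk
    (GeneralLinearGroup.mkOfDetNeZero !![(u : K), v; 0, 1] (by simp [Matrix.det_fin_two]))

/-- The map `x ↦ 1 / x`. -/
noncomputable def recipP : PGL(2, K) :=
  ProjGenLinGroup.mk
    (GeneralLinearGroup.mkOfDetNeZero !![(0 : K), 1; 1, 0] (by simp [Matrix.det_fin_two]))

theorem aff_infty (u : Kˣ) (v : K) : aff u v • (∞ : OnePoint K) = ∞ := Mobius.affPerm_infty u v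

theorem aff_coe (u : Kˣ) (v x : K) :
    aff u v • (x : OnePoint K) = ((u * x + v : K) : OnePoint K) := Mobius.affPerm_coe u v x

theorem recipP_infty : (recipP : PGL(2, K)) • (∞ : OnePoint K) = ((0 : K) : OnePoint K) := Mobius.invPerm_infty

theorem recipP_coe (x : K) : (recipP : PGL(2, K)) • (x : OnePoint K) =
    if x = 0 then ∞ else ((x⁻¹ : K) : OnePoint K) := Mobius.invPerm_coe x

theorem recipP_zero : (recipP : PGL(2, K)) • ((0 : K) : OnePoint K) = ∞ := by simp [recipP_coe]

theorem aff_mul (u u' : Kˣ) (v v' : K) : aff u v * aff u' v' = aff (u * u') (u * v' + v) := by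
  refine ext_smul fun x => ?_
  rw [mul_smul]
  cases x with
  | infty => simp [aff_infty]
  | coe x => simp [aff_coe]; ring

theorem aff_one : aff (1 : Kˣ) 0 = 1 := by
  refine ext_smul fun x => ?_
  cases x with
  | infty => simp [aff_infty]
  | coe x => simp [aff_coe]

theorem aff_inj {u u' : Kˣ} {v v' : K} (h : aff u v = aff u' v') : u = u' ∧ v = v' := by
  have h0 := congrArg (· • ((0 : K) : OnePoint K)) h
  have h1 := congrArg (· • ((1 : K) : OnePoint K)) h
  simp only [aff_coe, OnePoint.coe_eq_coe, mul_zero, zero_add, mul_one] at h0 h1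
  subst h0
  exact ⟨Units.ext (add_right_cancel h1), rfl⟩

theorem aff_eq_one_iff {u : Kˣ} {v : K} : aff u v = 1 ↔ u = 1 ∧ v = 0 :=
  ⟨fun h => aff_inj (h.trans aff_one.symm), fun h => by rw [h.1, h.2, aff_one]⟩

/-- The stabiliser of `∞` consists of the affine maps. -/
theorem exists_aff {g : PGL(2, K)} (h : g • (∞ : OnePoint K) = ∞) :
    ∃ u v, g = aff u v := by
  induction g using ProjGenLinGroup.induction_on with | mk A =>
  rw [mk_smul, OnePoint.smul_infty_eq_self_iff] at h
  have hdet : (A : Matrix (Fin 2) (Fin 2) K).det ≠ 0 := A.det_ne_zero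
  rw [Matrix.det_fin_two, h, mul_zero, sub_zero, mul_ne_zero_iff] at hdet
  refine ⟨Units.mk0 _ (div_ne_zero hdet.1 hdet.2), A 0 1 / A 1 1, ext_smul fun x => ?_⟩
  cases x with
  | infty => rw [aff_infty, mk_smul, OnePoint.smul_infty_eq_self_iff]; exact h
  | coe x =>
    rw [aff_coe, mk_smul, OnePoint.smul_some_eq_ite, h]
    simp [hdet.2]
    field_simp

/-- Any two distinct points are images of `∞` and `0`; any third one of `1`. -/
theorem exists_move_three {a b c : OnePoint K} (hab : a ≠ b) (hac : a ≠ c) (hbc : b ≠ c) :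
    ∃ h : PGL(2, K), h • (∞ : OnePoint K) = a ∧ h • ((0 : K) : OnePoint K) = b ∧
      h • ((1 : K) : OnePoint K) = c := by
  suffices ∀ a b c : OnePoint K, a = ∞ → a ≠ b → a ≠ c → b ≠ c →
      ∃ h : PGL(2, K), h • (∞ : OnePoint K) = a ∧ h • ((0 : K) : OnePoint K) = b ∧
        h • ((1 : K) : OnePoint K) = c by
    induction a using OnePoint.rec with
    | infty => exact this _ b c rfl hab hac hbc
    | coe k =>
      set e : PGL(2, K) := recipP * aff 1 (-k) with he
      have hek : e • ((k : K) : OnePoint K) = ∞ := by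
        rw [he, mul_smul, aff_coe]; simp [recipP_zero]
      obtain ⟨h, h1, h2, h3⟩ := this (e • (k : OnePoint K)) (e • b) (e • c) hek
        (fun h => hab ((MulAction.injective e) h)) (fun h => hac ((MulAction.injective e) h))
        (fun h => hbc ((MulAction.injective e) h))
      exact ⟨e⁻¹ * h, by rw [mul_smul, h1, inv_smul_smul],
        by rw [mul_smul, h2, inv_smul_smul], by rw [mul_smul, h3, inv_smul_smul]⟩
  rintro a b c rfl hab hac hbc
  induction b using OnePoint.rec with
  | infty => exact absurd rfl hab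
  | coe b =>
    induction c using OnePoint.rec with
    | infty => exact absurd rfl hac
    | coe c =>
      have hne : c - b ≠ 0 := sub_ne_zero.2 fun h => hbc (by rw [h])
      exact ⟨aff (Units.mk0 _ hne) b, aff_infty _ _, by rw [aff_coe]; simp,
        by rw [aff_coe]; simp⟩

theorem exists_move_two {a b : OnePoint K} (hab : a ≠ b) :
    ∃ h : PGL(2, K), h • (∞ : OnePoint K) = a ∧ h • ((0 : K) : OnePoint K) = b := by
  obtain ⟨c, hc⟩ : ∃ c : OnePoint K, a ≠ c ∧ b ≠ c := by
    by_contra hh
    push Not at hh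
    have h1 := hh ∞
    have h2 := hh ((0 : K) : OnePoint K)
    have h3 := hh ((1 : K) : OnePoint K)
    have e1 : (∞ : OnePoint K) ≠ ((0 : K) : OnePoint K) := OnePoint.infty_ne_coe _
    have e2 : (∞ : OnePoint K) ≠ ((1 : K) : OnePoint K) := OnePoint.infty_ne_coe _
    have e3 : ((0 : K) : OnePoint K) ≠ ((1 : K) : OnePoint K) := by simp
    by_cases ha : a = ∞
    · exact e3 ((h2 (ha ▸ e1)).symm.trans (h3 (ha ▸ e2)))
    · by_cases ha0 : a = ((0 : K) : OnePoint K)
      · exact e2 ((h1 ha).symm.trans (h3 (ha0 ▸ e3)))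
      · exact e1 ((h1 ha).symm.trans (h2 ha0))
  obtain ⟨h, h1, h2, -⟩ := exists_move_three hab hc.1 hc.2
  exact ⟨h, h1, h2⟩

theorem exists_move (a : OnePoint K) : ∃ h : PGL(2, K), h • (∞ : OnePoint K) = a := by
  by_cases h : a = ∞
  · exact ⟨1, by rw [one_smul, h]⟩
  · obtain ⟨e, he, -⟩ := exists_move_two h
    exact ⟨e, he⟩

/-- An element fixing three points is trivial. -/
theorem eq_one_of_three {g : PGL(2, K)} {a b c : OnePoint K} (hab : a ≠ b) (hac : a ≠ c)
    (hbc : b ≠ c) (ha : g • a = a) (hb : g • b = b) (hc : g • c = c) : g = 1 := by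
  obtain ⟨h, h1, h2, h3⟩ := exists_move_three hab hac hbc
  have key : ∀ x : OnePoint K, g • (h • x) = h • x → (h⁻¹ * g * h) • x = x := fun x hx => by
    rw [mul_smul, mul_smul, hx, inv_smul_smul]
  obtain ⟨u, v, huv⟩ := exists_aff (key ∞ (by rw [h1, ha]))
  have e0 := key ((0 : K) : OnePoint K) (by rw [h2, hb])
  have e1 := key ((1 : K) : OnePoint K) (by rw [h3, hc])
  rw [huv, aff_coe, OnePoint.coe_eq_coe] at e0 e1
  simp only [mul_zero, zero_add, mul_one] at e0 e1
  subst e0
  rw [add_zero] at e1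
  have : h⁻¹ * g * h = 1 := by rw [huv, aff_eq_one_iff]; exact ⟨Units.ext e1, rfl⟩
  calc g = h * (h⁻¹ * g * h) * h⁻¹ := by group
    _ = 1 := by rw [this]; group

/-- Two elements agreeing at three points are equal. -/
theorem eq_of_three {g g' : PGL(2, K)} {a b c : OnePoint K} (hab : a ≠ b) (hac : a ≠ c)
    (hbc : b ≠ c) (ha : g • a = g' • a) (hb : g • b = g' • b) (hc : g • c = g' • c) : g = g' := by
  have : g'⁻¹ * g = 1 := eq_one_of_three hab hac hbc
    (by rw [mul_smul, ha, inv_smul_smul]) (by rw [mul_smul, hb, inv_smul_smul])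
    (by rw [mul_smul, hc, inv_smul_smul])
  exact (inv_mul_eq_one.1 this).symm

variable {p : ℕ} [Fact p.Prime] [CharP K p]

theorem aff_one_pow (v : K) (n : ℕ) : aff (1 : Kˣ) v ^ n = aff 1 (n * v) := by
  induction n with
  | zero => simp [aff_one]
  | succ n ih => rw [pow_succ, ih, aff_mul, mul_one]; congr 1; push_cast; ring

theorem aff_pow (u : Kˣ) (v : K) (n : ℕ) : ∃ w : K, aff u v ^ n = aff (u ^ n) w := by
  induction n with
  | zero => exact ⟨0, by rw [pow_zero, pow_zero, aff_one]⟩
  | succ n ih =>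
    obtain ⟨w, hw⟩ := ih
    exact ⟨_, by rw [pow_succ, hw, aff_mul, ← pow_succ]⟩

theorem units_eq_one_of_pow_char {u : Kˣ} (h : u ^ p = 1) : u = 1 := by
  refine Units.ext ?_
  have h' : ((u : K) - 1) ^ p = 0 := by
    rw [sub_pow_char, one_pow, ← Units.val_pow_eq_pow_val, h, Units.val_one, sub_self]
  exact sub_eq_zero.1 (pow_eq_zero_iff (Fact.out : p.Prime).ne_zero |>.1 h')

/-- The kernel of the multiplier: translations have order dividing `p`. -/
theorem aff_pow_char_eq_one_iff {u : Kˣ} {v : K} : aff u v ^ p = 1 ↔ u = 1 := by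
  constructor
  · intro h
    obtain ⟨w, hw⟩ := aff_pow u v p
    rw [hw, aff_eq_one_iff] at h
    exact units_eq_one_of_pow_char h.1
  · rintro rfl
    rw [aff_one_pow, CharP.cast_eq_zero, zero_mul, aff_one]

/-- Fixed points of an affine map with non-trivial multiplier. -/
theorem aff_fixed_of_ne {u : Kˣ} {v : K} (hu : u ≠ 1) (x : OnePoint K) :
    aff u v • x = x ↔ x = ∞ ∨ x = ((v / (1 - u) : K) : OnePoint K) := by
  have h1 : (1 : K) - u ≠ 0 := sub_ne_zero.2 fun h => hu (Units.ext h.symm)
  induction x using OnePoint.rec with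
  | infty => simp [aff_infty]
  | coe x =>
    simp only [aff_coe, OnePoint.coe_eq_coe, OnePoint.coe_ne_infty, false_or]
    rw [eq_div_iff h1]
    constructor <;> intro h <;> linear_combination -h

/-- Fixed points of a translation. -/
theorem aff_fixed_of_one {v : K} (hv : v ≠ 0) (x : OnePoint K) :
    aff (1 : Kˣ) v • x = x ↔ x = ∞ := by
  induction x using OnePoint.rec with
  | infty => simp [aff_infty]
  | coe x => simp [aff_coe, hv]

/-- A non-trivial element with `g ^ p = 1` fixes at most one point. -/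
theorem fixed_unique {g : PGL(2, K)} (hg : g ≠ 1) (hp : g ^ p = 1) {a b : OnePoint K}
    (ha : g • a = a) (hb : g • b = b) : a = b := by
  obtain ⟨h, rfl⟩ := exists_move a
  obtain ⟨u, v, huv⟩ := exists_aff (g := h⁻¹ * g * h) (by rw [mul_smul, mul_smul, ha, inv_smul_smul])
  have hp' : aff u v ^ p = 1 := by
    rw [← huv, show h⁻¹ * g * h = h⁻¹ * g * (h⁻¹)⁻¹ by rw [inv_inv], conj_pow, hp]
    group
  rw [aff_pow_char_eq_one_iff] at hp'
  subst hp'
  have hv : v ≠ 0 := by
    rintro rfl
    rw [aff_one] at huv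
    exact hg (by simpa [mul_assoc, mul_inv_eq_one, inv_mul_eq_one] using huv)
  have : (h⁻¹ * g * h) • (h⁻¹ • b) = h⁻¹ • b := by
    rw [mul_smul, mul_smul, smul_inv_smul, hb]
  rw [huv, aff_fixed_of_one hv] at this
  rw [← this, smul_inv_smul]

/-- An element with `g ^ p ≠ 1` fixing a point fixes exactly two. -/
theorem exists_second_fixed {g : PGL(2, K)} (hp : g ^ p ≠ 1) {a : OnePoint K} (ha : g • a = a) :
    ∃ b, b ≠ a ∧ g • b = b := by
  obtain ⟨h, rfl⟩ := exists_move a
  obtain ⟨u, v, huv⟩ := exists_aff (g := h⁻¹ * g * h) (by rw [mul_smul, mul_smul, ha, inv_smul_smul])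
  have hu : u ≠ 1 := by
    rintro rfl
    apply hp
    have : g = h * (h⁻¹ * g * h) * h⁻¹ := by group
    rw [this, huv, conj_pow, aff_pow_char_eq_one_iff.2 rfl]
    group
  refine ⟨h • ((v / (1 - u) : K) : OnePoint K), fun e => ?_, ?_⟩
  · exact OnePoint.coe_ne_infty _ (MulAction.injective h e)
  · have := (aff_fixed_of_ne (v := v) hu _).2 (Or.inr rfl)
    rw [← huv, mul_smul, mul_smul] at this
    exact inv_smul_eq_iff.1 this

/-- Every element fixes a point when `K` is algebraically closed. -/
theorem exists_fixed [IsAlgClosed K] (g : PGL(2, K)) : ∃ x : OnePoint K, g • x = x := by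
  induction g using ProjGenLinGroup.induction_on with | mk A =>
  by_cases hc : A 1 0 = 0
  · exact ⟨∞, by rw [mk_smul, OnePoint.smul_infty_eq_self_iff]; exact hc⟩
  obtain ⟨x, hx⟩ := IsAlgClosed.exists_root
    (Polynomial.C (A 1 0) * Polynomial.X ^ 2 + Polynomial.C (A 1 1 - A 0 0) * Polynomial.X
      + Polynomial.C (-(A 0 1))) (by rw [Polynomial.degree_quadratic hc]; decide)
  refine ⟨(x : OnePoint K), ?_⟩
  rw [mk_smul, ← Matrix.GeneralLinearGroup.fixpointPolynomial_aeval_eq_zero_iff]
  simp only [Polynomial.IsRoot, Polynomial.eval_add, Polynomial.eval_mul, Polynomial.eval_C,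
    Polynomial.eval_pow, Polynomial.eval_X] at hx
  simp only [Matrix.GeneralLinearGroup.fixpointPolynomial, map_sub, map_mul, map_add,
    Polynomial.aeval_X_pow, Polynomial.aeval_C, Polynomial.aeval_X,
    Algebra.algebraMap_self_apply]
  linear_combination hx

end Cfsg.Agent.MaxSub.Dickson
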